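import Mathlib

set_option autoImplicit false

/-!
# The number of nilpotent endomorphisms of a finite vector space (Fine–Herstein)

We follow the cyclic vector recursion: counting pairs `(N, v)` of a nilpotent endomorphism and a
vector by the dimension of the cyclic subspace generated by `v`.
-/

namespace Cfsg.Agent.Helper39

open Module

universe u

section krylov

variable {F : Type*} [Field F] {V : Type u} [AddCommGroup V] [Module F V]

theorem pow_apply_eq_zero_of_le (N : Module.End F V) (v : V) (m : ℕ) (h0 : (N ^ m) v = 0)
    (a : ℕ) (ha : m ≤ a) : (N ^ a) v = 0 := by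
  obtain ⟨b, rfl⟩ := Nat.exists_eq_add_of_le ha
  rw [add_comm, pow_add, Module.End.mul_apply, h0, map_zero]

/-- The Krylov vectors `v, N v, …, N^(m-1) v` are linearly independent when `N^m v = 0` and
`N^(m-1) v ≠ 0`. -/
theorem krylov_linearIndependent (N : Module.End F V) (v : V) (m : ℕ) (h0 : (N ^ m) v = 0)
    (hne : ∀ j < m, (N ^ j) v ≠ 0) :
    LinearIndependent F (fun i : Fin m => (N ^ (i : ℕ)) v) := by
  rw [Fintype.linearIndependent_iff]
  intro g hg
  have key : ∀ k : ℕ, ∀ i : Fin m, (i : ℕ) = k → g i = 0 := by
    intro k
    induction k using Nat.strong_induction_on with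
    | _ k ih =>
      intro i hik
      have hkm : k < m := hik ▸ i.2
      have h1 := congrArg (N ^ (m - 1 - k)) hg
      rw [map_sum, map_zero, Finset.sum_eq_single i] at h1
      · rw [map_smul, ← Module.End.mul_apply, ← pow_add, hik] at h1
        have e : m - 1 - k + k = m - 1 := by omega
        rw [e] at h1
        rcases smul_eq_zero.mp h1 with h | h
        · exact h
        · exact absurd h (hne (m - 1) (by omega))
      · intro j _ hji
        rw [map_smul]
        rcases lt_or_gt_of_ne (fun h => hji (Fin.ext h) : (j : ℕ) ≠ (i : ℕ)) with hlt | hgt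
        · rw [ih j (hik ▸ hlt) j rfl, zero_smul]
        · rw [← Module.End.mul_apply, ← pow_add,
            pow_apply_eq_zero_of_le N v m h0 _ (by omega), smul_zero]
      · intro h
        exact absurd (Finset.mem_univ i) h
  intro i
  exact key i i rfl

/-- The shifted family: `w (i+1)`, or `0` at the last index. -/
def shiftVal {m : ℕ} (w : Fin m → V) (i : Fin m) : V :=
  if h : (i : ℕ) + 1 < m then w ⟨i + 1, h⟩ else 0

/-- If `N` shifts `w`, then `N^j (w i) = w (i + j)` or `0`. -/
theorem pow_apply_of_shift {m : ℕ} (w : Fin m → V) (N : Module.End F V)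
    (hN : ∀ i, N (w i) = shiftVal w i) (j : ℕ) (i : Fin m) :
    (N ^ j) (w i) = if h : (i : ℕ) + j < m then w ⟨i + j, h⟩ else 0 := by
  induction j generalizing i with
  | zero => simp
  | succ j ih =>
    rw [pow_succ, Module.End.mul_apply, hN i]
    unfold shiftVal
    by_cases h : (i : ℕ) + 1 < m
    · rw [dif_pos h, ih]
      by_cases h2 : (i : ℕ) + (j + 1) < m
      · rw [dif_pos h2, dif_pos (by simpa [add_assoc, add_comm 1 j] using h2)]
        congr 1
        apply Fin.ext
        simp [add_assoc, add_comm 1 j]
      · rw [dif_neg h2, dif_neg (by simpa [add_assoc, add_comm 1 j] using h2)]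
    · rw [dif_neg h, map_zero, dif_neg (by omega)]

end krylov

section fiber

variable {F : Type*} [Field F] {V : Type u} [AddCommGroup V] [Module F V]
variable {m : ℕ} (w : Fin m → V) (C : Submodule F V)
  (hC : IsCompl (Submodule.span F (Set.range w)) C)

theorem shiftVal_mem (i : Fin m) : shiftVal w i ∈ Submodule.span F (Set.range w) := by
  unfold shiftVal
  split_ifs with h
  · exact Submodule.subset_span (Set.mem_range_self _)
  · exact Submodule.zero_mem _

theorem shift_invariant (N : Module.End F V) (hN : ∀ i, N (w i) = shiftVal w i) (x : V)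
    (hx : x ∈ Submodule.span F (Set.range w)) : N x ∈ Submodule.span F (Set.range w) := by
  induction hx using Submodule.span_induction with
  | mem x hx =>
    obtain ⟨i, rfl⟩ := hx
    rw [hN i]
    exact shiftVal_mem w i
  | zero => rw [map_zero]; exact Submodule.zero_mem _
  | add x y _ _ hx hy => rw [map_add]; exact Submodule.add_mem _ hx hy
  | smul a x _ hx => rw [map_smul]; exact Submodule.smul_mem _ a hx

theorem shift_pow_eq_zero (N : Module.End F V) (hN : ∀ i, N (w i) = shiftVal w i) (x : V)
    (hx : x ∈ Submodule.span F (Set.range w)) : (N ^ m) x = 0 := by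
  induction hx using Submodule.span_induction with
  | mem x hx =>
    obtain ⟨i, rfl⟩ := hx
    rw [pow_apply_of_shift w N hN m i, dif_neg (by omega)]
  | zero => rw [map_zero]
  | add x y _ _ hx hy => rw [map_add, hx, hy, add_zero]
  | smul a x _ hx => rw [map_smul, hx, smul_zero]

/-- The compression of `N` to the complement `C`. -/
noncomputable def compress (N : Module.End F V) : Module.End F C :=
  (C.projectionOnto _ hC.symm) ∘ₗ N ∘ₗ C.subtype

include hC in
theorem proj_pow (N : Module.End F V) (hN : ∀ i, N (w i) = shiftVal w i) (k : ℕ) (x : V) :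
    C.projectionOnto _ hC.symm ((N ^ k) x) =
      ((compress w C hC N) ^ k) (C.projectionOnto _ hC.symm x) := by
  induction k with
  | zero => simp
  | succ k ih =>
    rw [pow_succ', Module.End.mul_apply, pow_succ', Module.End.mul_apply, ← ih]
    set y := (N ^ k) x with hy
    have hsplit := Submodule.projection_add_projection_eq_self hC y
    have h1 : N y = N ((Submodule.span F (Set.range w)).projection C hC y) +
        N (C.projection _ hC.symm y) := by
      rw [← map_add, hsplit]
    rw [h1, map_add]
    have h2 : C.projectionOnto _ hC.symm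
        (N ((Submodule.span F (Set.range w)).projection C hC y)) = 0 := by
      rw [Submodule.projectionOnto_apply_eq_zero_iff]
      exact shift_invariant w N hN _ (Submodule.projection_apply_mem hC y)
    rw [h2, zero_add]
    rfl

include hC in
theorem isNilpotent_iff_compress (N : Module.End F V) (hN : ∀ i, N (w i) = shiftVal w i) :
    IsNilpotent N ↔ IsNilpotent (compress w C hC N) := by
  constructor
  · rintro ⟨k, hk⟩
    refine ⟨k, ?_⟩
    ext c
    have := proj_pow w C hC N hN k (c : V)
    rw [hk, LinearMap.zero_apply, map_zero, Submodule.projectionOnto_apply_left] at this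
    rw [← this]
    rfl
  · rintro ⟨k, hk⟩
    refine ⟨m + k, ?_⟩
    ext x
    rw [pow_add, Module.End.mul_apply, LinearMap.zero_apply]
    apply shift_pow_eq_zero w N hN
    have := proj_pow w C hC N hN k x
    rw [hk, LinearMap.zero_apply, Submodule.projectionOnto_apply_eq_zero_iff] at this
    exact this

variable (hw : LinearIndependent F w)

/-- The shift map on the span of `w`. -/
noncomputable def shiftMap : Submodule.span F (Set.range w) →ₗ[F] V :=
  (Basis.span hw).constr F (shiftVal w)

theorem shiftMap_apply (i : Fin m) :
    shiftMap w hw ⟨w i, Submodule.subset_span (Set.mem_range_self i)⟩ = shiftVal w i := by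
  have : (⟨w i, Submodule.subset_span (Set.mem_range_self i)⟩ :
      Submodule.span F (Set.range w)) = Basis.span hw i :=
    (Basis.span_apply hw i).symm
  rw [this]
  exact Basis.constr_basis _ _ _ _

theorem shiftMap_eq (N : Module.End F V) (hN : ∀ i, N (w i) = shiftVal w i)
    (u : Submodule.span F (Set.range w)) : shiftMap w hw u = N u := by
  have : shiftMap w hw = N ∘ₗ (Submodule.span F (Set.range w)).subtype := by
    apply (Basis.span hw).ext
    intro i
    have e : Basis.span hw i = (⟨w i, Submodule.subset_span (Set.mem_range_self i)⟩ :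
        Submodule.span F (Set.range w)) := Basis.span_apply hw i
    rw [e, shiftMap_apply, LinearMap.comp_apply, Submodule.subtype_apply, hN]
  rw [this]
  rfl

/-- The endomorphism built from the shift on the span and `(R, N')` on the complement. -/
noncomputable def assemble (R : C →ₗ[F] Submodule.span F (Set.range w)) (N' : Module.End F C) :
    Module.End F V :=
  LinearMap.ofIsCompl hC (shiftMap w hw)
    ((Submodule.span F (Set.range w)).subtype ∘ₗ R + C.subtype ∘ₗ N')

theorem assemble_shift (R : C →ₗ[F] Submodule.span F (Set.range w)) (N' : Module.End F C)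
    (i : Fin m) : assemble w C hC hw R N' (w i) = shiftVal w i := by
  have := LinearMap.ofIsCompl_apply_left hC (φ := shiftMap w hw)
    (ψ := (Submodule.span F (Set.range w)).subtype ∘ₗ R + C.subtype ∘ₗ N')
    ⟨w i, Submodule.subset_span (Set.mem_range_self i)⟩
  rw [shiftMap_apply] at this
  exact this

theorem assemble_apply_right (R : C →ₗ[F] Submodule.span F (Set.range w)) (N' : Module.End F C)
    (c : C) : assemble w C hC hw R N' (c : V) = (R c : V) + (N' c : V) := by
  unfold assemble
  rw [LinearMap.ofIsCompl_apply_right]
  rfl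

theorem compress_assemble (R : C →ₗ[F] Submodule.span F (Set.range w)) (N' : Module.End F C) :
    compress w C hC (assemble w C hC hw R N') = N' := by
  ext c
  unfold compress
  rw [LinearMap.comp_apply, LinearMap.comp_apply, Submodule.subtype_apply, assemble_apply_right,
    map_add, Submodule.projectionOnto_apply_left]
  have : C.projectionOnto _ hC.symm ((R c : Submodule.span F (Set.range w)) : V) = 0 := by
    rw [Submodule.projectionOnto_apply_eq_zero_iff]
    exact (R c).2
  rw [this, zero_add]

theorem projW_assemble (R : C →ₗ[F] Submodule.span F (Set.range w)) (N' : Module.End F C) :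
    ((Submodule.span F (Set.range w)).projectionOnto C hC) ∘ₗ (assemble w C hC hw R N') ∘ₗ
      C.subtype = R := by
  ext c
  rw [LinearMap.comp_apply, LinearMap.comp_apply, Submodule.subtype_apply, assemble_apply_right,
    map_add, Submodule.projectionOnto_apply_left]
  have : (Submodule.span F (Set.range w)).projectionOnto C hC ((N' c : C) : V) = 0 := by
    rw [Submodule.projectionOnto_apply_eq_zero_iff]
    exact (N' c).2
  rw [this, add_zero]

theorem assemble_of (N : Module.End F V) (hN : ∀ i, N (w i) = shiftVal w i) :
    assemble w C hC hw (((Submodule.span F (Set.range w)).projectionOnto C hC) ∘ₗ N ∘ₗ C.subtype)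
      (compress w C hC N) = N := by
  unfold assemble
  apply LinearMap.ofIsCompl_eq hC
  · intro u
    exact shiftMap_eq w hw N hN u
  · intro c
    have := Submodule.projection_add_projection_eq_self hC (N (c : V))
    rw [← this]
    rfl

/-- Nilpotent endomorphisms shifting `w` correspond to pairs `(R, N')`, `N'` nilpotent on the
complement. -/
noncomputable def fiberEquiv :
    {N : Module.End F V // IsNilpotent N ∧ ∀ i, N (w i) = shiftVal w i} ≃
      (C →ₗ[F] Submodule.span F (Set.range w)) × {N' : Module.End F C // IsNilpotent N'} where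
  toFun N := (((Submodule.span F (Set.range w)).projectionOnto C hC) ∘ₗ N.1 ∘ₗ C.subtype,
    ⟨compress w C hC N.1, (isNilpotent_iff_compress w C hC N.1 N.2.2).mp N.2.1⟩)
  invFun p := ⟨assemble w C hC hw p.1 p.2.1,
    (isNilpotent_iff_compress w C hC _ (assemble_shift w C hC hw p.1 p.2.1)).mpr
      (by rw [compress_assemble]; exact p.2.2),
    assemble_shift w C hC hw p.1 p.2.1⟩
  left_inv N := Subtype.ext (assemble_of w C hC hw N.1 N.2.2)
  right_inv p := by
    apply Prod.ext
    · exact projW_assemble w C hC hw p.1 p.2.1
    · exact Subtype.ext (compress_assemble w C hC hw p.1 p.2.1)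

end fiber

section count

variable (F : Type*) [Field F] [Fintype F]

/-- The number of nilpotent endomorphisms of `V`. -/
noncomputable def nilCount (V : Type u) [AddCommGroup V] [Module F V] : ℕ :=
  Nat.card {N : Module.End F V // IsNilpotent N}

variable {F} {V : Type u} [AddCommGroup V] [Module F V] [Module.Finite F V]

theorem finite_linearMap {V' : Type*} [AddCommGroup V'] [Module F V'] [Module.Finite F V'] :
    Finite (V →ₗ[F] V') := by
  have : Finite V := Module.finite_of_finite F
  have : Finite V' := Module.finite_of_finite F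
  exact Finite.of_injective (fun f : V →ₗ[F] V' => (f : V → V')) DFunLike.coe_injective

theorem card_fiber {m : ℕ} (w : Fin m → V) (C : Submodule F V)
    (hC : IsCompl (Submodule.span F (Set.range w)) C) (hw : LinearIndependent F w) :
    Nat.card {N : Module.End F V // IsNilpotent N ∧ ∀ i, N (w i) = shiftVal w i} =
      Fintype.card F ^ (finrank F C * m) * nilCount F C := by
  rw [Nat.card_congr (fiberEquiv w C hC hw), Nat.card_prod, Module.natCard_eq_pow_finrank (K := F),
    Module.finrank_linearMap, finrank_span_eq_card hw, Fintype.card_fin, Nat.card_eq_fintype_card]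
  rfl

/-- `m` is the dimension of the cyclic subspace generated by `x.2` under `x.1`. -/
def IdxPred (m : ℕ) (x : Module.End F V × V) : Prop :=
  IsNilpotent x.1 ∧ (x.1 ^ m) x.2 = 0 ∧ ∀ j < m, (x.1 ^ j) x.2 ≠ 0

omit [Fintype F] [Module.Finite F V] in
theorem exists_pow_apply_eq_zero (x : Module.End F V × V) (h : IsNilpotent x.1) :
    ∃ k, (x.1 ^ k) x.2 = 0 := by
  obtain ⟨k, hk⟩ := h
  exact ⟨k, by rw [hk]; rfl⟩

omit [Fintype F] in
theorem idx_le (m : ℕ) (x : Module.End F V × V) (hx : IdxPred m x) : m ≤ finrank F V := by
  have := (krylov_linearIndependent x.1 x.2 m hx.2.1 hx.2.2).fintype_card_le_finrank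
  simpa using this

open Classical in
/-- Decomposition of the pairs `(N, v)` by the cyclic dimension. -/
noncomputable def sigmaEquiv :
    {x : Module.End F V × V // IsNilpotent x.1} ≃
      Σ m : Fin (finrank F V + 1), {x : Module.End F V × V // IdxPred (m : ℕ) x} where
  toFun x :=
    have hP : IdxPred (Nat.find (exists_pow_apply_eq_zero x.1 x.2)) x.1 :=
      ⟨x.2, Nat.find_spec (exists_pow_apply_eq_zero x.1 x.2),
        fun j hj => Nat.find_min (exists_pow_apply_eq_zero x.1 x.2) hj⟩
    ⟨⟨Nat.find (exists_pow_apply_eq_zero x.1 x.2), Nat.lt_succ_of_le (idx_le _ x.1 hP)⟩,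
      ⟨x.1, hP⟩⟩
  invFun y := ⟨y.2.1, y.2.2.1⟩
  left_inv x := rfl
  right_inv y := by
    apply Sigma.subtype_ext
    · apply Fin.ext
      show Nat.find _ = (y.1 : ℕ)
      rw [Nat.find_eq_iff]
      exact ⟨y.2.2.2.1, fun j hj => y.2.2.2.2 j hj⟩
    · rfl

omit [Fintype F] [Module.Finite F V] in
/-- Cyclic dimension `0` means `v = 0`. -/
def idxZeroEquiv :
    {x : Module.End F V × V // IdxPred 0 x} ≃ {N : Module.End F V // IsNilpotent N} where
  toFun x := ⟨x.1.1, x.2.1⟩
  invFun N := ⟨(N.1, 0), N.2, by simp, by simp⟩
  left_inv x := by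
    apply Subtype.ext
    apply Prod.ext
    · rfl
    · have := x.2.2.1
      simp only [pow_zero, Module.End.one_apply] at this
      exact this.symm
  right_inv N := rfl

omit [Fintype F] [Module.Finite F V] in
/-- Cyclic dimension `m ≥ 1`: the pair is determined by the Krylov basis `w` and `N` shifting
`w`. -/
noncomputable def idxPosEquiv (m : ℕ) (hm : 0 < m) :
    {x : Module.End F V × V // IdxPred m x} ≃
      Σ w : {w : Fin m → V // LinearIndependent F w},
        {N : Module.End F V // IsNilpotent N ∧ ∀ i, N (w.1 i) = shiftVal w.1 i} where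
  toFun x := ⟨⟨fun i => (x.1.1 ^ (i : ℕ)) x.1.2,
      krylov_linearIndependent x.1.1 x.1.2 m x.2.2.1 x.2.2.2⟩,
    ⟨x.1.1, x.2.1, by
      intro i
      unfold shiftVal
      rw [← Module.End.mul_apply, ← pow_succ']
      split_ifs with h
      · rfl
      · have : (i : ℕ) + 1 = m := by omega
        rw [this]
        exact x.2.2.1⟩⟩
  invFun y := ⟨(y.2.1, y.1.1 ⟨0, hm⟩), y.2.2.1, by
      show (y.2.1 ^ m) (y.1.1 ⟨0, hm⟩) = 0
      rw [pow_apply_of_shift y.1.1 y.2.1 y.2.2.2 m ⟨0, hm⟩, dif_neg (by simp)], by
      intro j hj
      show (y.2.1 ^ j) (y.1.1 ⟨0, hm⟩) ≠ 0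
      rw [pow_apply_of_shift y.1.1 y.2.1 y.2.2.2 j ⟨0, hm⟩, dif_pos (by simpa using hj)]
      exact y.1.2.ne_zero _⟩
  left_inv x := by
    apply Subtype.ext
    apply Prod.ext
    · rfl
    · simp
  right_inv y := by
    apply Sigma.subtype_ext
    · apply Subtype.ext
      funext i
      show (y.2.1 ^ (i : ℕ)) (y.1.1 ⟨0, hm⟩) = y.1.1 i
      rw [pow_apply_of_shift y.1.1 y.2.1 y.2.2.2 i ⟨0, hm⟩, dif_pos (by simp)]
      apply congrArg
      apply Fin.ext
      simp
    · rfl

theorem card_pairs :
    Nat.card {x : Module.End F V × V // IsNilpotent x.1} =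
      Fintype.card F ^ finrank F V * nilCount F V := by
  rw [Nat.card_congr Equiv.prodSubtypeFstEquivSubtypeProd, Nat.card_prod,
    Module.natCard_eq_pow_finrank (K := F) (V := V), Nat.card_eq_fintype_card (α := F), mul_comm]
  rfl

/-- The number of pairs of cyclic dimension `m ≥ 1`, given the count for the complements. -/
theorem card_idxPos (n : ℕ) (hn : finrank F V = n) (m : ℕ) (hm : 0 < m) (hmn : m ≤ n)
    (IH : ∀ C : Submodule F V, finrank F C < n →
      nilCount F C = Fintype.card F ^ (finrank F C * (finrank F C - 1))) :
    Nat.card {x : Module.End F V × V // IdxPred m x} =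
      (∏ i : Fin m, (Fintype.card F ^ n - Fintype.card F ^ (i : ℕ))) *
        Fintype.card F ^ ((n - m) * (n - 1)) := by
  have hfinV : Finite V := Module.finite_of_finite F
  have hfinE : Finite (Module.End F V) := finite_linearMap
  let _ : Fintype {w : Fin m → V // LinearIndependent F w} := Fintype.ofFinite _
  rw [Nat.card_congr (idxPosEquiv m hm), Nat.card_sigma]
  have hfib : ∀ w : {w : Fin m → V // LinearIndependent F w},
      Nat.card {N : Module.End F V // IsNilpotent N ∧ ∀ i, N (w.1 i) = shiftVal w.1 i} =
        Fintype.card F ^ ((n - m) * (n - 1)) := by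
    intro w
    obtain ⟨C, hC⟩ := Submodule.exists_isCompl (Submodule.span F (Set.range w.1))
    have hdim := Submodule.finrank_add_eq_of_isCompl hC
    rw [finrank_span_eq_card w.2, Fintype.card_fin, hn] at hdim
    have hCdim : finrank F C = n - m := by omega
    rw [card_fiber w.1 C hC w.2, IH C (by omega), hCdim, ← pow_add]
    congr 1
    rcases Nat.eq_zero_or_pos (n - m) with h0 | hpos
    · rw [h0]; simp
    · have : m + (n - m - 1) = n - 1 := by omega
      rw [← Nat.mul_add, this]
  rw [Finset.sum_congr rfl (fun w _ => hfib w), Finset.sum_const, Finset.card_univ, smul_eq_mul,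
    ← Nat.card_eq_fintype_card, card_linearIndependent (by rw [hn]; exact hmn), hn]

end count

section arith

/-- The telescoping identity behind the count. -/
theorem tele_identity (q n : ℕ) (hq : 1 ≤ q) (j : ℕ) (hj : j ≤ n) :
    ∑ m ∈ Finset.range j, (∏ i : Fin m, (q ^ n - q ^ (i : ℕ))) * q ^ ((n - m) * (n - 1)) +
      (∏ i : Fin j, (q ^ n - q ^ (i : ℕ))) * q ^ ((n - j) * n) = q ^ (n * n) := by
  induction j with
  | zero => simp
  | succ j ih =>
    rw [← ih (by omega), Finset.sum_range_succ, add_assoc]
    congr 1
    rw [Fin.prod_univ_castSucc]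
    simp only [Fin.val_castSucc, Fin.val_last]
    obtain ⟨r, hr⟩ : ∃ r, n = j + r + 1 := ⟨n - j - 1, by omega⟩
    have e1 : n - j = r + 1 := by omega
    have e2 : n - (j + 1) = r := by omega
    have e3 : (r + 1) * (n - 1) = r * n + j := by
      have : n - 1 = j + r := by omega
      rw [this, hr]
      ring
    have hle : q ^ j ≤ q ^ n := Nat.pow_le_pow_right hq (by omega)
    rw [e1, e2, e3, pow_add, mul_assoc, ← Nat.mul_add]
    congr 1
    have : (r + 1) * n = r * n + n := by ring
    rw [this, pow_add]
    have h3 : q ^ (r * n) * q ^ j + (q ^ n - q ^ j) * q ^ (r * n) =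
        q ^ (r * n) * (q ^ j + (q ^ n - q ^ j)) := by ring
    rw [h3, Nat.add_sub_cancel' hle]

theorem tele_total (q n : ℕ) (hq : 1 ≤ q) :
    ∑ m ∈ Finset.range (n + 1), (∏ i : Fin m, (q ^ n - q ^ (i : ℕ))) * q ^ ((n - m) * (n - 1)) =
      q ^ (n * n) := by
  rw [Finset.sum_range_succ, ← tele_identity q n hq n le_rfl]
  simp

end arith

section main

variable {F : Type*} [Field F] [Fintype F]

/-- **Fine–Herstein**: an `n`-dimensional space over the field with `q` elements has
`q ^ (n (n - 1))` nilpotent endomorphisms. -/
theorem nilCount_eq (n : ℕ) : ∀ (V : Type u) [AddCommGroup V] [Module F V] [Module.Finite F V],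
    finrank F V = n → nilCount F V = Fintype.card F ^ (n * (n - 1)) := by
  induction n using Nat.strong_induction_on with
  | _ n ih =>
    intro V _ _ _ hn
    have hq : 1 < Fintype.card F := Fintype.one_lt_card
    rcases Nat.eq_zero_or_pos n with h0 | hpos
    · subst h0
      have hsub : Subsingleton V := Module.finrank_zero_iff.mp hn
      have : Subsingleton (Module.End F V) := ⟨fun f g => LinearMap.ext fun x => Subsingleton.elim _ _⟩
      have : Unique {N : Module.End F V // IsNilpotent N} :=
        { default := ⟨0, IsNilpotent.zero⟩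
          uniq := fun x => Subtype.ext (Subsingleton.elim _ _) }
      unfold nilCount
      rw [Nat.card_unique]
      simp
    · have hfinV : Finite V := Module.finite_of_finite F
      have hfinE : Finite (Module.End F V) := finite_linearMap
      have IH : ∀ C : Submodule F V, finrank F C < n →
          nilCount F C = Fintype.card F ^ (finrank F C * (finrank F C - 1)) :=
        fun C hC => ih _ hC C rfl
      have h1 : Fintype.card F ^ n * nilCount F V = nilCount F V +
          ∑ m ∈ Finset.range n, (∏ i : Fin (m + 1), (Fintype.card F ^ n - Fintype.card F ^ (i : ℕ))) *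
            Fintype.card F ^ ((n - (m + 1)) * (n - 1)) := by
        have hc := card_pairs (F := F) (V := V)
        rw [hn] at hc
        rw [← hc, Nat.card_congr sigmaEquiv, Nat.card_sigma]
        subst hn
        rw [Fin.sum_univ_succ, ← Fin.sum_univ_eq_sum_range
          (fun m => (∏ i : Fin (m + 1), (Fintype.card F ^ (finrank F V) - Fintype.card F ^ (i : ℕ))) *
            Fintype.card F ^ ((finrank F V - (m + 1)) * (finrank F V - 1)))]
        congr 1
        · exact Nat.card_congr idxZeroEquiv
        · apply Finset.sum_congr rfl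
          intro i _
          exact card_idxPos (finrank F V) rfl (i + 1) (Nat.succ_pos _) (by omega) IH
      have h2 := tele_total (Fintype.card F) n hq.le
      rw [Finset.sum_range_succ'] at h2
      simp only [Finset.univ_eq_empty, Finset.prod_empty, Nat.sub_zero, one_mul] at h2
      have e : n * n = n + n * (n - 1) := by
        obtain ⟨k, rfl⟩ : ∃ k, n = k + 1 := ⟨n - 1, by omega⟩
        simp only [Nat.add_sub_cancel]
        ring
      rw [e, pow_add] at h2
      obtain ⟨t, ht⟩ : ∃ t, Fintype.card F ^ n = t + 1 :=
        ⟨Fintype.card F ^ n - 1, by have := Nat.one_le_pow n _ (by omega : 0 < Fintype.card F); omega⟩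
      have ht1 : 0 < t := by
        have : 2 ≤ Fintype.card F ^ n := by
          calc 2 ≤ Fintype.card F := hq
            _ = Fintype.card F ^ 1 := (pow_one _).symm
            _ ≤ Fintype.card F ^ n := Nat.pow_le_pow_right (by omega) hpos
        omega
      rw [ht] at h1 h2
      have h3 : t * nilCount F V = t * Fintype.card F ^ (n * (n - 1)) := by
        have e1 : (t + 1) * nilCount F V = t * nilCount F V + nilCount F V := by ring
        have e2 : (t + 1) * Fintype.card F ^ (n * (n - 1)) =
            t * Fintype.card F ^ (n * (n - 1)) + Fintype.card F ^ (n * (n - 1)) := by ring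
        rw [e1] at h1
        rw [e2] at h2
        omega
      exact Nat.eq_of_mul_eq_mul_left ht1 h3

/-- The number of nilpotent `n × n` matrices over the field with `q` elements. -/
theorem card_isNilpotent_matrix (n : ℕ) :
    Nat.card {M : Matrix (Fin n) (Fin n) F // IsNilpotent M} = Fintype.card F ^ (n * (n - 1)) := by
  classical
  have hfin : finrank F (Fin n → F) = n := by simp
  rw [← nilCount_eq (F := F) n (Fin n → F) hfin]
  unfold nilCount
  apply Nat.card_congr
  refine Equiv.subtypeEquiv (Matrix.toLinAlgEquiv' (R := F) (n := Fin n)).toEquiv ?_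
  intro M
  constructor
  · intro h
    exact h.map (Matrix.toLinAlgEquiv' (R := F) (n := Fin n))
  · intro h
    have := h.map (Matrix.toLinAlgEquiv' (R := F) (n := Fin n)).symm
    simpa using this

end main

end Cfsg.Agent.Helper39
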