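import Mathlib

set_option autoImplicit false

/-! General lemmas on "redundant" Sylow subgroups (used for S4356, S4357). -/

namespace Cfsg.Agent.Helper39

open scoped Pointwise

variable {G : Type*} [Group G]

/-- `G` has a Sylow `p`-subgroup `Q` such that every `p`-element lies in another Sylow
`p`-subgroup. -/
def HasRedundantSylow (p : ℕ) (G : Type*) [Group G] : Prop :=
  ∃ Q : Sylow p G, ∀ x : G, (∃ k : ℕ, orderOf x = p ^ k) → ∃ P : Sylow p G, P ≠ Q ∧ x ∈ P

theorem mem_sylow_smul_iff {p : ℕ} (g x : G) (P : Sylow p G) :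
    x ∈ g • P ↔ g⁻¹ * x * g ∈ P := by
  show x ∈ ((g • P : Sylow p G) : Subgroup G) ↔ _
  rw [Sylow.coe_subgroup_smul, Subgroup.mem_pointwise_smul_iff_inv_smul_mem,
    MulAut.smul_def, ← map_inv, MulAut.conj_apply, inv_inv]
  rfl

/-- A `p`-subgroup normalizing a Sylow `p`-subgroup is contained in it. -/
theorem le_sylow_of_le_normalizer {p : ℕ} [Fact p.Prime] (P : Subgroup G) (hP : IsPGroup p P)
    (Q : Sylow p G) (h : P ≤ Subgroup.normalizer ((Q : Subgroup G) : Set G)) :
    P ≤ (Q : Subgroup G) := by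
  have h1 : P ⊓ Subgroup.normalizer ((Q : Subgroup G) : Set G) = P ⊓ (Q : Subgroup G) :=
    hP.inf_normalizer_sylow Q
  have h2 : P ⊓ Subgroup.normalizer ((Q : Subgroup G) : Set G) = P := inf_eq_left.mpr h
  rw [h2] at h1
  exact inf_eq_left.mp h1.symm

/-- Two Sylow subgroups, one normalizing the other, are equal. -/
theorem sylow_eq_of_le_normalizer {p : ℕ} [Fact p.Prime] (P Q : Sylow p G)
    (h : (P : Subgroup G) ≤ Subgroup.normalizer ((Q : Subgroup G) : Set G)) : P = Q := by
  have hle := le_sylow_of_le_normalizer (P : Subgroup G) P.isPGroup' Q h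
  exact Sylow.ext (P.is_maximal' Q.isPGroup' hle).symm

/-- A `p`-element normalizing a Sylow `p`-subgroup lies in it. -/
theorem mem_sylow_of_mem_normalizer {p : ℕ} [Fact p.Prime] (Q : Sylow p G) (x : G)
    (hx : ∃ k : ℕ, orderOf x = p ^ k)
    (h : x ∈ Subgroup.normalizer ((Q : Subgroup G) : Set G)) : x ∈ Q := by
  obtain ⟨k, hk⟩ := hx
  have hP : IsPGroup p (Subgroup.zpowers x) := by
    rintro ⟨y, hy⟩
    obtain ⟨j, rfl⟩ := Subgroup.mem_zpowers_iff.mp hy
    refine ⟨k, ?_⟩
    apply Subtype.ext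
    simp only [Subgroup.coe_pow, Subgroup.coe_one]
    rw [← zpow_natCast, ← zpow_mul, mul_comm, zpow_mul, zpow_natCast, ← hk, pow_orderOf_eq_one,
      one_zpow]
  have hle : Subgroup.zpowers x ≤ Subgroup.normalizer ((Q : Subgroup G) : Set G) := by
    rw [Subgroup.zpowers_le]; exact h
  exact le_sylow_of_le_normalizer _ hP Q hle (Subgroup.mem_zpowers x)

/-- Uniqueness of the Sylow subgroup through a suitable element: if all centralizers of noncentral
elements of `G` are abelian, `z` is a noncentral element of `Q` commuting with all of `Q`, then `Q`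
is the only Sylow `p`-subgroup containing `z`. -/
theorem sylow_unique_of_abelian_centralizers {p : ℕ} [Fact p.Prime] [Finite G]
    (hG : ∀ a : G, a ∉ Subgroup.center G → ∀ g h : G, g * a = a * g → h * a = a * h → g * h = h * g)
    (Q : Sylow p G) (z : G) (hzc : ∀ y ∈ Q, y * z = z * y)
    (hz : z ∉ Subgroup.center G) (P : Sylow p G) (hzP : z ∈ P) : P = Q := by
  obtain ⟨g, rfl⟩ := MulAction.exists_smul_eq G Q P
  -- `z₁ = g z g⁻¹` is central in `g • Q` and noncentral in `G`
  set z₁ := g * z * g⁻¹ with hz₁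
  have hz₁c : z₁ ∉ Subgroup.center G := by
    intro h
    apply hz
    have hc := Subgroup.mem_center_iff.mp h g⁻¹
    have : z = z₁ := by
      have h3 : z = g⁻¹ * z₁ * g := by rw [hz₁]; group
      rw [h3, hc]; group
    rw [this]; exact h
  have hcomm₁ : ∀ y ∈ g • Q, y * z₁ = z₁ * y := by
    intro y hy
    rw [mem_sylow_smul_iff] at hy
    have := hzc _ hy
    have hy' : y = g * (g⁻¹ * y * g) * g⁻¹ := by group
    rw [hy', hz₁]
    calc g * (g⁻¹ * y * g) * g⁻¹ * (g * z * g⁻¹) = g * ((g⁻¹ * y * g) * z) * g⁻¹ := by group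
      _ = g * (z * (g⁻¹ * y * g)) * g⁻¹ := by rw [this]
      _ = g * z * g⁻¹ * (g * (g⁻¹ * y * g) * g⁻¹) := by group
  have hzz₁ : z * z₁ = z₁ * z := hcomm₁ z hzP
  have hcommP : ∀ y ∈ g • Q, y * z = z * y := fun y hy => hG z₁ hz₁c y z (hcomm₁ y hy) hzz₁
  apply sylow_eq_of_le_normalizer
  intro y hy
  have hyx : ∀ x ∈ Q, y * x = x * y := fun x hx => hG z hz y x (hcommP y hy) (hzc x hx)
  rw [Subgroup.mem_normalizer_iff]
  intro h
  constructor
  · intro hh
    have : y * h * y⁻¹ = h := by rw [hyx h hh]; group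
    rw [this]; exact hh
  · intro hh
    have h1 := hyx _ hh
    have : h = y * h * y⁻¹ := by
      have h2 : y⁻¹ * (y * (y * h * y⁻¹)) = y⁻¹ * ((y * h * y⁻¹) * y) := by rw [h1]
      have h3 : y⁻¹ * (y * (y * h * y⁻¹)) = y * h * y⁻¹ := by group
      have h4 : y⁻¹ * ((y * h * y⁻¹) * y) = h := by group
      rw [← h3, h2, h4]
    rw [this]; exact hh

/-- If `y` centralizes `x ∈ Q` and does not normalize `Q`, then `x` lies in a second Sylow
subgroup. -/
theorem exists_sylow_ne_of_centralizer {p : ℕ} (Q : Sylow p G) (x y : G) (hx : x ∈ Q)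
    (hxy : y * x = x * y) (hy : y ∉ Subgroup.normalizer ((Q : Subgroup G) : Set G)) :
    ∃ P : Sylow p G, P ≠ Q ∧ x ∈ P := by
  refine ⟨y • Q, ?_, ?_⟩
  · intro h
    exact hy (Sylow.smul_eq_iff_mem_normalizer.mp h)
  · rw [mem_sylow_smul_iff]
    have : y⁻¹ * x * y = x := by
      rw [mul_assoc, ← hxy]; group
    rw [this]; exact hx

section transfer

variable {G' : Type*} [Group G']

/-- Sylow subgroups with the same image under a map with central kernel are equal. -/
theorem sylow_eq_of_map_eq {p : ℕ} [Fact p.Prime] (f : G →* G')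
    (hker : f.ker ≤ Subgroup.center G) (P Q : Sylow p G)
    (h : (P : Subgroup G).map f = (Q : Subgroup G).map f) : P = Q := by
  apply sylow_eq_of_le_normalizer
  intro x hx
  have hfx : f x ∈ (Q : Subgroup G).map f := by
    rw [← h]; exact Subgroup.mem_map_of_mem f hx
  obtain ⟨y, hy, hyx⟩ := Subgroup.mem_map.mp hfx
  -- `x = y * n` with `n` central
  have hn : y⁻¹ * x ∈ Subgroup.center G := by
    apply hker
    rw [MonoidHom.mem_ker, map_mul, map_inv, hyx, inv_mul_cancel]
  have hxy : x = y * (y⁻¹ * x) := by group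
  rw [hxy]
  apply Subgroup.mul_mem
  · exact Subgroup.le_normalizer hy
  · exact Subgroup.center_le_normalizer _ hn

theorem exists_pow_of_mem_sylow {p : ℕ} [Fact p.Prime] (P : Sylow p G) (x : G) (hx : x ∈ P) :
    ∃ k : ℕ, orderOf x = p ^ k := by
  obtain ⟨k, hk⟩ := (IsPGroup.iff_orderOf.mp P.isPGroup') ⟨x, hx⟩
  exact ⟨k, by rw [← hk, Subgroup.orderOf_mk]⟩

theorem exists_sylow_mem_of_orderOf {p : ℕ} [Fact p.Prime] (x : G) (hx : ∃ k : ℕ, orderOf x = p ^ k) :
    ∃ P : Sylow p G, x ∈ P := by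
  obtain ⟨k, hk⟩ := hx
  have hP : IsPGroup p (Subgroup.zpowers x) := by
    rintro ⟨y, hy⟩
    obtain ⟨j, rfl⟩ := Subgroup.mem_zpowers_iff.mp hy
    refine ⟨k, ?_⟩
    apply Subtype.ext
    simp only [Subgroup.coe_pow, Subgroup.coe_one]
    rw [← zpow_natCast, ← zpow_mul, mul_comm, zpow_mul, zpow_natCast, ← hk, pow_orderOf_eq_one,
      one_zpow]
  obtain ⟨P, hP⟩ := hP.exists_le_sylow
  exact ⟨P, hP (Subgroup.mem_zpowers x)⟩

/-- Redundant Sylow subgroups pass to and from quotients by central subgroups. -/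
theorem hasRedundantSylow_iff_of_surjective {p : ℕ} [Fact p.Prime] [Finite G] (f : G →* G')
    (hf : Function.Surjective f) (hker : f.ker ≤ Subgroup.center G) :
    HasRedundantSylow p G ↔ HasRedundantSylow p G' := by
  have : Finite G' := Finite.of_surjective f hf
  constructor
  · rintro ⟨Q, hQ⟩
    refine ⟨Q.mapSurjective hf, ?_⟩
    intro x' hx'
    obtain ⟨P', hP'⟩ := exists_sylow_mem_of_orderOf x' hx'
    obtain ⟨P₀, rfl⟩ := Sylow.mapSurjective_surjective hf p P'
    replace hP' : x' ∈ ((P₀.mapSurjective hf : Sylow p G') : Subgroup G') := hP'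
    rw [Sylow.coe_mapSurjective] at hP'
    obtain ⟨x, hx, rfl⟩ := Subgroup.mem_map.mp hP'
    obtain ⟨P, hPQ, hxP⟩ := hQ x (exists_pow_of_mem_sylow P₀ x hx)
    refine ⟨P.mapSurjective hf, ?_, ?_⟩
    · intro h
      apply hPQ
      apply sylow_eq_of_map_eq f hker
      have := congrArg (fun S : Sylow p G' => (S : Subgroup G')) h
      simpa using this
    · show f x ∈ ((P.mapSurjective hf : Sylow p G') : Subgroup G')
      rw [Sylow.coe_mapSurjective]
      exact Subgroup.mem_map_of_mem f hxP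
  · rintro ⟨Q', hQ'⟩
    obtain ⟨Q, rfl⟩ := Sylow.mapSurjective_surjective hf p Q'
    refine ⟨Q, ?_⟩
    intro x hx
    obtain ⟨k, hk⟩ := hx
    have hfx : ∃ j : ℕ, orderOf (f x) = p ^ j := by
      have hd : orderOf (f x) ∣ p ^ k := by rw [← hk]; exact orderOf_map_dvd f x
      obtain ⟨j, -, hj⟩ := (Nat.dvd_prime_pow (Fact.out : p.Prime)).mp hd
      exact ⟨j, hj⟩
    obtain ⟨P', hPQ, hxP⟩ := hQ' (f x) hfx
    obtain ⟨P, rfl⟩ := Sylow.mapSurjective_surjective hf p P'
    refine ⟨P, ?_, ?_⟩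
    · rintro rfl; exact hPQ rfl
    · replace hxP : f x ∈ ((P.mapSurjective hf : Sylow p G') : Subgroup G') := hxP
      rw [Sylow.coe_mapSurjective] at hxP
      obtain ⟨y, hy, hyx⟩ := Subgroup.mem_map.mp hxP
      apply mem_sylow_of_mem_normalizer P x ⟨k, hk⟩
      have hn : y⁻¹ * x ∈ Subgroup.center G := by
        apply hker
        rw [MonoidHom.mem_ker, map_mul, map_inv, hyx, inv_mul_cancel]
      have hxy : x = y * (y⁻¹ * x) := by group
      rw [hxy]
      apply Subgroup.mul_mem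
      · exact Subgroup.le_normalizer hy
      · exact Subgroup.center_le_normalizer _ hn

end transfer

end Cfsg.Agent.Helper39
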