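import Mathlib
import Cfsg.Agent.Helper39.RedundantSylow
import Cfsg.Agent.S2431
import Cfsg.Agent.S0809

set_option autoImplicit false

/-! Redundant Sylow subgroups of `SL₂(q)` (S4357) and `PSL₂(q)` (S4356). -/

namespace Cfsg.Agent.Helper39

open Matrix Cfsg.Agent.Helper41 Cfsg.Agent.Helper42

variable {F : Type*} [Field F]

local notation "SL2F" => Matrix.SpecialLinearGroup (Fin 2) F
local notation "M2F" => Matrix (Fin 2) (Fin 2) F

/-- Commuting with a noncentral element is transitive in `SL₂`. -/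
theorem sl2_commute_trans (a g h : SL2F) (ha : a ∉ Subgroup.center SL2F)
    (hg : g * a = a * g) (hh : h * a = a * h) : g * h = h * g := by
  apply sl2_centralizer_comm a g h (sl2_not_scalar_of_not_mem_center a ha)
  · rw [Subgroup.mem_centralizer_singleton_iff]; exact hg
  · rw [Subgroup.mem_centralizer_singleton_iff]; exact hh

/-- In characteristic two the centre of `SL₂` is trivial. -/
theorem sl2_center_eq_one_of_two_eq_zero (h2 : (2 : F) = 0) (z : SL2F)
    (hz : z ∈ Subgroup.center SL2F) : z = 1 := by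
  obtain ⟨r, hr, h⟩ := (sl2_mem_center_iff z).1 hz
  have hr1 : r = 1 := by
    have : (r - 1) ^ 2 = 0 := by linear_combination hr - r * h2 + h2
    have := pow_eq_zero_iff (n := 2) (by norm_num) |>.mp this
    linear_combination this
  apply Subtype.ext
  rw [h, hr1, Matrix.SpecialLinearGroup.coe_one, map_one]

/-- No redundant Sylow `p`-subgroup unless `p = 2` and the characteristic is odd. -/
theorem not_hasRedundantSylow_sl2 [Finite F] (p : ℕ) [Fact p.Prime] (h : p ≠ 2 ∨ (2 : F) = 0) :
    ¬ HasRedundantSylow p SL2F := by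
  rintro ⟨Q, hQ⟩
  have hfin : Finite SL2F := by
    have := Fintype.ofFinite F
    infer_instance
  by_cases hbot : (Q : Subgroup SL2F) = ⊥
  · obtain ⟨P, hPQ, -⟩ := hQ 1 ⟨0, by simp⟩
    apply hPQ
    apply Sylow.ext
    have h1 : Nat.card (P : Subgroup SL2F) = Nat.card (Q : Subgroup SL2F) := by
      rw [P.card_eq_multiplicity, Q.card_eq_multiplicity]
    rw [hbot] at h1 ⊢
    rw [Subgroup.card_bot] at h1
    exact Subgroup.eq_bot_of_card_eq _ h1
  · have hnt : Nontrivial (Q : Subgroup SL2F) := (Subgroup.nontrivial_iff_ne_bot _).mpr hbot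
    have hcn : Nontrivial (Subgroup.center (Q : Subgroup SL2F)) := Q.isPGroup'.center_nontrivial
    obtain ⟨z, hz1⟩ := exists_ne (1 : Subgroup.center (Q : Subgroup SL2F))
    set z' : SL2F := ((z : (Q : Subgroup SL2F)) : SL2F) with hz'
    have hz'Q : z' ∈ Q := (z : (Q : Subgroup SL2F)).2
    have hz'1 : z' ≠ 1 := by
      intro h1
      apply hz1
      apply Subtype.ext
      apply Subtype.ext
      exact h1
    have hcomm : ∀ y ∈ Q, y * z' = z' * y := by
      intro y hy
      have := Subgroup.mem_center_iff.mp z.2 ⟨y, hy⟩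
      have := congrArg (fun w : (Q : Subgroup SL2F) => (w : SL2F)) this
      simpa using this
    obtain ⟨k, hk⟩ := exists_pow_of_mem_sylow Q z' hz'Q
    have hnc : z' ∉ Subgroup.center SL2F := by
      intro hc
      rcases h with hp | h2
      · have hsq := Cfsg.Agent.Helper37.SL2Q.sq_eq_one_of_mem_center z' hc
        have hd := orderOf_dvd_of_pow_eq_one hsq
        rw [hk] at hd
        have hk0 : k ≠ 0 := by
          rintro rfl
          rw [pow_zero, orderOf_eq_one_iff] at hk
          exact hz'1 hk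
        have hp2 : p ∣ 2 := Dvd.dvd.trans (dvd_pow_self p hk0) hd
        exact hp ((Nat.prime_dvd_prime_iff_eq (Fact.out : p.Prime) Nat.prime_two).mp hp2)
      · exact hz'1 (sl2_center_eq_one_of_two_eq_zero h2 z' hc)
    obtain ⟨P, hPQ, hzP⟩ := hQ z' ⟨k, hk⟩
    exact hPQ (sylow_unique_of_abelian_centralizers
      (fun a ha g h hg hh => sl2_commute_trans a g h ha hg hh) Q z' hcomm hnc P hzP)


/-- A noncentral `2`-element in odd characteristic is regular semisimple. -/
theorem trace_sq_ne_four_of_two_pow [Fintype F] (hodd : Fintype.card F % 2 = 1) (g : SL2F)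
    (j : ℕ) (hj : orderOf g = 2 ^ j) (hj2 : 2 ≤ j) :
    (Matrix.trace (g : M2F)) ^ 2 ≠ 4 := by
  intro ht
  have hcp : CharP F (ringChar F) := ringChar.charP F
  have hpp : Fact (ringChar F).Prime := ⟨CharP.char_is_prime F (ringChar F)⟩
  have hc := sl2_pow_char_mem_center (ringChar F) g ht
  have hsq := Cfsg.Agent.Helper37.SL2Q.sq_eq_one_of_mem_center _ hc
  rw [← pow_mul] at hsq
  have hd := orderOf_dvd_of_pow_eq_one hsq
  rw [hj] at hd
  have h4 : 4 ∣ ringChar F * 2 := by
    refine Dvd.dvd.trans ?_ hd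
    exact Dvd.dvd.trans (by norm_num : 4 ∣ 2 ^ 2) (pow_dvd_pow 2 hj2)
  have h2p : 2 ∣ ringChar F := by omega
  have hp2 : ringChar F = 2 := ((Nat.prime_dvd_prime_iff_eq Nat.prime_two hpp.out).1 h2p).symm
  have := FiniteField.even_card_of_char_two hp2
  omega

/-- The `2`-part of `q (q² - 1)` when `q ± 1` is a power of two. -/
theorem two_part_of_pow (q k : ℕ) (h : q + 1 = 2 ^ (k + 2) ∨ q = 2 ^ (k + 2) + 1) :
    ∃ m : ℕ, m % 2 = 1 ∧ q * (q ^ 2 - 1) = 2 ^ (k + 3) * m := by
  set t := 2 ^ k with ht
  have ht1 : 1 ≤ t := Nat.one_le_two_pow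
  have h4 : 2 ^ (k + 2) = 4 * t := by rw [ht, pow_add]; ring
  have h8 : 2 ^ (k + 3) = 8 * t := by rw [ht, pow_add]; ring
  rw [h4] at h
  rw [h8]
  rcases h with h | h
  · obtain ⟨s, hs⟩ : ∃ s, t = s + 1 := ⟨t - 1, by omega⟩
    have hq : q = 4 * s + 3 := by omega
    refine ⟨(2 * s + 1) * (4 * s + 3), ?_, ?_⟩
    · rw [Nat.mul_mod]
      have h1 : (2 * s + 1) % 2 = 1 := by omega
      have h2 : (4 * s + 3) % 2 = 1 := by omega
      rw [h1, h2]
    · rw [hq, hs]
      have : (4 * s + 3) ^ 2 - 1 = 8 * (s + 1) * (2 * s + 1) := by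
        have : (4 * s + 3) ^ 2 = 8 * (s + 1) * (2 * s + 1) + 1 := by ring
        rw [this]; simp
      rw [this]; ring
  · refine ⟨(2 * t + 1) * (4 * t + 1), ?_, ?_⟩
    · rw [Nat.mul_mod]
      have h1 : (2 * t + 1) % 2 = 1 := by omega
      have h2 : (4 * t + 1) % 2 = 1 := by omega
      rw [h1, h2]
    · rw [h]
      have : (4 * t + 1) ^ 2 - 1 = 8 * t * (2 * t + 1) := by
        have : (4 * t + 1) ^ 2 = 8 * t * (2 * t + 1) + 1 := by ring
        rw [this]; simp
      rw [this]; ring

/-- If `q ± 1` is a power of two (at least `4`), the Sylow `2`-subgroups of `SL₂(q)` have order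
`2 ^ (k+3)` where `q ± 1 = 2 ^ (k+2)`. -/
theorem card_sylow_two_of_pow [Fintype F] (k : ℕ)
    (h : Fintype.card F + 1 = 2 ^ (k + 2) ∨ Fintype.card F = 2 ^ (k + 2) + 1)
    (Q : Sylow 2 SL2F) : Nat.card (Q : Subgroup SL2F) = 2 ^ (k + 3) := by
  obtain ⟨m, hm, hq⟩ := two_part_of_pow _ k h
  have hcardG : Nat.card SL2F = Fintype.card F * (Fintype.card F ^ 2 - 1) :=
    Cfsg.Agent.Helper5.card_SL2
  rw [Q.card_eq_multiplicity, hcardG, hq]
  congr 1
  have h2k : (2 : ℕ) ^ (k + 3) ≠ 0 := by positivity
  have hm0 : m ≠ 0 := by omega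
  rw [Nat.factorization_mul h2k hm0]
  simp only [Nat.factorization_pow, Nat.prime_two.factorization_self, Finsupp.coe_add,
    Pi.add_apply, Finsupp.smul_apply, smul_eq_mul, mul_one]
  have : m.factorization 2 = 0 := by
    apply Nat.factorization_eq_zero_of_not_dvd
    omega
  rw [this, add_zero]


theorem card_subgroupOf_of_le {G : Type*} [Group G] {H K : Subgroup G} (h : H ≤ K) :
    Nat.card (H.subgroupOf K) = Nat.card H :=
  Nat.card_congr (Subgroup.subgroupOfEquivOfLe h).toEquiv

/-- A subgroup of index two (by cardinality) is normalized by the overgroup. -/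
theorem le_normalizer_of_card_eq_two_mul {G : Type*} [Group G] {H K : Subgroup G} [Finite K]
    (h : H ≤ K) (hc : Nat.card K = 2 * Nat.card H) :
    K ≤ Subgroup.normalizer (H : Set G) := by
  have hidx : (H.subgroupOf K).index = 2 := by
    have h1 := Subgroup.index_mul_card (H.subgroupOf K)
    rw [card_subgroupOf_of_le h, hc] at h1
    have hpos : 0 < Nat.card H := by
      have : Finite H := Finite.of_injective (Subgroup.inclusion h) (Subgroup.inclusion_injective h)
      exact Nat.card_pos
    exact Nat.eq_of_mul_eq_mul_right hpos h1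
  have := Subgroup.normal_of_index_eq_two hidx
  exact (Subgroup.normal_subgroupOf_iff_le_normalizer h).mp this

/-- If `q ± 1` is a power of two, no Sylow `2`-subgroup of `SL₂(q)` is redundant. -/
theorem not_hasRedundantSylow_sl2_of_pow [Fintype F] (hodd : Fintype.card F % 2 = 1) (k : ℕ)
    (h : Fintype.card F + 1 = 2 ^ (k + 2) ∨ Fintype.card F = 2 ^ (k + 2) + 1) :
    ¬ HasRedundantSylow 2 SL2F := by
  classical
  rintro ⟨Q, hQ⟩
  have hodd' : Odd (Fintype.card F) := Nat.odd_iff.mpr hodd
  have h2 : (2 : F) ≠ 0 := Cfsg.Agent.Helper37.two_ne_zero_of_odd_card hodd'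
  obtain ⟨j, hj1, ⟨e⟩⟩ := Cfsg.Agent.Helper37.SL2Q.sylow_two_quaternion hodd' Q
  have : NeZero (2 ^ j) := ⟨by positivity⟩
  set xQ : (Q : Subgroup SL2F) := e.symm (QuaternionGroup.a 1) with hxQ'
  set x : SL2F := (xQ : SL2F) with hx
  have hxQ : x ∈ Q := xQ.2
  have hox : orderOf x = 2 * 2 ^ j := by
    rw [hx, Subgroup.orderOf_coe, ← MulEquiv.orderOf_eq e, hxQ', e.apply_symm_apply,
      QuaternionGroup.orderOf_a_one]
  have hcardQ : Nat.card (Q : Subgroup SL2F) = 4 * 2 ^ j := by
    rw [Nat.card_congr e.toEquiv, Nat.card_eq_fintype_card, QuaternionGroup.card]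
  have hcardQ' := card_sylow_two_of_pow k h Q
  have hox' : orderOf x = 2 ^ (k + 2) := by
    rw [hox]
    have : (2 : ℕ) ^ (k + 3) = 2 * 2 ^ (k + 2) := by ring
    omega
  have ht := trace_sq_ne_four_of_two_pow hodd x (k + 2) hox' (by omega)
  have hC := Cfsg.Agent.S0809.card_centralizer_add_rootCount h2 hodd x ht
  have hr := rootCount_le_two (Matrix.trace (x : M2F))
  have hxC : x ∈ Subgroup.centralizer ({x} : Set SL2F) := by
    rw [Subgroup.mem_centralizer_singleton_iff]
  have hdvd : 2 ^ (k + 2) ∣ Nat.card (Subgroup.centralizer ({x} : Set SL2F)) := by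
    rw [← hox']
    have := orderOf_dvd_natCard (⟨x, hxC⟩ : Subgroup.centralizer ({x} : Set SL2F))
    rwa [Subgroup.orderOf_mk] at this
  have hcpos : 0 < Nat.card (Subgroup.centralizer ({x} : Set SL2F)) := Nat.card_pos
  have h4 : 4 ≤ 2 ^ (k + 2) := by
    calc 4 = 2 ^ 2 := by norm_num
      _ ≤ 2 ^ (k + 2) := Nat.pow_le_pow_right (by norm_num) (by omega)
  have hcC : Nat.card (Subgroup.centralizer ({x} : Set SL2F)) = 2 ^ (k + 2) := by
    obtain ⟨d, hd⟩ := hdvd
    rcases d with _ | _ | d
    · omega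
    · omega
    · exfalso
      have : 2 ^ (k + 2) * (d + 1 + 1) = 2 ^ (k + 2) * d + 2 * 2 ^ (k + 2) := by ring
      have hnn : 0 ≤ 2 ^ (k + 2) * d := Nat.zero_le _
      rcases h with h | h <;> omega
  have hzle : Subgroup.zpowers x ≤ Subgroup.centralizer ({x} : Set SL2F) := by
    rw [Subgroup.zpowers_le]; exact hxC
  have hCeq : Subgroup.zpowers x = Subgroup.centralizer ({x} : Set SL2F) := by
    apply Subgroup.eq_of_le_of_card_ge hzle
    rw [hcC, Nat.card_zpowers, hox']
  obtain ⟨w, hw⟩ := sl2_exists_conj_eq_inv hodd h2 x ht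
  have hN := sl2_card_normalizer_centralizer h2 x w ht hw
  rw [hcC] at hN
  have key : ∀ P : Sylow 2 SL2F, x ∈ P → (P : Subgroup SL2F) =
      Subgroup.normalizer ((Subgroup.centralizer ({x} : Set SL2F) : Subgroup SL2F) : Set SL2F) := by
    intro P hxP
    have hcardP := card_sylow_two_of_pow k h P
    have hzP : Subgroup.zpowers x ≤ (P : Subgroup SL2F) := by
      rw [Subgroup.zpowers_le]; exact hxP
    have hle : (P : Subgroup SL2F) ≤ Subgroup.normalizer ((Subgroup.zpowers x : Subgroup SL2F) : Set SL2F) := by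
      apply le_normalizer_of_card_eq_two_mul hzP
      rw [hcardP, Nat.card_zpowers, hox']; ring
    rw [hCeq] at hle
    apply Subgroup.eq_of_le_of_card_ge hle
    rw [hN, hcardP]
    apply le_of_eq; ring
  obtain ⟨P, hPQ, hxP⟩ := hQ x ⟨k + 2, hox'⟩
  exact hPQ (Sylow.ext ((key P hxP).trans (key Q hxQ).symm))


/-- Coprime action through a cyclic subgroup of index two. -/
theorem commute_of_index_two {G : Type*} [Group G] (Q : Subgroup G) [Finite Q]
    (hQ : IsPGroup 2 Q) (x y : G) (hxQ : x ∈ Q) (hidx : Nat.card Q = 2 * orderOf x)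
    (hy : y ∈ Subgroup.normalizer (Q : Set G)) (hxy : y * x = x * y) (r : ℕ) (hr : r % 2 = 1)
    (hyr : y ^ r = 1) : ∀ g ∈ Q, y * g = g * y := by
  have hzQ : Subgroup.zpowers x ≤ Q := by rw [Subgroup.zpowers_le]; exact hxQ
  have hidx2 : ((Subgroup.zpowers x).subgroupOf Q).index = 2 := by
    have h1 := Subgroup.index_mul_card ((Subgroup.zpowers x).subgroupOf Q)
    rw [card_subgroupOf_of_le hzQ, hidx, Nat.card_zpowers] at h1
    have hpos : 0 < orderOf x := by
      rcases Nat.eq_zero_or_pos (orderOf x) with h0 | h0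
      · rw [h0] at hidx
        have : 0 < Nat.card Q := Nat.card_pos
        omega
      · exact h0
    exact Nat.eq_of_mul_eq_mul_right hpos h1
  have hcH : ∀ c ∈ Subgroup.zpowers x, y * c = c * y := by
    intro c hc
    obtain ⟨i, rfl⟩ := Subgroup.mem_zpowers_iff.mp hc
    have : Commute y x := hxy
    exact (this.zpow_right i)
  intro g hg
  by_cases hgH : g ∈ Subgroup.zpowers x
  · exact hcH g hgH
  · set n := y * g * y⁻¹ with hn
    have hnQ : n ∈ Q := (Subgroup.mem_normalizer_iff.mp hy g).mp hg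
    have hnH : n ∉ Subgroup.zpowers x := by
      intro hnH
      apply hgH
      have h1 := hcH n hnH
      have : g = n := by
        have h2 : g = y⁻¹ * n * y := by rw [hn]; group
        rw [h2, mul_assoc, ← h1]; group
      rw [this]; exact hnH
    have hc : g⁻¹ * n ∈ Subgroup.zpowers x := by
      have := Subgroup.mul_mem_iff_of_index_two hidx2
        (a := (⟨g⁻¹, Q.inv_mem hg⟩ : Q)) (b := (⟨n, hnQ⟩ : Q))
      simp only [Subgroup.mem_subgroupOf, Subgroup.coe_mul] at this
      rw [this]
      constructor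
      · intro h; exact absurd ((Subgroup.zpowers x).inv_mem_iff.mp h) hgH
      · intro h; exact absurd h hnH
    set c := g⁻¹ * n with hcdef
    have hyc : Commute y c := hcH c hc
    have hyg : y * g = g * c * y := by
      rw [hcdef, hn]; group
    have hpow : ∀ m : ℕ, y ^ m * g = g * c ^ m * y ^ m := by
      intro m
      induction m with
      | zero => simp
      | succ m ih =>
        calc y ^ (m + 1) * g = y * (y ^ m * g) := by rw [pow_succ']; group
          _ = y * (g * c ^ m * y ^ m) := by rw [ih]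
          _ = (y * g) * c ^ m * y ^ m := by group
          _ = g * c * (y * c ^ m) * y ^ m := by rw [hyg]; group
          _ = g * c * (c ^ m * y) * y ^ m := by rw [(hyc.pow_right m).eq]
          _ = g * c ^ (m + 1) * y ^ (m + 1) := by rw [pow_succ' c, pow_succ' y]; group
    have hcr : c ^ r = 1 := by
      have := hpow r
      rw [hyr, one_mul, mul_one] at this
      have h3 : g * 1 = g * c ^ r := by rw [mul_one]; exact this
      exact (mul_left_cancel h3).symm
    have hcQ : c ∈ Q := hzQ hc
    obtain ⟨a, ha⟩ := (IsPGroup.iff_orderOf.mp hQ) ⟨c, hcQ⟩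
    rw [Subgroup.orderOf_mk] at ha
    have hd := orderOf_dvd_of_pow_eq_one hcr
    rw [ha] at hd
    have hc1 : c = 1 := by
      rw [← orderOf_eq_one_iff, ha]
      rcases Nat.eq_zero_or_pos a with h0 | h0
      · rw [h0, pow_zero]
      · exfalso
        have h2r : 2 ∣ r := Dvd.dvd.trans (dvd_pow_self 2 (by omega)) hd
        omega
    rw [hyg, hc1, mul_one]


theorem sq_mod_eight_of_odd (q : ℕ) (h : q % 2 = 1) : 8 ∣ q * (q ^ 2 - 1) := by
  have h8 : q % 8 = 1 ∨ q % 8 = 3 ∨ q % 8 = 5 ∨ q % 8 = 7 := by omega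
  have hsq : q ^ 2 % 8 = 1 := by
    rcases h8 with h | h | h | h <;> simp [Nat.pow_mod, h]
  apply Dvd.dvd.mul_left
  have hpos : 1 ≤ q ^ 2 := Nat.one_le_pow _ _ (by omega)
  generalize q ^ 2 = t at *
  omega

/-- If neither `q + 1` nor `q - 1` is a power of two (`q` odd), every Sylow `2`-subgroup of
`SL₂(q)` is redundant. -/
theorem hasRedundantSylow_sl2 [Fintype F] (hodd : Fintype.card F % 2 = 1)
    (h1 : ¬ ∃ k : ℕ, Fintype.card F + 1 = 2 ^ k) (h2' : ¬ ∃ k : ℕ, Fintype.card F = 2 ^ k + 1) :
    HasRedundantSylow 2 SL2F := by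
  classical
  have hodd' : Odd (Fintype.card F) := Nat.odd_iff.mpr hodd
  have h2 : (2 : F) ≠ 0 := Cfsg.Agent.Helper37.two_ne_zero_of_odd_card hodd'
  have hq1 : 1 < Fintype.card F := Fintype.one_lt_card
  obtain ⟨Q⟩ : Nonempty (Sylow 2 SL2F) := inferInstance
  refine ⟨Q, ?_⟩
  obtain ⟨hcent, hN1, hN3⟩ := Cfsg.Agent.S2431.result hodd' Q
  have hcardG : Nat.card SL2F = Fintype.card F * (Fintype.card F ^ 2 - 1) :=
    Cfsg.Agent.Helper5.card_SL2
  have hq8 : (Fintype.card F % 8 = 1 ∨ Fintype.card F % 8 = 7) ∨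
      (Fintype.card F % 8 = 3 ∨ Fintype.card F % 8 = 5) := by omega
  obtain ⟨m, hm⟩ := (IsPGroup.iff_card.mp Q.isPGroup')
  intro x hx
  obtain ⟨k, hk⟩ := hx
  by_cases hxQ : x ∈ Q
  swap
  · obtain ⟨P, hP⟩ := exists_sylow_mem_of_orderOf (p := 2) x ⟨k, hk⟩
    refine ⟨P, ?_, hP⟩
    rintro rfl
    exact hxQ hP
  by_cases hxc : x ∈ Subgroup.center SL2F
  · -- central: need an element outside the normalizer
    have hex : ∃ y : SL2F, y ∉ Subgroup.normalizer ((Q : Subgroup SL2F) : Set SL2F) := by
      by_contra hall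
      push Not at hall
      have htop : Subgroup.normalizer ((Q : Subgroup SL2F) : Set SL2F) = ⊤ :=
        (Subgroup.eq_top_iff' _).mpr hall
      have hcN : Nat.card (Subgroup.normalizer ((Q : Subgroup SL2F) : Set SL2F)) = Nat.card SL2F := by
        rw [htop, Subgroup.card_top]
      have hdiv : Fintype.card F ∣ 3 * 2 ^ m := by
        have hqG : Fintype.card F ∣ Nat.card SL2F := by rw [hcardG]; exact Dvd.intro _ rfl
        rcases hq8 with h | h
        · have := hN1 h
          rw [this, hm] at hcN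
          rw [← hcN] at hqG
          exact Dvd.dvd.mul_left hqG 3
        · have := hN3 h
          rw [hcN, hm] at this
          rw [this] at hqG
          exact hqG
      have hcop : Nat.Coprime (Fintype.card F) (2 ^ m) := by
        apply Nat.Coprime.pow_right
        rw [Nat.coprime_comm, Nat.Prime.coprime_iff_not_dvd Nat.prime_two]
        omega
      have h3 : Fintype.card F ∣ 3 := hcop.dvd_of_dvd_mul_right hdiv
      have hle := Nat.le_of_dvd (by norm_num) h3
      have hq3 : Fintype.card F = 3 := by omega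
      exact h1 ⟨2, by rw [hq3]; norm_num⟩
    obtain ⟨y, hy⟩ := hex
    exact exists_sylow_ne_of_centralizer Q x y hxQ ((Subgroup.mem_center_iff.mp hxc y)) hy
  · -- noncentral
    have hk2 : 2 ≤ k := by
      by_contra hlt
      push Not at hlt
      apply hxc
      apply sl2_mem_center_of_sq_eq_one h2
      have : orderOf x ∣ 2 := by
        rw [hk]
        calc 2 ^ k ∣ 2 ^ 1 := pow_dvd_pow 2 (by omega)
          _ = 2 := by norm_num
      exact orderOf_dvd_iff_pow_eq_one.mp this
    have ht := trace_sq_ne_four_of_two_pow hodd x k hk hk2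
    have hC := Cfsg.Agent.S0809.card_centralizer_add_rootCount h2 hodd x ht
    have hr := rootCount_le_two (Matrix.trace (x : M2F))
    have hxC : x ∈ Subgroup.centralizer ({x} : Set SL2F) := by
      rw [Subgroup.mem_centralizer_singleton_iff]
    have hdvd : 2 ^ k ∣ Nat.card (Subgroup.centralizer ({x} : Set SL2F)) := by
      rw [← hk]
      have := orderOf_dvd_natCard (⟨x, hxC⟩ : Subgroup.centralizer ({x} : Set SL2F))
      rwa [Subgroup.orderOf_mk] at this
    have h4 : 4 ∣ Nat.card (Subgroup.centralizer ({x} : Set SL2F)) := by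
      refine Dvd.dvd.trans ?_ hdvd
      calc 4 = 2 ^ 2 := by norm_num
        _ ∣ 2 ^ k := pow_dvd_pow 2 hk2
    -- the centralizer has order `q ± 1`, not a power of two
    have hnp : ¬ ∃ a : ℕ, Nat.card (Subgroup.centralizer ({x} : Set SL2F)) = 2 ^ a := by
      rintro ⟨a, ha⟩
      have hcases : Nat.card (Subgroup.centralizer ({x} : Set SL2F)) = Fintype.card F + 1 ∨
          Nat.card (Subgroup.centralizer ({x} : Set SL2F)) + 1 = Fintype.card F := by omega
      rcases hcases with hc | hc
      · exact h1 ⟨a, by rw [← hc, ha]⟩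
      · exact h2' ⟨a, by rw [← hc, ha]⟩
    -- an odd prime divisor
    obtain ⟨r, hrp, hrd, hr2⟩ : ∃ r : ℕ, r.Prime ∧
        r ∣ Nat.card (Subgroup.centralizer ({x} : Set SL2F)) ∧ r ≠ 2 := by
      by_contra hno
      push Not at hno
      apply hnp
      have hpos : Nat.card (Subgroup.centralizer ({x} : Set SL2F)) ≠ 0 := Nat.card_pos.ne'
      refine ⟨(Nat.card (Subgroup.centralizer ({x} : Set SL2F))).primeFactorsList.length, ?_⟩
      apply Nat.eq_prime_pow_of_unique_prime_dvd hpos
      intro r hrp hrd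
      exact hno r hrp hrd
    have : Fact r.Prime := ⟨hrp⟩
    obtain ⟨yC, hyC⟩ := exists_prime_orderOf_dvd_card' (G := Subgroup.centralizer ({x} : Set SL2F)) r hrd
    set y : SL2F := (yC : SL2F) with hy
    have hoy : orderOf y = r := by rw [hy, Subgroup.orderOf_coe]; exact hyC
    have hyx : y * x = x * y := by
      have := Subgroup.mem_centralizer_singleton_iff.mp yC.2
      exact this
    have hrodd : r % 2 = 1 := by
      rcases hrp.eq_two_or_odd with h | h
      · exact absurd h hr2
      · exact h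
    apply exists_sylow_ne_of_centralizer Q x y hxQ hyx
    intro hyN
    rcases hq8 with h | h
    · -- self-normalizing
      rw [hN1 h] at hyN
      obtain ⟨a, ha⟩ := exists_pow_of_mem_sylow Q y hyN
      rw [hoy] at ha
      have : 2 ∣ r := by
        rcases Nat.eq_zero_or_pos a with h0 | h0
        · rw [h0, pow_zero] at ha
          exact absurd ha hrp.one_lt.ne'
        · rw [ha]; exact dvd_pow_self 2 (by omega)
      omega
    · -- `|Q| = 8`
      have hQ8 : Nat.card (Q : Subgroup SL2F) = 8 := by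
        have h8G : 2 ^ 3 ∣ Nat.card SL2F := by
          rw [hcardG]; exact sq_mod_eight_of_odd _ hodd
        have h8Q := Q.pow_dvd_card_of_pow_dvd_card h8G
        have hQG : Nat.card (Q : Subgroup SL2F) ∣ Nat.card SL2F := Subgroup.card_subgroup_dvd_card _
        have hn16 : ¬ 16 ∣ Nat.card SL2F := by
          rw [hcardG]
          exact Cfsg.Agent.S2431.not_sixteen_dvd_of_mod_eight_three_or_five _ h
        rw [hm] at h8Q hQG ⊢
        have hm3 : 3 ≤ m := (Nat.pow_dvd_pow_iff_le_right (by norm_num : 1 < 2)).mp h8Q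
        have hm4 : m < 4 := by
          by_contra hge
          push Not at hge
          apply hn16
          exact Dvd.dvd.trans (pow_dvd_pow 2 hge : 2 ^ 4 ∣ 2 ^ m) hQG
        have : m = 3 := by omega
        rw [this]; norm_num
      -- `x` has order `4`
      have hzQ : Subgroup.zpowers x ≤ (Q : Subgroup SL2F) := by
        rw [Subgroup.zpowers_le]; exact hxQ
      have hk3 : k = 2 := by
        have hdQ : 2 ^ k ∣ 8 := by
          rw [← hQ8, ← hk]
          have := orderOf_dvd_natCard (⟨x, hxQ⟩ : (Q : Subgroup SL2F))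
          rwa [Subgroup.orderOf_mk] at this
        have hk3 : k ≤ 3 := by
          have : (2 : ℕ) ^ k ∣ 2 ^ 3 := by simpa using hdQ
          exact (Nat.pow_dvd_pow_iff_le_right (by norm_num : 1 < 2)).mp this
        rcases Nat.lt_or_ge k 3 with hlt | hge
        · omega
        · exfalso
          have hk3' : k = 3 := by omega
          have hzeq : Subgroup.zpowers x = (Q : Subgroup SL2F) := by
            apply Subgroup.eq_of_le_of_card_ge hzQ
            rw [hQ8, Nat.card_zpowers, hk, hk3']; norm_num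
          apply hxc
          rw [← hcent, Subgroup.mem_centralizer_iff]
          intro g hg
          have hg' : g ∈ Subgroup.zpowers x := by rw [hzeq]; exact hg
          obtain ⟨i, rfl⟩ := Subgroup.mem_zpowers_iff.mp hg'
          exact ((Commute.refl x).zpow_left i).eq
      have hcomm := commute_of_index_two (Q : Subgroup SL2F) Q.isPGroup' x y hxQ
        (by rw [hQ8, hk, hk3]; norm_num) hyN hyx r hrodd (by rw [← hoy]; exact pow_orderOf_eq_one y)
      have hyc : y ∈ Subgroup.center SL2F := by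
        rw [← hcent, Subgroup.mem_centralizer_iff]
        intro g hg
        exact (hcomm g hg).symm
      have hsq := Cfsg.Agent.Helper37.SL2Q.sq_eq_one_of_mem_center y hyc
      have hd := orderOf_dvd_of_pow_eq_one hsq
      rw [hoy] at hd
      have := Nat.le_of_dvd (by norm_num) hd
      have := hrp.two_le
      omega


/-- The classification of redundant Sylow subgroups of `SL₂(q)`. -/
theorem hasRedundantSylow_sl2_iff [Fintype F] (p : ℕ) [Fact p.Prime] :
    HasRedundantSylow p SL2F ↔
      (p = 2 ∧ (¬ ∃ k : ℕ, Fintype.card F + 1 = 2 ^ k) ∧ (¬ ∃ k : ℕ, Fintype.card F = 2 ^ k) ∧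
        ¬ ∃ k : ℕ, Fintype.card F = 2 ^ k + 1) := by
  have hq1 : 1 < Fintype.card F := Fintype.one_lt_card
  constructor
  · intro hR
    have hp : p = 2 := by
      by_contra hp
      exact not_hasRedundantSylow_sl2 p (Or.inl hp) hR
    have h2 : (2 : F) ≠ 0 := by
      intro h2
      exact not_hasRedundantSylow_sl2 p (Or.inr h2) hR
    subst hp
    have hchar : ringChar F ≠ 2 := by
      intro h
      apply h2
      have := CharP.cast_eq_zero F (ringChar F)
      rw [h] at this
      exact_mod_cast this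
    have hodd := FiniteField.odd_card_of_char_ne_two hchar
    refine ⟨rfl, ?_, ?_, ?_⟩
    · rintro ⟨k, hk⟩
      have hk2 : 2 ≤ k := by
        by_contra hlt
        push Not at hlt
        have : 2 ^ k ≤ 2 ^ 1 := Nat.pow_le_pow_right (by norm_num) (by omega)
        omega
      obtain ⟨k', rfl⟩ : ∃ k', k = k' + 2 := ⟨k - 2, by omega⟩
      exact not_hasRedundantSylow_sl2_of_pow hodd k' (Or.inl hk) hR
    · rintro ⟨k, hk⟩
      rcases Nat.eq_zero_or_pos k with h0 | h0
      · rw [h0, pow_zero] at hk; omega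
      · have : 2 ∣ 2 ^ k := dvd_pow_self 2 (by omega)
        omega
    · rintro ⟨k, hk⟩
      rcases Nat.lt_or_ge k 2 with hlt | hge
      · interval_cases k
        · norm_num at hk; omega
        · norm_num at hk
          exact not_hasRedundantSylow_sl2_of_pow hodd 0 (Or.inl (by rw [hk]; norm_num)) hR
      · obtain ⟨k', rfl⟩ : ∃ k', k = k' + 2 := ⟨k - 2, by omega⟩
        exact not_hasRedundantSylow_sl2_of_pow hodd k' (Or.inr hk) hR
  · rintro ⟨rfl, h1, h2, h3⟩
    have hodd : Fintype.card F % 2 = 1 := by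
      by_contra hne
      have hev : Fintype.card F % 2 = 0 := by omega
      have hchar := FiniteField.even_card_iff_char_two.mpr hev
      have : CharP F 2 := ringChar.of_eq hchar
      obtain ⟨n, -, hn⟩ := FiniteField.card F 2
      exact h2 ⟨n, hn⟩
    exact hasRedundantSylow_sl2 hodd h1 h3

end Cfsg.Agent.Helper39
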