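import Cfsg.Agent.Helper74.Ito
import Cfsg.Agent.Helper74.AFT
import Cfsg.Agent.Helper74.CharCount
import Cfsg.Agent.Helper78.IrrTransport
import Cfsg.Agent.Helper78.IrrBasic
import Cfsg.Agent.Helper38.SL2Count
import Cfsg.Agent.Helper14.Quaternion
import Cfsg.Agent.Helper39.RedundantSL2

set_option autoImplicit false

/-!
# General counting lemmas for the McKay equality (used for S2436)
-/

namespace Cfsg.Agent.Helper39

open Cfsg

universe u v

/-- Transport of the count of irreducible characters of `ℓ'`-degree along an isomorphism. -/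
theorem card_irr_not_dvd_congr {H : Type u} {H' : Type v} [Group H] [Group H'] (e : H ≃* H')
    (ℓ : ℕ) :
    Nat.card {ψ : IrrCharacter H // ¬ ℓ ∣ charDegree (ψ : H → ℂ)} =
      Nat.card {ψ : IrrCharacter H' // ¬ ℓ ∣ charDegree (ψ : H' → ℂ)} := by
  apply Nat.card_congr
  refine Equiv.subtypeEquiv (Equiv.ofBijective (Cfsg.Agent.Helper78.irrMap e)
    ⟨Cfsg.Agent.Helper78.irrMap_injective e, Cfsg.Agent.Helper78.irrMap_surjective e⟩) ?_
  intro ψ
  have h1 : charDegree ((Cfsg.Agent.Helper78.irrMap e ψ : IrrCharacter H') : H' → ℂ) =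
      charDegree (ψ : H → ℂ) := by
    unfold charDegree
    rw [Cfsg.Agent.Helper78.irrMap_apply, map_one]
  show _ ↔ ¬ ℓ ∣ charDegree ((Cfsg.Agent.Helper78.irrMap e ψ : IrrCharacter H') : H' → ℂ)
  rw [h1]

/-- Isomorphic groups have the same number of conjugacy classes. -/
theorem card_conjClasses_of_mulEquiv {H : Type u} {H' : Type v} [Group H] [Group H']
    (e : H ≃* H') : Nat.card (ConjClasses H) = Nat.card (ConjClasses H') := by
  apply Nat.card_congr
  refine
    { toFun := ConjClasses.map e.toMonoidHom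
      invFun := ConjClasses.map e.symm.toMonoidHom
      left_inv := ?_
      right_inv := ?_ }
  · intro a
    obtain ⟨a, rfl⟩ := ConjClasses.mk_surjective a
    show ConjClasses.mk (e.symm (e a)) = ConjClasses.mk a
    rw [MulEquiv.symm_apply_apply]
  · intro a
    obtain ⟨a, rfl⟩ := ConjClasses.mk_surjective a
    show ConjClasses.mk (e (e.symm a)) = ConjClasses.mk a
    rw [MulEquiv.apply_symm_apply]

/-- If the subgroup `N` is the whole group, its `ℓ'`-degree count is that of the group. -/
theorem card_irr_not_dvd_of_eq_top {G : Type u} [Group G] (N : Subgroup G) (hN : N = ⊤) (ℓ : ℕ) :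
    Nat.card {χ : IrrCharacter G // ¬ ℓ ∣ charDegree (χ : G → ℂ)} =
      Nat.card {ψ : IrrCharacter N // ¬ ℓ ∣ charDegree (ψ : N → ℂ)} := by
  subst hN
  exact (card_irr_not_dvd_congr (Subgroup.topEquiv (G := G)) ℓ).symm

section ito
variable {N : Type u} [Group N] [Finite N]

/-- With an abelian normal subgroup of index prime to `ℓ`, every irreducible character has
degree prime to `ℓ` (Ito), so these are counted by the conjugacy classes. -/
theorem card_irr_not_dvd_eq_card_conjClasses (A : Subgroup N) [A.Normal]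
    (hA : ∀ a ∈ A, ∀ b ∈ A, a * b = b * a) (ℓ : ℕ) (hℓ : ¬ ℓ ∣ A.index) :
    Nat.card {ψ : IrrCharacter N // ¬ ℓ ∣ charDegree (ψ : N → ℂ)} =
      Nat.card (ConjClasses N) := by
  have := Fintype.ofFinite N
  rw [← Cfsg.Agent.Helper74.card_irr_eq_card_conjClasses]
  apply Nat.card_congr
  apply Equiv.subtypeUnivEquiv
  intro ψ hd
  obtain ⟨n, hn, hdvd⟩ := Cfsg.Agent.Helper74.ito_degree_dvd_index A hA ψ.2
  have h1 : charDegree (ψ : N → ℂ) = n :=
    Cfsg.Agent.Helper38.charDegree_eq_of_one (Cfsg.Agent.Helper74.irr_isCharacter ψ) n hn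
  rw [h1] at hd
  exact hℓ (hd.trans hdvd)

/-- The irreducible characters of degree one are the homomorphisms to `ℂˣ`. -/
theorem card_irr_degree_one :
    Nat.card {ψ : IrrCharacter N // charDegree (ψ : N → ℂ) = 1} = Nat.card (N →* ℂˣ) := by
  have := Fintype.ofFinite N
  symm
  apply Nat.card_congr
  refine Equiv.ofBijective
    (fun μ => ⟨Cfsg.Agent.Helper74.linIrr μ, Cfsg.Agent.Helper74.charDegree_linIrr μ⟩) ⟨?_, ?_⟩
  · intro μ ν h
    exact Cfsg.Agent.Helper74.linIrr_injective (congrArg Subtype.val h)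
  · rintro ⟨ψ, hψ⟩
    obtain ⟨μ, hμ⟩ := Cfsg.Agent.Helper74.exists_linIrr_of_degree_one ψ hψ
    exact ⟨μ, Subtype.ext hμ.symm⟩

/-- In a `2`-group the irreducible characters of odd degree are the linear ones. -/
theorem card_irr_odd_of_two_group (h2 : IsPGroup 2 N) :
    Nat.card {ψ : IrrCharacter N // ¬ 2 ∣ charDegree (ψ : N → ℂ)} = Nat.card (N →* ℂˣ) := by
  rw [← card_irr_degree_one]
  apply Nat.card_congr
  apply Equiv.subtypeEquivRight
  intro ψ
  obtain ⟨n, hn⟩ := IsPGroup.iff_card.mp h2
  have hd := Cfsg.Agent.Helper80.IsIrrCharacter.charDegree_dvd_card ψ.2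
  rw [hn] at hd
  obtain ⟨i, -, hi⟩ := (Nat.dvd_prime_pow Nat.prime_two).mp hd
  constructor
  · intro h
    rw [hi] at h ⊢
    rcases Nat.eq_zero_or_pos i with h0 | h0
    · rw [h0, pow_zero]
    · exact absurd (dvd_pow_self 2 (by omega)) h
  · intro h
    rw [h]
    norm_num

end ito


section order24
variable {N : Type u} [Group N] [Finite N]

open scoped commutatorElement

/-- In a group of order `24` with a normal subgroup `S` of order `8` of exponent `4` with a unique
involution, central in `N`, such that the centralizer of `S` has exponent `2`, the derived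
subgroup is `S`. -/
theorem commutator_eq_of_card_24 (S : Subgroup N) [hSn : S.Normal]
    (hN : Nat.card N = 24) (hS : Nat.card S = 8) (z : N) (hzc : ∀ g : N, g * z = z * g)
    (hz2 : z ^ 2 = 1) (h4 : ∀ x ∈ S, x ^ 4 = 1) (h2 : ∀ x ∈ S, x ^ 2 = 1 → x = 1 ∨ x = z)
    (hC : ∀ y : N, (∀ x ∈ S, y * x = x * y) → y ^ 2 = 1) :
    commutator N = S := by
  classical
  have hp3 : Fact (Nat.Prime 3) := ⟨Nat.prime_three⟩
  obtain ⟨t, ht⟩ := exists_prime_orderOf_dvd_card' (G := N) 3 (by rw [hN]; norm_num)
  have ht3 : t ^ 3 = 1 := by rw [← ht]; exact pow_orderOf_eq_one t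
  have htinv : t⁻¹ = t * t := by
    rw [inv_eq_iff_mul_eq_one, ← ht3, pow_succ, pow_two, mul_assoc]
  -- `N' ≤ S`
  have hidx : S.index = 3 := by
    have := S.index_mul_card
    rw [hN, hS] at this
    omega
  have hKS : commutator N ≤ S := by
    have hcard : Nat.card (N ⧸ S) = 3 := by rw [← Subgroup.index_eq_card]; exact hidx
    have hcyc : IsCyclic (N ⧸ S) := isCyclic_of_prime_card hcard
    let _ : CommGroup (N ⧸ S) := IsCyclic.commGroup
    rw [commutator_def, Subgroup.commutator_le]
    intro g₁ _ g₂ _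
    rw [← QuotientGroup.eq_one_iff]
    have h1 : ((⁅g₁, g₂⁆ : N) : N ⧸ S) = ⁅(g₁ : N ⧸ S), (g₂ : N ⧸ S)⁆ :=
      map_commutatorElement (QuotientGroup.mk' S) g₁ g₂
    rw [h1, commutatorElement_eq_one_iff_mul_comm]
    exact mul_comm _ _
  have hS2 : IsPGroup 2 S := IsPGroup.of_card (n := 3) (by rw [hS]; norm_num)
  have hbad : ∀ x ∈ S, ¬ (x = 1 ∨ x = z) → x ^ 2 = z := by
    intro x hx hne
    have h1 : (x ^ 2) ^ 2 = 1 := by rw [← pow_mul]; exact h4 x hx
    rcases h2 (x ^ 2) (S.pow_mem hx 2) h1 with h | h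
    · exact absurd (h2 x hx h) hne
    · exact h
  -- `t` commutes with no element of order four of `S`
  have hstep2 : ∀ x ∈ S, ¬ (x = 1 ∨ x = z) → t * x ≠ x * t := by
    intro x hx hne hcomm
    have hx2 : ¬ x ^ 2 ^ 1 = 1 := by
      rw [pow_one]
      intro h
      exact hne (h2 x hx h)
    have hx4 : x ^ 2 ^ (1 + 1) = 1 := by
      have := h4 x hx
      norm_num
      exact this
    have hox : orderOf x = 2 ^ (1 + 1) := orderOf_eq_prime_pow hx2 hx4
    have hall := commute_of_index_two S hS2 x t hx (by rw [hS, hox]; norm_num)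
      (by rw [Subgroup.normalizer_eq_top]; exact Subgroup.mem_top t) hcomm 3 (by norm_num) ht3
    have := hC t hall
    have hd := orderOf_dvd_of_pow_eq_one this
    rw [ht] at hd
    omega
  -- commutators with `t`
  have hstep4 : ∀ x ∈ S, ¬ (x = 1 ∨ x = z) →
      (t * x * t⁻¹ * x⁻¹ ∈ commutator N ∧ t * x * t⁻¹ * x⁻¹ ∈ S ∧
        ¬ (t * x * t⁻¹ * x⁻¹ = 1 ∨ t * x * t⁻¹ * x⁻¹ = z)) := by
    intro x hx hne
    have hmem : t * x * t⁻¹ * x⁻¹ ∈ commutator N := by
      rw [← commutatorElement_def, commutator_def]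
      exact Subgroup.commutator_mem_commutator (Subgroup.mem_top _) (Subgroup.mem_top _)
    refine ⟨hmem, hKS hmem, ?_⟩
    rintro (h | h)
    · apply hstep2 x hx hne
      have : t * x * t⁻¹ = x := by
        rw [mul_inv_eq_one] at h
        exact h
      rw [mul_inv_eq_iff_eq_mul] at this
      exact this
    · have h1 : t * x = z * x * t := by
        have : t * x * t⁻¹ = z * x := by
          rw [mul_inv_eq_iff_eq_mul] at h
          exact h
        rw [mul_inv_eq_iff_eq_mul] at this
        exact this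
      have h3 : (t * t) * x = x * (t * t) := by
        calc (t * t) * x = t * (t * x) := by group
          _ = t * (z * x * t) := by rw [h1]
          _ = (t * z) * x * t := by group
          _ = (z * t) * x * t := by rw [hzc t]
          _ = z * (t * x) * t := by group
          _ = z * (z * x * t) * t := by rw [h1]
          _ = z ^ 2 * x * (t * t) := by rw [pow_two]; group
          _ = x * (t * t) := by rw [hz2, one_mul]
      rw [← htinv] at h3
      apply hstep2 x hx hne
      have : x = t * x * t⁻¹ := by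
        rw [eq_mul_inv_iff_mul_eq]
        calc x * t = t * (t⁻¹ * x) * t := by group
          _ = t * (x * t⁻¹) * t := by rw [h3]
          _ = t * x := by group
      rw [eq_mul_inv_iff_mul_eq] at this
      exact this.symm
  -- an element of `S` outside `{1, z}`
  obtain ⟨x0, hx0, hx0ne⟩ : ∃ x ∈ S, ¬ (x = 1 ∨ x = z) := by
    by_contra hcon
    push Not at hcon
    have hsub : (S : Set N) ⊆ {1, z} := by
      intro x hx
      rcases hcon x hx with h | h
      · left; exact h
      · right; exact h
    have h1 : Nat.card S = (S : Set N).ncard := (Set.ncard_def _).symm ▸ rfl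
    have h3 : (S : Set N).ncard ≤ ({1, z} : Set N).ncard :=
      Set.ncard_le_ncard hsub (Set.toFinite _)
    have h4' : ({1, z} : Set N).ncard ≤ 2 := by
      have := Set.ncard_insert_le (1 : N) ({z} : Set N)
      rw [Set.ncard_singleton] at this
      exact this
    rw [hS] at h1
    omega
  obtain ⟨hnK, hnS, hnne⟩ := hstep4 x0 hx0 hx0ne
  set n := t * x0 * t⁻¹ * x0⁻¹ with hn
  obtain ⟨hmK, hmS, hmne⟩ := hstep4 n hnS hnne
  set m := t * n * t⁻¹ * n⁻¹ with hm
  have hn2 : n ^ 2 = z := hbad n hnS hnne
  have hn4 : n ^ 4 = 1 := h4 n hnS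
  have hon : orderOf n = 2 ^ (1 + 1) := by
    apply orderOf_eq_prime_pow
    · rw [pow_one]
      intro h
      exact hnne (h2 n hnS h)
    · norm_num
      exact hn4
  have hmz : m ∉ Subgroup.zpowers n := by
    rw [mem_zpowers_iff_mem_range_orderOf, hon]
    simp only [Finset.mem_image, Finset.mem_range]
    rintro ⟨i, hi, him⟩
    have hi4 : i < 4 := by norm_num at hi; exact hi
    interval_cases i
    · apply hmne; left; rw [← him, pow_zero]
    · -- `m = n`
      rw [pow_one] at him
      have h1 : t * n * t⁻¹ = n ^ 2 := by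
        have : t * n * t⁻¹ * n⁻¹ = n := him.symm
        rw [mul_inv_eq_iff_eq_mul] at this
        rw [this, sq]
      rw [hn2] at h1
      apply hnne; right
      have : t * n = z * t := by
        rw [mul_inv_eq_iff_eq_mul] at h1
        exact h1
      rw [← hzc t] at this
      exact mul_left_cancel this
    · apply hmne; right; rw [← him, hn2]
    · -- `m = n⁻¹`
      have hinv : n ^ 3 = n⁻¹ := by
        rw [eq_inv_iff_mul_eq_one, ← pow_succ]
        exact hn4
      have h1 : t * n * t⁻¹ * n⁻¹ = n⁻¹ := by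
        have := him.symm
        rw [hinv] at this
        exact this
      have h3 : t * n * t⁻¹ = 1 := mul_right_cancel (h1.trans (one_mul _).symm)
      apply hnne; left
      have : t * n = t := by
        rw [mul_inv_eq_one] at h3
        exact h3
      exact mul_left_cancel (this.trans (mul_one t).symm)
  have hzK : Subgroup.zpowers n ≤ commutator N := by
    rw [Subgroup.zpowers_le]; exact hnK
  have hc4 : Nat.card (Subgroup.zpowers n) = 4 := by rw [Nat.card_zpowers, hon]; norm_num
  have hd1 : 4 ∣ Nat.card (commutator N) := by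
    rw [← hc4]; exact Subgroup.card_dvd_of_le hzK
  have hd2 : Nat.card (commutator N) ∣ 8 := by
    rw [← hS]; exact Subgroup.card_dvd_of_le hKS
  have hne4 : Nat.card (commutator N) ≠ 4 := by
    intro h
    have := Subgroup.eq_of_le_of_card_ge hzK (by rw [h, hc4])
    apply hmz
    rw [this]
    exact hmK
  have hc8 : Nat.card (commutator N) = 8 := by
    obtain ⟨a, ha⟩ := hd1
    obtain ⟨b, hb⟩ := hd2
    rw [ha] at hb hne4 ⊢
    have ha2 : a ≤ 2 := by
      rcases Nat.eq_zero_or_pos b with h0 | h0
      · rw [h0] at hb; omega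
      · nlinarith
    interval_cases a
    · omega
    · omega
    · rfl
  exact Subgroup.eq_of_le_of_card_ge hKS (by rw [hS, hc8])

end order24


section count24
variable {N : Type u} [Group N] [Finite N]

/-- A group of order `24` with exactly three linear characters has exactly four irreducible
characters of odd degree (degrees `1, 1, 1, 2, 2, 2, 3`). -/
theorem card_irr_odd_of_card_24 (hN : Nat.card N = 24) (hlin : Nat.card (N →* ℂˣ) = 3) :
    Nat.card {ψ : IrrCharacter N // ¬ 2 ∣ charDegree (ψ : N → ℂ)} = 4 := by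
  classical
  have := Fintype.ofFinite N
  let _ : Fintype (IrrCharacter N) := Cfsg.Agent.Helper74.irrFintype N
  have hsum := Cfsg.Agent.Helper38.sum_charDegree_sq_of (G := N)
  rw [hN] at hsum
  have hpos : ∀ ψ : IrrCharacter N, 1 ≤ charDegree (ψ : N → ℂ) :=
    fun ψ => Cfsg.Agent.Helper78.charDegree_pos_of_isIrrCharacter ψ.2
  have hle : ∀ ψ : IrrCharacter N, charDegree (ψ : N → ℂ) ≤ 4 := by
    intro ψ
    have h1 : charDegree (ψ : N → ℂ) ^ 2 ≤ 24 := by
      rw [← hsum]
      exact Finset.single_le_sum (f := fun ψ : IrrCharacter N => charDegree (ψ : N → ℂ) ^ 2)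
        (fun _ _ => Nat.zero_le _) (Finset.mem_univ ψ)
    nlinarith
  have h1 := card_irr_degree_one (N := N)
  rw [hlin, Nat.card_eq_fintype_card, Fintype.card_subtype] at h1
  rw [Nat.card_eq_fintype_card, Fintype.card_subtype]
  have hsq : ∀ ψ : IrrCharacter N, charDegree (ψ : N → ℂ) ^ 2 =
      (if charDegree (ψ : N → ℂ) = 1 then 1 else 0) +
      (if charDegree (ψ : N → ℂ) = 2 then 4 else 0) +
      (if charDegree (ψ : N → ℂ) = 3 then 9 else 0) +
      (if charDegree (ψ : N → ℂ) = 4 then 16 else 0) := by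
    intro ψ
    have h1 := hpos ψ
    have h2 := hle ψ
    generalize charDegree (ψ : N → ℂ) = d at h1 h2
    interval_cases d <;> simp
  have hoddp : ∀ ψ : IrrCharacter N, (if ¬ 2 ∣ charDegree (ψ : N → ℂ) then 1 else 0) =
      (if charDegree (ψ : N → ℂ) = 1 then 1 else 0) +
      (if charDegree (ψ : N → ℂ) = 3 then 1 else 0) := by
    intro ψ
    have h1 := hpos ψ
    have h2 := hle ψ
    generalize charDegree (ψ : N → ℂ) = d at h1 h2
    interval_cases d <;> simp
  simp only [hsq, Finset.sum_add_distrib, Finset.sum_ite, Finset.sum_const, smul_eq_mul,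
    Finset.sum_const_zero, add_zero, Finset.filter_univ_mem] at hsum
  rw [Finset.card_filter]
  simp only [hoddp, Finset.sum_add_distrib, Finset.sum_ite, Finset.sum_const, smul_eq_mul,
    Finset.sum_const_zero, add_zero]
  omega

end count24


section quaternion

open QuaternionGroup
open scoped commutatorElement

theorem a_two_mul_mem_zpowers {m : ℕ} [NeZero m] (k : ZMod (2 * m)) :
    (a (2 * k) : QuaternionGroup m) ∈ Subgroup.zpowers (a 2 : QuaternionGroup m) := by
  obtain ⟨j, hj⟩ := Subgroup.mem_zpowers_iff.mp (Cfsg.Agent.Helper14.a_mem_zpowers (m := m) k)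
  rw [Subgroup.mem_zpowers_iff]
  refine ⟨j, ?_⟩
  have h2 : (a 2 : QuaternionGroup m) = (a 1) ^ (2 : ℤ) := by
    rw [zpow_ofNat, a_one_pow]
    norm_num
  have h3 : (a (2 * k) : QuaternionGroup m) = (a k) ^ (2 : ℤ) := by
    rw [zpow_ofNat, pow_two, a_mul_a, two_mul]
  rw [h2, h3, ← hj, ← zpow_mul, ← zpow_mul]
  congr 1
  exact mul_comm _ _

/-- The derived subgroup of the generalized quaternion (dicyclic) group of order `4 m` is
generated by `a 2`. -/
theorem quaternion_commutator_eq {m : ℕ} [NeZero m] :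
    commutator (QuaternionGroup m) = Subgroup.zpowers (a 2 : QuaternionGroup m) := by
  apply le_antisymm
  · rw [commutator_eq_closure, Subgroup.closure_le]
    rintro _ ⟨x, y, rfl⟩
    rw [SetLike.mem_coe, commutatorElement_def]
    have hinv_a : ∀ i : ZMod (2 * m), (a i : QuaternionGroup m)⁻¹ = a (-i) := fun _ => rfl
    have hinv_xa : ∀ i : ZMod (2 * m),
        (xa i : QuaternionGroup m)⁻¹ = xa ((m : ZMod (2 * m)) + i) := fun _ => rfl
    have h2m : (2 : ZMod (2 * m)) * (m : ZMod (2 * m)) = 0 := by
      have : ((2 * m : ℕ) : ZMod (2 * m)) = 0 := ZMod.natCast_self _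
      push_cast at this
      exact this
    rcases x with i | i <;> rcases y with j | j <;>
      simp only [hinv_a, hinv_xa, a_mul_a, a_mul_xa, xa_mul_a, xa_mul_xa]
    · have : i + j + -i + -j = 2 * 0 := by ring
      rw [this]; exact a_two_mul_mem_zpowers 0
    · have : (m : ZMod (2 * m)) + ((m : ZMod (2 * m)) + j) - (j - i + -i) = 2 * i := by
        linear_combination h2m
      rw [this]; exact a_two_mul_mem_zpowers i
    · have : (m : ZMod (2 * m)) + ((m : ZMod (2 * m)) + i) - (i + j) + -j = 2 * (-j) := by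
        linear_combination h2m
      rw [this]; exact a_two_mul_mem_zpowers _
    · have : (m : ZMod (2 * m)) + ((m : ZMod (2 * m)) + j) -
          ((m : ZMod (2 * m)) + i - ((m : ZMod (2 * m)) + j - i)) = 2 * (j - i) := by
        linear_combination h2m
      rw [this]; exact a_two_mul_mem_zpowers _
  · rw [Subgroup.zpowers_le]
    exact Cfsg.Agent.Helper14.a_two_mem_commutator

theorem quaternion_commutator_index {m : ℕ} [NeZero m] :
    (commutator (QuaternionGroup m)).index = 4 := by
  have hm : 0 < m := Nat.pos_of_ne_zero (NeZero.ne m)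
  have hcard : Nat.card (Subgroup.zpowers (a 2 : QuaternionGroup m)) = m := by
    rw [Nat.card_zpowers]
    have h2 : (a 2 : QuaternionGroup m) = (a 1) ^ 2 := by
      rw [a_one_pow]; norm_num
    rw [h2, orderOf_pow' _ (by norm_num), QuaternionGroup.orderOf_a_one]
    have hg : (2 * m).gcd 2 = 2 := Nat.gcd_eq_right (Dvd.intro m rfl)
    rw [hg]
    exact Nat.mul_div_cancel_left m (by norm_num)
  have h := (commutator (QuaternionGroup m)).index_mul_card
  rw [quaternion_commutator_eq, hcard, Nat.card_eq_fintype_card, QuaternionGroup.card] at h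
  rw [quaternion_commutator_eq]
  have : (Subgroup.zpowers (a 2 : QuaternionGroup m)).index * m = 4 * m := h
  exact Nat.eq_of_mul_eq_mul_right hm this

end quaternion

/-- The number of linear characters is invariant under isomorphism. -/
theorem card_monoidHom_units_congr {H : Type u} {H' : Type v} [Group H] [Group H']
    (e : H ≃* H') : Nat.card (H →* ℂˣ) = Nat.card (H' →* ℂˣ) :=
  Nat.card_congr (e.monoidHomCongrLeftEquiv)


/-- For an abelian Sylow `ℓ`-subgroup `S`, all irreducible characters of `N_G(S)` have degree prime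
to `ℓ`, so they are counted by the conjugacy classes of `N_G(S)`. -/
theorem card_irr_normalizer_of_abelian {G : Type u} [Group G] [Finite G] (ℓ : ℕ) [Fact ℓ.Prime]
    (S : Sylow ℓ G) (hab : ∀ a ∈ S, ∀ b ∈ S, a * b = b * a) :
    Nat.card {ψ : IrrCharacter (Subgroup.normalizer ((S : Subgroup G) : Set G)) //
        ¬ ℓ ∣ charDegree (ψ : Subgroup.normalizer ((S : Subgroup G) : Set G) → ℂ)} =
      Nat.card (ConjClasses (Subgroup.normalizer ((S : Subgroup G) : Set G))) := by
  apply card_irr_not_dvd_eq_card_conjClasses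
    ((S : Subgroup G).subgroupOf (Subgroup.normalizer ((S : Subgroup G) : Set G)))
  · intro a ha b hb
    apply Subtype.ext
    exact hab a ha b hb
  · intro h
    apply S.not_dvd_index
    exact h.trans (Subgroup.relIndex_dvd_index_of_le Subgroup.le_normalizer)

/-- The order of a Sylow subgroup from a factorisation of the group order. -/
theorem card_sylow_of_card_eq {G : Type u} [Group G] [Finite G] (p : ℕ) [hp : Fact p.Prime]
    (P : Sylow p G) (a m : ℕ) (hcard : Nat.card G = p ^ a * m) (hm : ¬ p ∣ m) :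
    Nat.card (P : Subgroup G) = p ^ a := by
  rw [P.card_eq_multiplicity, hcard]
  congr 1
  have hpa : p ^ a ≠ 0 := pow_ne_zero _ hp.out.ne_zero
  have hm0 : m ≠ 0 := by
    rintro rfl
    exact hm (dvd_zero p)
  rw [Nat.factorization_mul hpa hm0]
  simp only [Nat.factorization_pow, hp.out.factorization_self, Finsupp.coe_add,
    Pi.add_apply, Finsupp.smul_apply, smul_eq_mul, mul_one]
  rw [Nat.factorization_eq_zero_of_not_dvd hm, add_zero]

end Cfsg.Agent.Helper39
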