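import Mathlib

set_option autoImplicit false

/-!
# A counting lemma for the degrees of the cuspidal characters of `SL₂(q)`, `q` odd
-/

namespace Cfsg.Agent.Helper39

open Finset

/-- If `j + 2` positive divisors of `2j` have squares summing to `(2j+1)·2j²`, then they are
`j` times `2j` and twice `j`. -/
theorem half_count {I : Type*} [DecidableEq I] (R : Finset I) (d : I → ℕ) (j : ℕ) (hj : 1 ≤ j)
    (hdvd : ∀ x ∈ R, d x ∣ 2 * j) (hpos : ∀ x ∈ R, 0 < d x)
    (hcard : R.card = j + 2) (hsum : ∑ x ∈ R, d x ^ 2 = (2 * j + 1) * (2 * j ^ 2)) :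
    (∀ x ∈ R, d x = 2 * j ∨ d x = j) ∧ (R.filter (fun x => d x = j)).card = 2 ∧
      (R.filter (fun x => d x = 2 * j)).card = j := by
  have hJ : 0 < j ^ 2 := by positivity
  have hle : ∀ x ∈ R, d x ≤ 2 * j := fun x hx => Nat.le_of_dvd (by omega) (hdvd x hx)
  have hle2 : ∀ x ∈ R, d x ^ 2 ≤ 4 * j ^ 2 := by
    intro x hx
    have := Nat.pow_le_pow_left (hle x hx) 2
    calc d x ^ 2 ≤ (2 * j) ^ 2 := this
      _ = 4 * j ^ 2 := by ring
  set t : I → ℕ := fun x => 4 * j ^ 2 - d x ^ 2 with ht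
  have htsum : ∑ x ∈ R, t x = 6 * j ^ 2 := by
    have h1 : ∑ x ∈ R, (d x ^ 2 + t x) = ∑ x ∈ R, 4 * j ^ 2 := by
      apply sum_congr rfl
      intro x hx
      have := hle2 x hx
      simp only [ht]
      omega
    rw [sum_add_distrib, hsum, sum_const, hcard, smul_eq_mul] at h1
    have h2 : (j + 2) * (4 * j ^ 2) = (2 * j + 1) * (2 * j ^ 2) + 6 * j ^ 2 := by ring
    omega
  set A := R.filter (fun x => d x = 2 * j) with hA
  set R₁ := R.filter (fun x => ¬ d x = 2 * j) with hR₁
  set B := R₁.filter (fun x => d x = j) with hB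
  set C := R₁.filter (fun x => ¬ d x = j) with hC
  have hBeq : R.filter (fun x => d x = j) = B := by
    ext x
    simp only [hB, hR₁, mem_filter]
    constructor
    · rintro ⟨h1, h2⟩
      exact ⟨⟨h1, by omega⟩, h2⟩
    · rintro ⟨⟨h1, -⟩, h2⟩
      exact ⟨h1, h2⟩
  have hcard1 : A.card + R₁.card = R.card := by
    rw [hA, hR₁]
    exact card_filter_add_card_filter_not _
  have hcard2 : B.card + C.card = R₁.card := by
    rw [hB, hC]
    exact card_filter_add_card_filter_not _
  have hs1 : ∑ x ∈ A, t x + ∑ x ∈ R₁, t x = ∑ x ∈ R, t x := by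
    rw [hA, hR₁]
    exact sum_filter_add_sum_filter_not _ _ _
  have hs2 : ∑ x ∈ B, t x + ∑ x ∈ C, t x = ∑ x ∈ R₁, t x := by
    rw [hB, hC]
    exact sum_filter_add_sum_filter_not _ _ _
  have hAt : ∑ x ∈ A, t x = 0 := by
    apply sum_eq_zero
    intro x hx
    have hx' := (mem_filter.mp hx).2
    simp only [ht, hx']
    have : (2 * j) ^ 2 = 4 * j ^ 2 := by ring
    omega
  have hBt : ∑ x ∈ B, t x = B.card * (3 * j ^ 2) := by
    rw [← smul_eq_mul, ← sum_const]
    apply sum_congr rfl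
    intro x hx
    have hx' := (mem_filter.mp hx).2
    simp only [ht, hx']
    omega
  have hCmem : ∀ x ∈ C, 3 * d x ≤ 2 * j := by
    intro x hx
    obtain ⟨hx1, hx2⟩ := mem_filter.mp hx
    obtain ⟨hxR, hx3⟩ := mem_filter.mp hx1
    obtain ⟨k, hk⟩ := hdvd x hxR
    have hdpos := hpos x hxR
    rcases k with _ | _ | _ | k
    · omega
    · omega
    · omega
    · have : d x * (k + 1 + 1 + 1) = d x * k + 3 * d x := by ring
      omega
  have hCt1 : 32 * j ^ 2 * C.card ≤ 9 * ∑ x ∈ C, t x := by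
    rw [mul_sum, mul_comm, ← smul_eq_mul, ← sum_const]
    apply sum_le_sum
    intro x hx
    have h3 := hCmem x hx
    have h9 : 9 * d x ^ 2 ≤ 4 * j ^ 2 := by
      have := Nat.pow_le_pow_left h3 2
      calc 9 * d x ^ 2 = (3 * d x) ^ 2 := by ring
        _ ≤ (2 * j) ^ 2 := this
        _ = 4 * j ^ 2 := by ring
    simp only [ht]
    omega
  have hCt2 : ∑ x ∈ C, t x ≤ C.card * (4 * j ^ 2) := by
    rw [← smul_eq_mul, ← sum_const]
    apply sum_le_sum
    intro x hx
    simp only [ht]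
    omega
  -- the numerical conclusion
  have hmain : 6 * j ^ 2 = B.card * (3 * j ^ 2) + ∑ x ∈ C, t x := by
    rw [← htsum, ← hs1, hAt, zero_add, ← hs2, hBt]
  have h54 : j ^ 2 * (27 * B.card + 32 * C.card) ≤ j ^ 2 * 54 := by
    have : 9 * (6 * j ^ 2) = 9 * (B.card * (3 * j ^ 2)) + 9 * ∑ x ∈ C, t x := by rw [hmain]; ring
    nlinarith
  have h6 : j ^ 2 * 6 ≤ j ^ 2 * (3 * B.card + 4 * C.card) := by
    nlinarith
  have h54' := Nat.le_of_mul_le_mul_left h54 hJ
  have h6' := Nat.le_of_mul_le_mul_left h6 hJ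
  have hb2 : B.card ≤ 2 := by omega
  have hc1 : C.card ≤ 1 := by omega
  have hbc : B.card = 2 ∧ C.card = 0 := by
    generalize B.card = b at *
    generalize C.card = c at *
    interval_cases b <;> interval_cases c <;> omega
  obtain ⟨hb, hc⟩ := hbc
  refine ⟨?_, ?_, ?_⟩
  · intro x hx
    by_contra hcon
    rw [not_or] at hcon
    have : x ∈ C := by
      simp only [hC, hR₁, mem_filter]
      exact ⟨⟨hx, hcon.1⟩, hcon.2⟩
    rw [card_eq_zero] at hc
    rw [hc] at this
    exact absurd this (notMem_empty x)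
  · rw [hBeq, hb]
  · omega

/-- The abstract degree count for `SL₂(q)`, `q = 2j + 1`. -/
theorem odd_degree_count {I : Type*} [Fintype I] [DecidableEq I] (d : I → ℕ) (j : ℕ) (hj : 2 ≤ j)
    (hN : Fintype.card I = 2 * j + 5)
    (hT : ∑ χ : I, d χ ^ 2 = (2 * j + 1) * ((2 * j) * (2 * j + 2)))
    (t s h₁ h₂ : I) (P : Finset I)
    (dt : d t = 1) (ds : d s = 2 * j + 1) (dP : ∀ x ∈ P, d x = 2 * j + 2) (cP : P.card + 1 = j)
    (dh₁ : d h₁ = j + 1) (dh₂ : d h₂ = j + 1) (hh : h₁ ≠ h₂)
    (hcl : ∀ χ, χ = t ∨ χ = s ∨ χ ∈ P ∨ χ = h₁ ∨ χ = h₂ ∨ (d χ ∣ 2 * j ∧ 0 < d χ)) :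
    (∀ χ, d χ = 1 ∨ d χ = 2 * j + 1 ∨ d χ = 2 * j + 2 ∨ d χ = 2 * j ∨ d χ = j + 1 ∨ d χ = j) ∧
    (univ.filter (fun χ => d χ = 1)).card = 1 ∧
    (univ.filter (fun χ => d χ = 2 * j + 1)).card = 1 ∧
    (univ.filter (fun χ => d χ = 2 * j + 2)).card + 1 = j ∧
    (univ.filter (fun χ => d χ = 2 * j)).card = j ∧
    (univ.filter (fun χ => d χ = j + 1)).card = 2 ∧
    (univ.filter (fun χ => d χ = j)).card = 2 := by
  have h₂P : h₂ ∉ P := fun h => by have := dP _ h; omega
  have h₁P : h₁ ∉ insert h₂ P := by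
    intro h
    rcases mem_insert.mp h with h | h
    · exact hh h
    · have := dP _ h; omega
  have hsP : s ∉ insert h₁ (insert h₂ P) := by
    intro h
    rcases mem_insert.mp h with h | h
    · rw [h] at ds; omega
    · rcases mem_insert.mp h with h | h
      · rw [h] at ds; omega
      · have := dP _ h; omega
  have htP : t ∉ insert s (insert h₁ (insert h₂ P)) := by
    intro h
    rcases mem_insert.mp h with h | h
    · rw [h] at dt; omega
    · rcases mem_insert.mp h with h | h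
      · rw [h] at dt; omega
      · rcases mem_insert.mp h with h | h
        · rw [h] at dt; omega
        · have := dP _ h; omega
  set K : Finset I := insert t (insert s (insert h₁ (insert h₂ P))) with hK
  have cK : K.card = j + 3 := by
    rw [hK, card_insert_of_notMem htP, card_insert_of_notMem hsP, card_insert_of_notMem h₁P,
      card_insert_of_notMem h₂P]
    omega
  have sK : ∑ x ∈ K, d x ^ 2 =
      1 + (2 * j + 1) ^ 2 + (j + 1) ^ 2 + (j + 1) ^ 2 + P.card * (2 * j + 2) ^ 2 := by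
    rw [hK, sum_insert htP, sum_insert hsP, sum_insert h₁P, sum_insert h₂P, dt, ds, dh₁, dh₂,
      sum_congr rfl (fun x hx => by rw [dP x hx] : ∀ x ∈ P, d x ^ 2 = (2 * j + 2) ^ 2),
      sum_const, smul_eq_mul]
    ring
  set R : Finset I := univ \ K with hR
  have cR : R.card = j + 2 := by
    have := card_sdiff_add_card_eq_card (subset_univ K)
    rw [card_univ, hN, cK] at this
    rw [hR]
    omega
  have sR : ∑ x ∈ R, d x ^ 2 = (2 * j + 1) * (2 * j ^ 2) := by
    have h1 : ∑ x ∈ R, d x ^ 2 + ∑ x ∈ K, d x ^ 2 = ∑ x : I, d x ^ 2 := by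
      rw [hR]
      exact sum_sdiff (subset_univ K)
    rw [hT, sK] at h1
    obtain ⟨i, rfl⟩ : ∃ i, j = i + 1 := ⟨j - 1, by omega⟩
    have hP : P.card = i := by omega
    rw [hP] at h1
    have h2 : (2 * (i + 1) + 1) * ((2 * (i + 1)) * (2 * (i + 1) + 2)) =
        (2 * (i + 1) + 1) * (2 * (i + 1) ^ 2) +
        (1 + (2 * (i + 1) + 1) ^ 2 + (i + 1 + 1) ^ 2 + (i + 1 + 1) ^ 2 +
          i * (2 * (i + 1) + 2) ^ 2) := by ring
    omega
  have hRmem : ∀ χ, χ ∉ K → χ ∈ R := by
    intro χ h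
    rw [hR, mem_sdiff]
    exact ⟨mem_univ _, h⟩
  have hRprop : ∀ χ ∈ R, d χ ∣ 2 * j ∧ 0 < d χ := by
    intro χ hχ
    rw [hR, mem_sdiff] at hχ
    have hn := hχ.2
    rcases hcl χ with rfl | rfl | h | rfl | rfl | h
    · exact absurd (mem_insert_self _ _) hn
    · exact absurd (mem_insert_of_mem (mem_insert_self _ _)) hn
    · exact absurd (mem_insert_of_mem (mem_insert_of_mem (mem_insert_of_mem
        (mem_insert_of_mem h)))) hn
    · exact absurd (mem_insert_of_mem (mem_insert_of_mem (mem_insert_self _ _))) hn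
    · exact absurd (mem_insert_of_mem (mem_insert_of_mem (mem_insert_of_mem
        (mem_insert_self _ _)))) hn
    · exact h
  obtain ⟨hRd, hRj, hR2j⟩ := half_count R d j (by omega) (fun x hx => (hRprop x hx).1)
    (fun x hx => (hRprop x hx).2) cR sR
  have hclass : ∀ χ, χ = t ∨ χ = s ∨ χ ∈ P ∨ χ = h₁ ∨ χ = h₂ ∨ χ ∈ R := by
    intro χ
    by_cases h : χ ∈ K
    · rw [hK] at h
      simp only [mem_insert] at h
      tauto
    · right; right; right; right; right
      exact hRmem χ h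
  have hdeg : ∀ χ, (χ = t ∧ d χ = 1) ∨ (χ = s ∧ d χ = 2 * j + 1) ∨ (χ ∈ P ∧ d χ = 2 * j + 2) ∨
      ((χ = h₁ ∨ χ = h₂) ∧ d χ = j + 1) ∨ (χ ∈ R ∧ (d χ = 2 * j ∨ d χ = j)) := by
    intro χ
    rcases hclass χ with rfl | rfl | h | rfl | rfl | h
    · left; exact ⟨rfl, dt⟩
    · right; left; exact ⟨rfl, ds⟩
    · right; right; left; exact ⟨h, dP χ h⟩
    · right; right; right; left; exact ⟨Or.inl rfl, dh₁⟩
    · right; right; right; left; exact ⟨Or.inr rfl, dh₂⟩
    · right; right; right; right; exact ⟨h, hRd χ h⟩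
  have hRnotK : ∀ χ ∈ R, χ ∉ K := by
    intro χ hχ
    rw [hR, mem_sdiff] at hχ
    exact hχ.2
  refine ⟨?_, ?_, ?_, ?_, ?_, ?_, ?_⟩
  · intro χ
    rcases hdeg χ with ⟨-, h⟩ | ⟨-, h⟩ | ⟨-, h⟩ | ⟨-, h⟩ | ⟨-, h | h⟩
    · left; exact h
    · right; left; exact h
    · right; right; left; exact h
    · right; right; right; right; left; exact h
    · right; right; right; left; exact h
    · right; right; right; right; right; exact h
  · have : univ.filter (fun χ => d χ = 1) = {t} := by
      ext χ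
      simp only [mem_filter, mem_univ, true_and, mem_singleton]
      constructor
      · intro h
        rcases hdeg χ with ⟨h', -⟩ | ⟨-, h'⟩ | ⟨-, h'⟩ | ⟨-, h'⟩ | ⟨-, h' | h'⟩
        · exact h'
        all_goals omega
      · rintro rfl
        exact dt
    rw [this, card_singleton]
  · have : univ.filter (fun χ => d χ = 2 * j + 1) = {s} := by
      ext χ
      simp only [mem_filter, mem_univ, true_and, mem_singleton]
      constructor
      · intro h
        rcases hdeg χ with ⟨-, h'⟩ | ⟨h', -⟩ | ⟨-, h'⟩ | ⟨-, h'⟩ | ⟨-, h' | h'⟩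
        · omega
        · exact h'
        all_goals omega
      · rintro rfl
        exact ds
    rw [this, card_singleton]
  · have : univ.filter (fun χ => d χ = 2 * j + 2) = P := by
      ext χ
      simp only [mem_filter, mem_univ, true_and]
      constructor
      · intro h
        rcases hdeg χ with ⟨-, h'⟩ | ⟨-, h'⟩ | ⟨h', -⟩ | ⟨-, h'⟩ | ⟨-, h' | h'⟩
        · omega
        · omega
        · exact h'
        all_goals omega
      · exact dP χ
    rw [this, cP]
  · have : univ.filter (fun χ => d χ = 2 * j) = R.filter (fun χ => d χ = 2 * j) := by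
      ext χ
      simp only [mem_filter, mem_univ, true_and]
      constructor
      · intro h
        rcases hdeg χ with ⟨-, h'⟩ | ⟨-, h'⟩ | ⟨-, h'⟩ | ⟨-, h'⟩ | ⟨h', -⟩
        · omega
        · omega
        · omega
        · omega
        · exact ⟨h', h⟩
      · exact fun h => h.2
    rw [this, hR2j]
  · have : univ.filter (fun χ => d χ = j + 1) = {h₁, h₂} := by
      ext χ
      simp only [mem_filter, mem_univ, true_and, mem_insert, mem_singleton]
      constructor
      · intro h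
        rcases hdeg χ with ⟨-, h'⟩ | ⟨-, h'⟩ | ⟨-, h'⟩ | ⟨h', -⟩ | ⟨-, h' | h'⟩
        · omega
        · omega
        · omega
        · exact h'
        all_goals omega
      · rintro (rfl | rfl)
        · exact dh₁
        · exact dh₂
    rw [this, card_pair hh]
  · have : univ.filter (fun χ => d χ = j) = R.filter (fun χ => d χ = j) := by
      ext χ
      simp only [mem_filter, mem_univ, true_and]
      constructor
      · intro h
        rcases hdeg χ with ⟨-, h'⟩ | ⟨-, h'⟩ | ⟨-, h'⟩ | ⟨-, h'⟩ | ⟨h', -⟩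
        · omega
        · omega
        · omega
        · omega
        · exact ⟨h', h⟩
      · exact fun h => h.2
    rw [this, hRj]

end Cfsg.Agent.Helper39
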