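import Cfsg.Agent.Helper39.SL2Half

set_option autoImplicit false

/-!
# The conjugacy classes of `SL₂(F)`, `q` odd
-/

namespace Cfsg.Agent.Helper39

open Matrix Cfsg

variable {F : Type*} [Field F]

/-- The companion matrix of `X² - tX + 1`. -/
def cSL (t : F) : Matrix.SpecialLinearGroup (Fin 2) F :=
  mkSL2 !![0, -1; 1, t] (by simp [Matrix.det_fin_two])

theorem cSL_00 (t : F) : (cSL t : Matrix (Fin 2) (Fin 2) F) 0 0 = 0 := rfl
theorem cSL_01 (t : F) : (cSL t : Matrix (Fin 2) (Fin 2) F) 0 1 = -1 := rfl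
theorem cSL_10 (t : F) : (cSL t : Matrix (Fin 2) (Fin 2) F) 1 0 = 1 := rfl
theorem cSL_11 (t : F) : (cSL t : Matrix (Fin 2) (Fin 2) F) 1 1 = t := rfl

theorem trace_cSL (t : F) : (cSL t : Matrix (Fin 2) (Fin 2) F).trace = t := by
  rw [Matrix.trace_fin_two, cSL_00, cSL_11, zero_add]

theorem trace_twistFun (d : Fˣ) (s : Matrix.SpecialLinearGroup (Fin 2) F) :
    (twistFun d s : Matrix (Fin 2) (Fin 2) F).trace = (s : Matrix (Fin 2) (Fin 2) F).trace := by
  rw [Matrix.trace_fin_two, Matrix.trace_fin_two, twistFun_00, twistFun_11]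

theorem trace_conj_sl (c g : Matrix.SpecialLinearGroup (Fin 2) F) :
    ((c * g * c⁻¹ : Matrix.SpecialLinearGroup (Fin 2) F) : Matrix (Fin 2) (Fin 2) F).trace =
      (g : Matrix (Fin 2) (Fin 2) F).trace := by
  rw [Matrix.SpecialLinearGroup.coe_mul, Matrix.SpecialLinearGroup.coe_mul, Matrix.trace_mul_cycle,
    ← Matrix.SpecialLinearGroup.coe_mul, inv_mul_cancel, Matrix.SpecialLinearGroup.coe_one,
    one_mul]

/-- The non-scalar elements. -/
def IsNonScalarSL (s : Matrix.SpecialLinearGroup (Fin 2) F) : Prop :=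
  ¬ ((s : Matrix (Fin 2) (Fin 2) F) 0 1 = 0 ∧ (s : Matrix (Fin 2) (Fin 2) F) 1 0 = 0 ∧
    (s : Matrix (Fin 2) (Fin 2) F) 0 0 = (s : Matrix (Fin 2) (Fin 2) F) 1 1)

theorem isNonScalarSL_cSL (t : F) : IsNonScalarSL (cSL t) := by
  intro h
  have := h.2.1
  rw [cSL_10] at this
  exact one_ne_zero this

theorem isNonScalarSL_twist (d : Fˣ) (t : F) : IsNonScalarSL (twistFun d (cSL t)) := by
  intro h
  have := h.2.1
  rw [twistFun_10, cSL_10, mul_one] at this
  exact (d⁻¹).ne_zero this

/-- A non-scalar element of `SL₂(F)` is `GL₂`-conjugate to the companion matrix. -/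
theorem isConj_compGL (s : Matrix.SpecialLinearGroup (Fin 2) F) (hs : IsNonScalarSL s) :
    IsConj (Cfsg.Agent.S2330.compGL ((s : Matrix (Fin 2) (Fin 2) F).trace) 1)
      (Matrix.SpecialLinearGroup.toGL s) := by
  rcases Cfsg.Agent.S2330.conj_normal_form (Matrix.SpecialLinearGroup.toGL s) with
    ⟨a, ha⟩ | ⟨t, d, hconj⟩
  · exfalso
    apply hs
    have e01 := congrArg (fun x : GL (Fin 2) F => (x : Matrix (Fin 2) (Fin 2) F) 0 1) ha
    have e10 := congrArg (fun x : GL (Fin 2) F => (x : Matrix (Fin 2) (Fin 2) F) 1 0) ha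
    have e00 := congrArg (fun x : GL (Fin 2) F => (x : Matrix (Fin 2) (Fin 2) F) 0 0) ha
    have e11 := congrArg (fun x : GL (Fin 2) F => (x : Matrix (Fin 2) (Fin 2) F) 1 1) ha
    simp only [toGL_apply] at e01 e10 e00 e11
    simp [Cfsg.Agent.S2330.scalarGL, Matrix.GeneralLinearGroup.mkOfDetNeZero] at e01 e10 e00 e11
    exact ⟨e01, e10, by rw [e00, e11]⟩
  · obtain ⟨c, hc⟩ := isConj_iff.mp hconj
    have h1 := Cfsg.Agent.S2330.trace_conj c (Cfsg.Agent.S2330.compGL t d)
    have h2 := Cfsg.Agent.S2330.det_conj c (Cfsg.Agent.S2330.compGL t d)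
    rw [hc] at h1 h2
    have hdet : ((Matrix.SpecialLinearGroup.toGL s : GL (Fin 2) F) :
        Matrix (Fin 2) (Fin 2) F).det = 1 := s.2
    have htr : ((Matrix.SpecialLinearGroup.toGL s : GL (Fin 2) F) :
        Matrix (Fin 2) (Fin 2) F).trace = (s : Matrix (Fin 2) (Fin 2) F).trace := rfl
    rw [hdet] at h2
    rw [htr] at h1
    have h1' : (s : Matrix (Fin 2) (Fin 2) F).trace = t := by
      rw [h1]
      simp [Cfsg.Agent.S2330.compGL, Matrix.GeneralLinearGroup.mkOfDetNeZero, Matrix.trace_fin_two]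
    have h2' : (1 : F) = (d : F) := by
      rw [h2]
      simp [Cfsg.Agent.S2330.compGL, Matrix.GeneralLinearGroup.mkOfDetNeZero, Matrix.det_fin_two]
    have hd : d = 1 := Units.ext (by rw [← h2']; rfl)
    rw [h1', ← hd]
    exact hconj

/-- Two non-scalar elements of `SL₂(F)` of the same trace are conjugate up to a twist. -/
theorem exists_twist_conj (g h : Matrix.SpecialLinearGroup (Fin 2) F) (hg : IsNonScalarSL g)
    (hh : IsNonScalarSL h)
    (htr : (g : Matrix (Fin 2) (Fin 2) F).trace = (h : Matrix (Fin 2) (Fin 2) F).trace) :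
    ∃ (d : Fˣ) (n : Matrix.SpecialLinearGroup (Fin 2) F), g = n * twistFun d h * n⁻¹ := by
  have h1 := isConj_compGL g hg
  have h2 := isConj_compGL h hh
  rw [htr] at h1
  obtain ⟨x, hx⟩ := isConj_iff.mp (h2.symm.trans h1)
  obtain ⟨n, hn⟩ := exists_conj_twist x h g hx.symm
  exact ⟨_, n, hn⟩

/-- For `t² = 4`, the companion matrix is not conjugate in `SL₂(F)` to its twist by a
non-square. -/
theorem not_isConj_cSL_twist (h2 : (2 : F) ≠ 0) {ν : Fˣ} (hν : ¬ IsSquare (ν : F)) (t : F)
    (ht : t ^ 2 = 4) : ¬ IsConj (cSL t) (twistFun ν (cSL t)) := by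
  intro h
  obtain ⟨c, hc⟩ := isConj_iff.mp h
  have hc' : c * cSL t = twistFun ν (cSL t) * c := by
    rw [← hc]
    group
  have e00 := congrArg
    (fun s : Matrix.SpecialLinearGroup (Fin 2) F => (s : Matrix (Fin 2) (Fin 2) F) 0 0) hc'
  have e01 := congrArg
    (fun s : Matrix.SpecialLinearGroup (Fin 2) F => (s : Matrix (Fin 2) (Fin 2) F) 0 1) hc'
  simp only [sl2_mul_00, sl2_mul_01, cSL_00, cSL_01, cSL_10, cSL_11, twistFun_00, twistFun_01,
    twistFun_10, twistFun_11] at e00 e01
  have hdet : (c : Matrix (Fin 2) (Fin 2) F) 0 0 * (c : Matrix (Fin 2) (Fin 2) F) 1 1 -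
      (c : Matrix (Fin 2) (Fin 2) F) 0 1 * (c : Matrix (Fin 2) (Fin 2) F) 1 0 = 1 := by
    have := c.2
    rwa [Matrix.det_fin_two] at this
  generalize (c : Matrix (Fin 2) (Fin 2) F) 0 0 = a at *
  generalize (c : Matrix (Fin 2) (Fin 2) F) 0 1 = b at *
  generalize (c : Matrix (Fin 2) (Fin 2) F) 1 0 = c' at *
  generalize (c : Matrix (Fin 2) (Fin 2) F) 1 1 = d at *
  have hi : (2 : F) * 2⁻¹ = 1 := mul_inv_cancel₀ h2
  generalize (2 : F)⁻¹ = i at hi
  apply hν
  refine ⟨(ν : F) * (2 * d - t * c') * i, ?_⟩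
  linear_combination (-(ν : F) * (1 + 2 * i)) * hi + i ^ 2 * ((-4 * (ν : F)) * hdet +
    (4 * (ν : F) * (t * d - c')) * e00 - (4 * (ν : F) * d) * e01 - ((ν : F) ^ 2 * c' ^ 2) * ht)

/-- A central element is alone in its conjugacy class. -/
theorem eq_of_isConj_central {z s : Matrix.SpecialLinearGroup (Fin 2) F}
    (hz : ∀ x : Matrix.SpecialLinearGroup (Fin 2) F, z * x = x * z) (h : IsConj z s) : s = z := by
  obtain ⟨c, hc⟩ := isConj_iff.mp h
  rw [← hc, ← hz c, mul_inv_cancel_right]

section odd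

variable [Fintype F] [DecidableEq F]

/-- Representatives of the conjugacy classes of `SL₂(F)`, `q` odd. -/
def classRep (ν : Fˣ) : F ⊕ Bool ⊕ Bool → Matrix.SpecialLinearGroup (Fin 2) F
  | Sum.inl t => cSL t
  | Sum.inr (Sum.inl b) => if b then zSL else 1
  | Sum.inr (Sum.inr b) => twistFun ν (cSL (if b then -2 else 2))

theorem classRep_surj (hodd : Odd (Fintype.card F)) {ν : Fˣ} (hν : ¬ IsSquare (ν : F))
    (g : Matrix.SpecialLinearGroup (Fin 2) F) : ∃ x, IsConj (classRep ν x) g := by
  by_cases hg : IsNonScalarSL g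
  · obtain ⟨d, n, hn⟩ := exists_twist_conj g (cSL (g : Matrix (Fin 2) (Fin 2) F).trace) hg
      (isNonScalarSL_cSL _) (trace_cSL _).symm
    set t := (g : Matrix (Fin 2) (Fin 2) F).trace with htdef
    by_cases ht : t ^ 2 = 4
    · by_cases hd : IsSquare (d : F)
      · obtain ⟨c, rfl⟩ := exists_unit_sq_of_isSquare hd
        rw [twistFun_sq] at hn
        refine ⟨Sum.inl t, isConj_iff.mpr ⟨n * diagSL c, ?_⟩⟩
        rw [hn]
        show n * diagSL c * cSL t * (n * diagSL c)⁻¹ = _
        group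
      · obtain ⟨c, rfl⟩ := exists_sq_of_not_isSquare hodd hν hd
        have htw : twistFun (ν * (c * c)) (cSL t) = twistFun (c * c) (twistFun ν (cSL t)) := by
          rw [twistFun_twistFun, mul_comm]
        rw [htw, twistFun_sq] at hn
        have ht' : t = 2 ∨ t = -2 := by
          have hfac : (t - 2) * (t + 2) = 0 := by linear_combination ht
          rcases mul_eq_zero.mp hfac with h | h
          · left; exact sub_eq_zero.mp h
          · right; exact eq_neg_of_add_eq_zero_left h
        rcases ht' with h | h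
        · refine ⟨Sum.inr (Sum.inr false), isConj_iff.mpr ⟨n * diagSL c, ?_⟩⟩
          rw [hn, h]
          show n * diagSL c * twistFun ν (cSL 2) * (n * diagSL c)⁻¹ = _
          group
        · refine ⟨Sum.inr (Sum.inr true), isConj_iff.mpr ⟨n * diagSL c, ?_⟩⟩
          rw [hn, h]
          show n * diagSL c * twistFun ν (cSL (-2)) * (n * diagSL c)⁻¹ = _
          group
    · have hst : IsStableClass (cSL t) :=
        isStableClass_of_trace hodd (cSL t) (by rw [trace_cSL]; exact ht)
      obtain ⟨m, hm⟩ := hst (dGL d)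
      rw [← toGL_twistFun] at hm
      have hm' := Matrix.SpecialLinearGroup.toGL_injective hm
      refine ⟨Sum.inl t, isConj_iff.mpr ⟨n * m, ?_⟩⟩
      rw [hn, hm']
      show n * m * cSL t * (n * m)⁻¹ = _
      group
  · unfold IsNonScalarSL at hg
    rw [not_not] at hg
    rcases eq_one_or_zSL g hg.1 hg.2.1 hg.2.2 with rfl | rfl
    · exact ⟨Sum.inr (Sum.inl false), IsConj.refl _⟩
    · exact ⟨Sum.inr (Sum.inl true), IsConj.refl _⟩

/-- The traces of the representatives. -/
def trRep : F ⊕ Bool ⊕ Bool → F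
  | Sum.inl t => t
  | Sum.inr (Sum.inl b) => if b then -2 else 2
  | Sum.inr (Sum.inr b) => if b then -2 else 2

omit [Fintype F] [DecidableEq F] in
theorem trace_classRep (ν : Fˣ) (x : F ⊕ Bool ⊕ Bool) :
    (classRep ν x : Matrix (Fin 2) (Fin 2) F).trace = trRep x := by
  rcases x with t | b | b
  · exact trace_cSL t
  · cases b
    · show ((1 : Matrix.SpecialLinearGroup (Fin 2) F) : Matrix (Fin 2) (Fin 2) F).trace = 2
      rw [Matrix.trace_fin_two]
      simp
      norm_num
    · show ((zSL : Matrix.SpecialLinearGroup (Fin 2) F) : Matrix (Fin 2) (Fin 2) F).trace = -2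
      rw [Matrix.trace_fin_two, zSL_00, zSL_11]
      norm_num
  · show (twistFun ν (cSL (if b then -2 else 2)) : Matrix (Fin 2) (Fin 2) F).trace = _
    rw [trace_twistFun, trace_cSL]
    rfl

omit [Fintype F] [DecidableEq F] in
theorem central_comm (b : Bool) (x : Matrix.SpecialLinearGroup (Fin 2) F) :
    (if b then zSL else 1 : Matrix.SpecialLinearGroup (Fin 2) F) * x =
      x * (if b then zSL else 1) := by
  cases b
  · simp
  · simpa using zSL_comm x

omit [Fintype F] [DecidableEq F] in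
theorem central_10 (b : Bool) :
    ((if b then zSL else 1 : Matrix.SpecialLinearGroup (Fin 2) F) :
      Matrix (Fin 2) (Fin 2) F) 1 0 = 0 := by
  cases b
  · simp
  · simpa using zSL_10 (F := F)

omit [Fintype F] [DecidableEq F] in
theorem classRep_inj (h2 : (2 : F) ≠ 0) {ν : Fˣ} (hν : ¬ IsSquare (ν : F))
    (x y : F ⊕ Bool ⊕ Bool) (h : IsConj (classRep ν x) (classRep ν y)) : x = y := by
  have htr : trRep x = trRep y := by
    rw [← trace_classRep ν, ← trace_classRep ν]
    obtain ⟨c, hc⟩ := isConj_iff.mp h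
    rw [← hc, trace_conj_sl]
  have h22 : (2 : F) ≠ -2 := by
    intro h
    have : (2 : F) * 2 = 0 := by linear_combination h
    exact h2 (mul_self_eq_zero.mp this)
  have hbool : ∀ b b' : Bool, (if b then (-2 : F) else 2) = (if b' then (-2 : F) else 2) →
      b = b' := by
    intro b b' h
    cases b <;> cases b' <;> simp at h ⊢
    · exact h22 h
    · exact h22 h.symm
  have hsq : ∀ b : Bool, (if b then (-2 : F) else 2) ^ 2 = 4 := by
    intro b
    cases b <;> norm_num
  rcases x with t | b | b <;> rcases y with t' | b' | b'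
  · exact congrArg Sum.inl htr
  · exfalso
    have := eq_of_isConj_central (central_comm b') h.symm
    have e := congrArg
      (fun s : Matrix.SpecialLinearGroup (Fin 2) F => (s : Matrix (Fin 2) (Fin 2) F) 1 0) this
    simp only [classRep] at e
    rw [cSL_10, central_10] at e
    exact one_ne_zero e
  · exfalso
    have ht : t = if b' then (-2 : F) else 2 := htr
    subst ht
    exact not_isConj_cSL_twist h2 hν _ (hsq b') h
  · exfalso
    have := eq_of_isConj_central (central_comm b) h
    have e := congrArg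
      (fun s : Matrix.SpecialLinearGroup (Fin 2) F => (s : Matrix (Fin 2) (Fin 2) F) 1 0) this
    simp only [classRep] at e
    rw [cSL_10, central_10] at e
    exact one_ne_zero e
  · have := hbool b b' htr
    rw [this]
  · exfalso
    have := eq_of_isConj_central (central_comm b) h
    have e := congrArg
      (fun s : Matrix.SpecialLinearGroup (Fin 2) F => (s : Matrix (Fin 2) (Fin 2) F) 1 0) this
    simp only [classRep] at e
    rw [twistFun_10, cSL_10, mul_one, central_10] at e
    exact (ν⁻¹).ne_zero e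
  · exfalso
    have ht : (if b then (-2 : F) else 2) = t' := htr
    subst ht
    exact not_isConj_cSL_twist h2 hν _ (hsq b) h.symm
  · exfalso
    have := eq_of_isConj_central (central_comm b') h.symm
    have e := congrArg
      (fun s : Matrix.SpecialLinearGroup (Fin 2) F => (s : Matrix (Fin 2) (Fin 2) F) 1 0) this
    simp only [classRep] at e
    rw [twistFun_10, cSL_10, mul_one, central_10] at e
    exact (ν⁻¹).ne_zero e
  · have := hbool b b' htr
    rw [this]

/-- `SL₂(F)`, `q` odd, has `q + 4` conjugacy classes. -/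
theorem card_conjClasses_sl2_odd (hodd : Odd (Fintype.card F)) :
    Nat.card (ConjClasses (Matrix.SpecialLinearGroup (Fin 2) F)) = Fintype.card F + 4 := by
  have hch := ringChar_ne_two_of_odd hodd
  have h2 : (2 : F) ≠ 0 := Ring.two_ne_zero hch
  obtain ⟨ν0, hν0⟩ := FiniteField.exists_nonsquare hch
  have hν0' : ν0 ≠ 0 := by
    rintro rfl
    exact hν0 ⟨0, by simp⟩
  set ν : Fˣ := Units.mk0 ν0 hν0' with hνdef
  have hν : ¬ IsSquare (ν : F) := hν0
  have hbij : Function.Bijective
      (fun x : F ⊕ Bool ⊕ Bool => ConjClasses.mk (classRep ν x)) := by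
    constructor
    · intro x y h
      exact classRep_inj h2 hν x y (ConjClasses.mk_eq_mk_iff_isConj.mp h)
    · intro C
      obtain ⟨g, rfl⟩ := ConjClasses.mk_surjective C
      obtain ⟨x, hx⟩ := classRep_surj hodd hν g
      exact ⟨x, ConjClasses.mk_eq_mk_iff_isConj.mpr hx⟩
  rw [← Nat.card_eq_of_bijective _ hbij, Nat.card_sum, Nat.card_sum, Nat.card_eq_fintype_card,
    Nat.card_eq_fintype_card (α := Bool), Fintype.card_bool]

end odd

end Cfsg.Agent.Helper39
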