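import Cfsg.Agent.Helper39.SL2Half2
import Cfsg.Agent.Helper39.SL2Classes
import Cfsg.Agent.Helper39.HalfCount
import Cfsg.Agent.Helper38.SL2Count

set_option autoImplicit false

/-!
# The degrees of the irreducible characters of `SL₂(F)`, `q` odd
-/

namespace Cfsg.Agent.Helper39

open Matrix Cfsg
open scoped ComplexConjugate

variable {F : Type*} [Field F] [Fintype F] [DecidableEq F]

omit [Fintype F] [DecidableEq F] in
theorem BSL_eq_borelSL : BSL F = Cfsg.Agent.Helper38.borelSL F := by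
  ext g
  rw [mem_BSL_iff, Cfsg.Agent.Helper38.mem_borelSL_iff]

theorem indFun_congr_subgroup {G : Type*} [Group G] [Fintype G] {H H' : Subgroup G} (hH : H = H')
    (θ : H → ℂ) (θ' : H' → ℂ)
    (h : ∀ (g : G) (hg : g ∈ H) (hg' : g ∈ H'), θ ⟨g, hg⟩ = θ' ⟨g, hg'⟩) :
    Cfsg.indFun H θ = Cfsg.indFun H' θ' := by
  subst hH
  have : θ = θ' := by
    funext ⟨g, hg⟩
    exact h g hg hg
  rw [this]

theorem indFun_theta_eq_PSs (γ : MulChar F ℂ) :
    Cfsg.indFun (BSL F) (Cfsg.Agent.S2306.theta γ) = Cfsg.Agent.Helper38.PSs γ := by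
  unfold Cfsg.Agent.Helper38.PSs
  apply indFun_congr_subgroup BSL_eq_borelSL
  intro g hg hg'
  rfl

/-- The restriction to `SL₂(F)` of a function on `GL₂(F)`. -/
def resSL (ψ : GL (Fin 2) F → ℂ) : Matrix.SpecialLinearGroup (Fin 2) F → ℂ :=
  fun s => ψ (Matrix.SpecialLinearGroup.toGL s)

theorem resSL_piFun (α β : MulChar F ℂ) :
    resSL (piFun α β) = Cfsg.Agent.Helper38.PSs (α * β⁻¹) := by
  rw [← indFun_theta_eq_PSs, ← piFun_toGL_eq_indFun]
  rfl

omit [Fintype F] [DecidableEq F] in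
theorem resSL_detFun (μ : MulChar F ℂ) : resSL (detFun μ) = Cfsg.Agent.Helper38.trivS := by
  funext s
  show μ ((Matrix.SpecialLinearGroup.toGL s : GL (Fin 2) F) : Matrix (Fin 2) (Fin 2) F).det = 1
  have : ((Matrix.SpecialLinearGroup.toGL s : GL (Fin 2) F) : Matrix (Fin 2) (Fin 2) F).det = 1 :=
    s.2
  rw [this, map_one]

theorem resSL_stFun (μ : MulChar F ℂ) : resSL (stFun μ) = Cfsg.Agent.Helper38.Sts := by
  have h1 : resSL (stFun μ) = resSL (piFun μ μ) - resSL (detFun μ) := rfl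
  rw [h1, resSL_piFun, resSL_detFun, mul_inv_cancel]
  rfl

/-- The inner product of `e • ∑ φ ∈ S, φ` with a member of `S`. -/
theorem inner_smul_sum_irr_mem {G : Type*} [Group G] [Fintype G] (e : ℕ) (S : Finset (G → ℂ))
    (hS : ∀ φ ∈ S, IsIrrCharacter G φ) {χ : G → ℂ} (hχ : χ ∈ S) :
    classInner (fun g => (e : ℂ) * ∑ φ ∈ S, φ g) χ = (e : ℂ) := by
  classical
  have h1 : (fun g => (e : ℂ) * ∑ φ ∈ S, φ g) = (e : ℂ) • ∑ φ ∈ S, φ := by
    funext g
    simp [Finset.sum_apply]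
  rw [h1, Cfsg.Agent.Helper74.classInner_smul_left, Cfsg.Agent.Helper74.classInner_sum_left]
  have h3 : ∀ φ ∈ S, classInner φ χ = if φ = χ then 1 else 0 := by
    intro φ hφ
    exact inner_irr_eq (hS φ hφ) (hS χ hχ)
  rw [Finset.sum_congr rfl h3, Finset.sum_ite_eq' S χ, if_pos hχ, mul_one]

/-- An irreducible character having a non-zero inner product with an irreducible character is
equal to it. -/
theorem eq_of_inner_ne_zero {G : Type*} [Group G] [Fintype G] {χ χ' : G → ℂ}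
    (hχ : IsIrrCharacter G χ) (hχ' : IsIrrCharacter G χ') (h : classInner χ χ' ≠ 0) : χ = χ' := by
  classical
  by_contra hne
  rw [inner_irr_eq hχ hχ', if_neg hne] at h
  exact h rfl

theorem isIrr_PSs_of_sq_ne_one (γ : MulChar F ℂ) (hγ : γ ^ 2 ≠ 1) :
    IsIrrCharacter (Matrix.SpecialLinearGroup (Fin 2) F) (Cfsg.Agent.Helper38.PSs γ) := by
  let _ : Fintype (Cfsg.Agent.Helper38.borelSL F) := Fintype.ofFinite _
  rw [Cfsg.Agent.Helper15.isIrrCharacter_iff_inner_self (Cfsg.Agent.Helper38.isCharacter_PSs γ),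
    Cfsg.Agent.Helper38.classInner_PSs, if_pos rfl, if_neg, add_zero]
  intro h
  apply hγ
  rw [sq]
  nth_rewrite 1 [h]
  exact inv_mul_cancel γ

/-- The classification of the irreducible characters of `SL₂(F)`, `q` odd, by the characters of
`GL₂(F)` above them. -/
theorem sl2_irr_cases (hodd : Odd (Fintype.card F))
    (χ : IrrCharacter (Matrix.SpecialLinearGroup (Fin 2) F)) (γ₀ : MulChar F ℂ)
    (hγ₀2 : γ₀ ^ 2 = 1) (hγ₀1 : γ₀ ≠ 1) :
    (χ : Matrix.SpecialLinearGroup (Fin 2) F → ℂ) = Cfsg.Agent.Helper38.trivS ∨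
    (χ : Matrix.SpecialLinearGroup (Fin 2) F → ℂ) = Cfsg.Agent.Helper38.Sts ∨
    (∃ γ : MulChar F ℂ, γ ^ 2 ≠ 1 ∧
      (χ : Matrix.SpecialLinearGroup (Fin 2) F → ℂ) = Cfsg.Agent.Helper38.PSs γ) ∨
    classInner (Cfsg.Agent.Helper38.PSs γ₀) (χ : Matrix.SpecialLinearGroup (Fin 2) F → ℂ) ≠ 0 ∨
    (charDegree (χ : Matrix.SpecialLinearGroup (Fin 2) F → ℂ) ∣ Fintype.card F - 1) := by
  classical
  obtain ⟨ψ, e, S, hψ, he, hχS, hS, hsum⟩ := sl2_clifford χ.1 χ.2
  have hres : resSL ψ = fun s => (e : ℂ) * ∑ φ ∈ S, φ s := funext hsum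
  have hne : classInner (resSL ψ) (χ : Matrix.SpecialLinearGroup (Fin 2) F → ℂ) ≠ 0 := by
    rw [hres, inner_smul_sum_irr_mem e S (fun φ hφ => (hS φ hφ).1) hχS]
    exact_mod_cast he.ne'
  rcases classification ψ hψ with ⟨μ, rfl⟩ | ⟨μ, rfl⟩ | ⟨α, β, hαβ, rfl⟩ | ⟨hd, -, -⟩
  · left
    rw [resSL_detFun] at hne
    exact (eq_of_inner_ne_zero Cfsg.Agent.Helper38.isIrr_trivS χ.2 hne).symm
  · right; left
    rw [resSL_stFun] at hne
    exact (eq_of_inner_ne_zero Cfsg.Agent.Helper38.isIrr_Sts χ.2 hne).symm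
  · rw [resSL_piFun] at hne
    have hγ1 : α * β⁻¹ ≠ 1 := fun h => hαβ (mul_inv_eq_one.mp h)
    by_cases hγ : (α * β⁻¹) ^ 2 = 1
    · right; right; right; left
      rw [mulChar_order_two_unique hodd γ₀ (α * β⁻¹) hγ₀2 hγ₀1 hγ hγ1]
      exact hne
    · right; right; left
      exact ⟨α * β⁻¹, hγ, (eq_of_inner_ne_zero (isIrr_PSs_of_sq_ne_one _ hγ) χ.2 hne).symm⟩
  · right; right; right; right
    have hχc := Cfsg.Agent.Helper74.isCharacter_of_isIrr χ.2
    have hdeg1 : ∀ φ ∈ S, φ 1 = (χ : Matrix.SpecialLinearGroup (Fin 2) F → ℂ) 1 := by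
      intro φ hφ
      obtain ⟨x, hx⟩ := (hS φ hφ).2
      apply hx 1 1
      simp
    have h1 := hsum 1
    rw [map_one, hd, Finset.sum_congr rfl hdeg1, Finset.sum_const, nsmul_eq_mul,
      ← Cfsg.Agent.Helper74.charDegree_cast hχc] at h1
    have hq1 : 1 ≤ Fintype.card F := Fintype.card_pos
    have h2 : ((Fintype.card F - 1 : ℕ) : ℂ) =
        ((e * (S.card * charDegree (χ : Matrix.SpecialLinearGroup (Fin 2) F → ℂ)) : ℕ) : ℂ) := by
      rw [Nat.cast_sub hq1]
      push_cast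
      exact h1
    have h3 : Fintype.card F - 1 =
        e * (S.card * charDegree (χ : Matrix.SpecialLinearGroup (Fin 2) F → ℂ)) := by
      exact_mod_cast h2
    rw [h3]
    exact ⟨e * S.card, by ring⟩

/-- The quadratic character of `F` with complex values. -/
noncomputable def quadC (F : Type*) [Field F] [Fintype F] [DecidableEq F] : MulChar F ℂ :=
  (quadraticChar F).ringHomComp (Int.castRingHom ℂ)

theorem quadC_sq : (quadC F) ^ 2 = 1 :=
  (MulChar.IsQuadratic.comp (quadraticChar_isQuadratic F) (Int.castRingHom ℂ)).sq_eq_one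

theorem quadC_ne_one (hodd : Odd (Fintype.card F)) : quadC F ≠ 1 :=
  (MulChar.ringHomComp_ne_one_iff Int.cast_injective).mpr
    (quadraticChar_ne_one (ringChar_ne_two_of_odd hodd))

theorem PSs_eq_iff_odd (γ γ' : MulChar F ℂ) (h : γ ^ 2 ≠ 1) (h' : γ' ^ 2 ≠ 1) :
    Cfsg.Agent.Helper38.PSs γ = Cfsg.Agent.Helper38.PSs γ' ↔ γ' = γ ∨ γ' = γ⁻¹ := by
  classical
  let _ : Fintype (Cfsg.Agent.Helper38.borelSL F) := Fintype.ofFinite _
  have hi := isIrr_PSs_of_sq_ne_one γ h
  have hi' := isIrr_PSs_of_sq_ne_one γ' h'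
  constructor
  · intro heq
    have h1 : classInner (Cfsg.Agent.Helper38.PSs γ) (Cfsg.Agent.Helper38.PSs γ') = 1 := by
      rw [← heq]
      exact Cfsg.Agent.Helper74.irr_inner_self
        (⟨_, hi⟩ : IrrCharacter (Matrix.SpecialLinearGroup (Fin 2) F))
    rw [Cfsg.Agent.Helper38.classInner_PSs] at h1
    by_cases e1 : γ = γ'
    · left; exact e1.symm
    · by_cases e2 : γ = γ'⁻¹
      · right
        rw [e2, inv_inv]
      · rw [if_neg e1, if_neg e2] at h1
        norm_num at h1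
  · intro hor
    apply eq_of_inner_ne_zero hi hi'
    rw [Cfsg.Agent.Helper38.classInner_PSs]
    rcases hor with rfl | rfl
    · rw [if_pos rfl]
      split_ifs <;> norm_num
    · rw [inv_inv, if_pos rfl]
      split_ifs <;> norm_num

theorem card_mulChar_sq_eq_one (hodd : Odd (Fintype.card F)) [Fintype (MulChar F ℂ)] :
    (Finset.univ.filter (fun γ : MulChar F ℂ => γ ^ 2 = 1)).card = 2 := by
  have : Finset.univ.filter (fun γ : MulChar F ℂ => γ ^ 2 = 1) = {1, quadC F} := by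
    ext γ
    simp only [Finset.mem_filter, Finset.mem_univ, true_and, Finset.mem_insert,
      Finset.mem_singleton]
    constructor
    · intro h
      by_cases h1 : γ = 1
      · left; exact h1
      · right
        exact mulChar_order_two_unique hodd γ (quadC F) h h1 quadC_sq (quadC_ne_one hodd)
    · rintro (rfl | rfl)
      · exact one_pow 2
      · exact quadC_sq
  rw [this, Finset.card_pair (quadC_ne_one hodd).symm]

/-- The degree table of `SL₂(F)`, `q = 2j + 1 ≥ 5`, in terms of `charDegree`. -/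
theorem sl2_degree_table_odd (j : ℕ) (hq : Fintype.card F = 2 * j + 1) (hj : 2 ≤ j)
    [Fintype (IrrCharacter (Matrix.SpecialLinearGroup (Fin 2) F))]
    [DecidableEq (IrrCharacter (Matrix.SpecialLinearGroup (Fin 2) F))] :
    (∀ χ : IrrCharacter (Matrix.SpecialLinearGroup (Fin 2) F),
      charDegree (χ : Matrix.SpecialLinearGroup (Fin 2) F → ℂ) = 1 ∨
      charDegree (χ : Matrix.SpecialLinearGroup (Fin 2) F → ℂ) = 2 * j + 1 ∨
      charDegree (χ : Matrix.SpecialLinearGroup (Fin 2) F → ℂ) = 2 * j + 2 ∨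
      charDegree (χ : Matrix.SpecialLinearGroup (Fin 2) F → ℂ) = 2 * j ∨
      charDegree (χ : Matrix.SpecialLinearGroup (Fin 2) F → ℂ) = j + 1 ∨
      charDegree (χ : Matrix.SpecialLinearGroup (Fin 2) F → ℂ) = j) ∧
    (Finset.univ.filter (fun χ : IrrCharacter (Matrix.SpecialLinearGroup (Fin 2) F) =>
      charDegree (χ : Matrix.SpecialLinearGroup (Fin 2) F → ℂ) = 1)).card = 1 ∧
    (Finset.univ.filter (fun χ : IrrCharacter (Matrix.SpecialLinearGroup (Fin 2) F) =>
      charDegree (χ : Matrix.SpecialLinearGroup (Fin 2) F → ℂ) = 2 * j + 1)).card = 1 ∧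
    (Finset.univ.filter (fun χ : IrrCharacter (Matrix.SpecialLinearGroup (Fin 2) F) =>
      charDegree (χ : Matrix.SpecialLinearGroup (Fin 2) F → ℂ) = 2 * j + 2)).card + 1 = j ∧
    (Finset.univ.filter (fun χ : IrrCharacter (Matrix.SpecialLinearGroup (Fin 2) F) =>
      charDegree (χ : Matrix.SpecialLinearGroup (Fin 2) F → ℂ) = 2 * j)).card = j ∧
    (Finset.univ.filter (fun χ : IrrCharacter (Matrix.SpecialLinearGroup (Fin 2) F) =>
      charDegree (χ : Matrix.SpecialLinearGroup (Fin 2) F → ℂ) = j + 1)).card = 2 ∧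
    (Finset.univ.filter (fun χ : IrrCharacter (Matrix.SpecialLinearGroup (Fin 2) F) =>
      charDegree (χ : Matrix.SpecialLinearGroup (Fin 2) F → ℂ) = j)).card = 2 := by
  classical
  let _ : Fintype (MulChar F ℂ) := Fintype.ofFinite _
  have hodd : Odd (Fintype.card F) := ⟨j, hq⟩
  have hqc : (Fintype.card F : ℂ) = 2 * (j : ℂ) + 1 := by rw [hq]; push_cast; ring
  -- the two characters of degree `(q+1)/2`
  obtain ⟨χ₁, χ₂, hχ₁, hχ₂, h12, hsum12, hdeg₁, hdeg₂, -⟩ :=
    Cfsg.Agent.S2307.result hodd (quadC F) quadC_sq (quadC_ne_one hodd)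
  have hPS0 : Cfsg.Agent.Helper38.PSs (quadC F) = χ₁ + χ₂ := by
    rw [← indFun_theta_eq_PSs]
    exact hsum12
  have hhalf : (Fintype.card F + 1) / 2 = j + 1 := by omega
  rw [hhalf] at hdeg₁ hdeg₂
  -- the principal series
  set iP : {γ : MulChar F ℂ // γ ^ 2 ≠ 1} → IrrCharacter (Matrix.SpecialLinearGroup (Fin 2) F) :=
    fun γ => ⟨Cfsg.Agent.Helper38.PSs γ.1, isIrr_PSs_of_sq_ne_one γ.1 γ.2⟩ with hiPdef
  set σ : {γ : MulChar F ℂ // γ ^ 2 ≠ 1} → {γ : MulChar F ℂ // γ ^ 2 ≠ 1} :=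
    fun γ => ⟨γ.1⁻¹, fun h => γ.2 (by
      have : (γ.1 ^ 2)⁻¹ = 1 := by rw [← inv_pow]; exact h
      exact inv_eq_one.mp this)⟩ with hσdef
  have hσ : ∀ p, σ p ≠ p := by
    intro p h
    have h1 : p.1⁻¹ = p.1 := congrArg Subtype.val h
    apply p.2
    rw [sq]
    nth_rewrite 1 [← h1]
    exact inv_mul_cancel p.1
  have hiP : ∀ p p', iP p = iP p' ↔ p' = p ∨ p' = σ p := by
    intro p p'
    constructor
    · intro h
      have h1 : Cfsg.Agent.Helper38.PSs p.1 = Cfsg.Agent.Helper38.PSs p'.1 :=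
        congrArg Subtype.val h
      rcases (PSs_eq_iff_odd p.1 p'.1 p.2 p'.2).mp h1 with h2 | h2
      · left; exact Subtype.ext h2
      · right; exact Subtype.ext h2
    · intro h
      apply Subtype.ext
      apply (PSs_eq_iff_odd p.1 p'.1 p.2 p'.2).mpr
      rcases h with h | h
      · left; rw [h]
      · right; rw [h]
  set P : Finset (IrrCharacter (Matrix.SpecialLinearGroup (Fin 2) F)) :=
    Finset.univ.image iP with hPdef
  have cSP : Fintype.card {γ : MulChar F ℂ // γ ^ 2 ≠ 1} = 2 * P.card := by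
    rw [← Finset.card_univ, Finset.card_eq_sum_card_fiberwise (f := iP) (s := Finset.univ) (t := P)
      (fun p _ => Finset.mem_image_of_mem iP (Finset.mem_univ p))]
    rw [mul_comm, ← smul_eq_mul, ← Finset.sum_const]
    apply Finset.sum_congr rfl
    intro y hy
    obtain ⟨p₀, -, rfl⟩ := Finset.mem_image.1 hy
    have : (Finset.univ.filter (fun p => iP p = iP p₀)) = {p₀, σ p₀} := by
      ext p
      simp only [Finset.mem_filter, Finset.mem_univ, true_and, Finset.mem_insert,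
        Finset.mem_singleton]
      rw [eq_comm, hiP]
    rw [this, Finset.card_pair (hσ p₀).symm]
  have cMP : Fintype.card {γ : MulChar F ℂ // γ ^ 2 ≠ 1} + 2 = 2 * j := by
    rw [Fintype.card_subtype_compl, Fintype.card_subtype, card_mulChar_sq_eq_one hodd,
      Cfsg.Agent.Helper38.card_mulChar, hq]
    omega
  have cP : P.card + 1 = j := by omega
  -- the counting data
  have hN : Fintype.card (IrrCharacter (Matrix.SpecialLinearGroup (Fin 2) F)) = 2 * j + 5 := by
    rw [← Nat.card_eq_fintype_card, Cfsg.Agent.Helper74.card_irr_eq_card_conjClasses,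
      card_conjClasses_sl2_odd hodd, hq]
  have hT : ∑ χ : IrrCharacter (Matrix.SpecialLinearGroup (Fin 2) F),
      charDegree (χ : Matrix.SpecialLinearGroup (Fin 2) F → ℂ) ^ 2 =
      (2 * j + 1) * ((2 * j) * (2 * j + 2)) := by
    rw [Cfsg.Agent.Helper38.sum_charDegree_sq_of, Cfsg.Agent.Helper5.card_SL2, hq]
    have : (2 * j + 1) ^ 2 - 1 = (2 * j) * (2 * j + 2) := by
      have : (2 * j + 1) ^ 2 = (2 * j) * (2 * j + 2) + 1 := by ring
      omega
    rw [this]
  have key := odd_degree_count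
    (fun χ : IrrCharacter (Matrix.SpecialLinearGroup (Fin 2) F) =>
      charDegree (χ : Matrix.SpecialLinearGroup (Fin 2) F → ℂ)) j hj hN hT
    ⟨Cfsg.Agent.Helper38.trivS, Cfsg.Agent.Helper38.isIrr_trivS⟩
    ⟨Cfsg.Agent.Helper38.Sts, Cfsg.Agent.Helper38.isIrr_Sts⟩ ⟨χ₁, hχ₁⟩ ⟨χ₂, hχ₂⟩ P
    (Cfsg.Agent.Helper38.charDegree_eq_of_one
      (Cfsg.Agent.Helper74.isCharacter_of_isIrr Cfsg.Agent.Helper38.isIrr_trivS) 1
      (by rw [Cfsg.Agent.Helper38.trivS_apply]; simp))
    (Cfsg.Agent.Helper38.charDegree_eq_of_one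
      (Cfsg.Agent.Helper74.isCharacter_of_isIrr Cfsg.Agent.Helper38.isIrr_Sts) (2 * j + 1)
      (by rw [Cfsg.Agent.Helper38.Sts_one, hqc]; push_cast; ring))
    (by
      intro x hx
      obtain ⟨γ, -, rfl⟩ := Finset.mem_image.1 hx
      exact Cfsg.Agent.Helper38.charDegree_eq_of_one
        (Cfsg.Agent.Helper74.isCharacter_of_isIrr (isIrr_PSs_of_sq_ne_one γ.1 γ.2)) (2 * j + 2)
        (by rw [Cfsg.Agent.Helper38.PSs_one, hqc]; push_cast; ring))
    cP
    (Cfsg.Agent.Helper38.charDegree_eq_of_one (Cfsg.Agent.Helper74.isCharacter_of_isIrr hχ₁)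
      (j + 1) hdeg₁)
    (Cfsg.Agent.Helper38.charDegree_eq_of_one (Cfsg.Agent.Helper74.isCharacter_of_isIrr hχ₂)
      (j + 1) hdeg₂)
    (fun h => h12 (congrArg Subtype.val h))
    (by
      intro χ
      rcases sl2_irr_cases hodd χ (quadC F) quadC_sq (quadC_ne_one hodd) with
        h | h | ⟨γ, hγ, h⟩ | h | h
      · left; exact Subtype.ext h
      · right; left; exact Subtype.ext h
      · right; right; left
        exact Finset.mem_image.2 ⟨⟨γ, hγ⟩, Finset.mem_univ _, (Subtype.ext h).symm⟩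
      · rw [hPS0, Cfsg.Agent.Helper74.classInner_add_left] at h
        by_cases h1 : classInner χ₁ (χ : Matrix.SpecialLinearGroup (Fin 2) F → ℂ) = 0
        · rw [h1, zero_add] at h
          right; right; right; right; left
          exact Subtype.ext (eq_of_inner_ne_zero hχ₂ χ.2 h).symm
        · right; right; right; left
          exact Subtype.ext (eq_of_inner_ne_zero hχ₁ χ.2 h1).symm
      · right; right; right; right; right
        rw [hq] at h
        have e : 2 * j + 1 - 1 = 2 * j := by omega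
        rw [e] at h
        exact ⟨h, Cfsg.Agent.Helper80.IsIrrCharacter.charDegree_pos χ.2⟩)
  exact key

end Cfsg.Agent.Helper39
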