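import Cfsg.Agent.Helper39.SL2Central
import Cfsg.Agent.S2299
import Cfsg.Prelude.Def_DegreeGraph

set_option autoImplicit false

/-!
# The character degree graph of `SL₂(q)` and `PSL₂(q)`, `q` odd
-/

namespace Cfsg.Agent.Helper39

open Matrix Cfsg

universe u v

/-- The degrees of `S` are among those of `SL₂(q)`, and `q`, `q + 1`, `q - 1` occur. -/
def HasPSL2Degrees (S : Type u) [Group S] (q : ℕ) : Prop :=
  (∀ d ∈ charDegrees S, d = 1 ∨ d = q ∨ d = q + 1 ∨ d = q - 1 ∨ d = (q + 1) / 2 ∨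
    d = (q - 1) / 2) ∧ q ∈ charDegrees S ∧ q + 1 ∈ charDegrees S ∧ q - 1 ∈ charDegrees S

theorem charDegrees_subset_of_equiv {S : Type u} {G : Type v} [Group S] [Group G] (e : S ≃* G) :
    charDegrees S ⊆ charDegrees G := by
  rintro d ⟨χ, hχ⟩
  refine ⟨⟨fun g => (χ : S → ℂ) (e.symm g),
    Cfsg.Agent.Helper80.IsIrrCharacter.comp_surjective χ.2 e.symm.toMonoidHom
      e.symm.surjective⟩, ?_⟩
  rw [← hχ]
  unfold charDegree
  simp

theorem charDegrees_congr {S : Type u} {G : Type v} [Group S] [Group G] (e : S ≃* G) :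
    charDegrees S = charDegrees G :=
  Set.Subset.antisymm (charDegrees_subset_of_equiv e) (charDegrees_subset_of_equiv e.symm)

theorem hasPSL2Degrees_congr {S : Type u} {G : Type v} [Group S] [Group G] (e : S ≃* G) (q : ℕ)
    (h : HasPSL2Degrees G q) : HasPSL2Degrees S q := by
  unfold HasPSL2Degrees
  rw [charDegrees_congr e]
  exact h

theorem sq_sub_one_eq (q : ℕ) (hq : 1 ≤ q) : q ^ 2 - 1 = (q - 1) * (q + 1) := by
  obtain ⟨m, rfl⟩ : ∃ m, q = m + 1 := ⟨q - 1, by omega⟩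
  have : (m + 1) ^ 2 = (m + 1 - 1) * (m + 1 + 1) + 1 := by
    rw [Nat.add_sub_cancel]
    ring
  omega

/-- The character degree graph of a group with the degrees of `PSL₂(q)`. -/
theorem degreeGraph_of_hasPSL2Degrees {S : Type u} [Group S] (q t n : ℕ) (ht : t.Prime)
    (ht2 : t ≠ 2) (hqt : q = t ^ n) (h5 : 5 < q) (h : HasPSL2Degrees S q) :
    degreePrimes S = {r : ℕ | r.Prime ∧ r ∣ q * (q ^ 2 - 1)} ∧
    ∀ r s : ℕ, (degreeGraph S).Adj r s ↔
      (r ≠ s ∧ r.Prime ∧ s.Prime ∧ r ∣ q ^ 2 - 1 ∧ s ∣ q ^ 2 - 1 ∧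
        (r = 2 ∨ s = 2 ∨ (r ∣ q + 1 ∧ s ∣ q + 1) ∨ (r ∣ q - 1 ∧ s ∣ q - 1))) := by
  obtain ⟨hlist, hq0, hq1, hq2⟩ := h
  have hodd : Odd q := by
    rw [hqt]
    exact (ht.odd_of_ne_two ht2).pow
  obtain ⟨j, hj⟩ := hodd
  have hsq := sq_sub_one_eq q (by omega)
  have hp1 : q + 1 = 2 * ((q + 1) / 2) := by omega
  have hm1 : q - 1 = 2 * ((q - 1) / 2) := by omega
  have hdvdlist : ∀ d ∈ charDegrees S, ∀ r : ℕ, r.Prime → r ∣ d →
      (r ∣ q ∧ d = q) ∨ r ∣ q + 1 ∧ (d = q + 1 ∨ d = (q + 1) / 2) ∨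
        r ∣ q - 1 ∧ (d = q - 1 ∨ d = (q - 1) / 2) := by
    intro d hd r hr hrd
    rcases hlist d hd with rfl | rfl | rfl | rfl | rfl | rfl
    · exfalso
      exact hr.one_lt.ne' (Nat.dvd_one.mp hrd)
    · left; exact ⟨hrd, rfl⟩
    · right; left; exact ⟨hrd, Or.inl rfl⟩
    · right; right; exact ⟨hrd, Or.inl rfl⟩
    · right; left
      refine ⟨?_, Or.inr rfl⟩
      rw [hp1]
      exact Dvd.dvd.mul_left hrd 2
    · right; right
      refine ⟨?_, Or.inr rfl⟩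
      rw [hm1]
      exact Dvd.dvd.mul_left hrd 2
  refine ⟨?_, ?_⟩
  · ext r
    simp only [degreePrimes, Set.mem_setOf_eq]
    constructor
    · rintro ⟨hr, d, hd, hrd⟩
      refine ⟨hr, ?_⟩
      rw [hsq]
      rcases hdvdlist d hd r hr hrd with ⟨h1, -⟩ | ⟨h1, -⟩ | ⟨h1, -⟩
      · exact Dvd.dvd.mul_right h1 _
      · exact Dvd.dvd.mul_left (Dvd.dvd.mul_left h1 _) _
      · exact Dvd.dvd.mul_left (Dvd.dvd.mul_right h1 _) _
    · rintro ⟨hr, hrd⟩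
      refine ⟨hr, ?_⟩
      rw [hsq] at hrd
      rcases (Nat.Prime.dvd_mul hr).mp hrd with h1 | h1
      · exact ⟨q, hq0, h1⟩
      · rcases (Nat.Prime.dvd_mul hr).mp h1 with h2 | h2
        · exact ⟨q - 1, hq2, h2⟩
        · exact ⟨q + 1, hq1, h2⟩
  · intro r s
    have hpair : ∀ r s : ℕ, r ≠ s → r.Prime → s.Prime → ∀ m : ℕ, r ∣ m → s ∣ m → r * s ∣ m := by
      intro r s hrs hr hs m h1 h2
      exact Nat.Coprime.mul_dvd_of_dvd_of_dvd ((Nat.coprime_primes hr hs).mpr hrs) h1 h2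
    have h2p : 2 ∣ q + 1 := ⟨(q + 1) / 2, hp1⟩
    have h2m : 2 ∣ q - 1 := ⟨(q - 1) / 2, hm1⟩
    show (r ≠ s ∧ r.Prime ∧ s.Prime ∧ ∃ d ∈ charDegrees S, r * s ∣ d) ↔ _
    constructor
    · rintro ⟨hrs, hr, hs, d, hd, hdvd⟩
      have hrd : r ∣ d := Dvd.dvd.trans (Dvd.intro _ rfl) hdvd
      have hsd : s ∣ d := Dvd.dvd.trans (Dvd.intro_left _ rfl) hdvd
      refine ⟨hrs, hr, hs, ?_⟩
      rw [hsq]
      rcases hdvdlist d hd r hr hrd with ⟨h1, hdq⟩ | ⟨h1, hdq⟩ | ⟨h1, hdq⟩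
      · exfalso
        rw [hdq, hqt] at hsd
        rw [hqt] at h1
        have e1 := (Nat.prime_dvd_prime_iff_eq hr ht).mp (hr.dvd_of_dvd_pow h1)
        have e2 := (Nat.prime_dvd_prime_iff_eq hs ht).mp (hs.dvd_of_dvd_pow hsd)
        exact hrs (e1.trans e2.symm)
      · have h2 : s ∣ q + 1 := by
          rcases hdq with rfl | rfl
          · exact hsd
          · rw [hp1]; exact Dvd.dvd.mul_left hsd 2
        exact ⟨Dvd.dvd.mul_left h1 _, Dvd.dvd.mul_left h2 _, Or.inr (Or.inr (Or.inl ⟨h1, h2⟩))⟩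
      · have h2 : s ∣ q - 1 := by
          rcases hdq with rfl | rfl
          · exact hsd
          · rw [hm1]; exact Dvd.dvd.mul_left hsd 2
        exact ⟨Dvd.dvd.mul_right h1 _, Dvd.dvd.mul_right h2 _, Or.inr (Or.inr (Or.inr ⟨h1, h2⟩))⟩
    · rintro ⟨hrs, hr, hs, hrd, hsd, hcases⟩
      refine ⟨hrs, hr, hs, ?_⟩
      rw [hsq] at hrd hsd
      have key : (r ∣ q + 1 ∧ s ∣ q + 1) ∨ (r ∣ q - 1 ∧ s ∣ q - 1) := by
        rcases hcases with rfl | rfl | h | h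
        · rcases (Nat.Prime.dvd_mul hs).mp hsd with h | h
          · right; exact ⟨h2m, h⟩
          · left; exact ⟨h2p, h⟩
        · rcases (Nat.Prime.dvd_mul hr).mp hrd with h | h
          · right; exact ⟨h, h2m⟩
          · left; exact ⟨h, h2p⟩
        · left; exact h
        · right; exact h
      rcases key with ⟨h1, h2⟩ | ⟨h1, h2⟩
      · exact ⟨q + 1, hq1, hpair r s hrs hr hs _ h1 h2⟩
      · exact ⟨q - 1, hq2, hpair r s hrs hr hs _ h1 h2⟩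

end Cfsg.Agent.Helper39
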