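import Cfsg.Agent.Helper39.DegreeGraphPSL2
import Cfsg.Agent.S2300

set_option autoImplicit false

/-!
# The character degree graph of `SL₂(q) = PSL₂(q)`, `q` even
-/

namespace Cfsg.Agent.Helper39

open Matrix Cfsg

universe u v

/-- The degrees of `S` are among `1, q, q + 1, q - 1`, and `q`, `q + 1`, `q - 1` occur. -/
def HasSL2EvenDegrees (S : Type u) [Group S] (q : ℕ) : Prop :=
  (∀ d ∈ charDegrees S, d = 1 ∨ d = q ∨ d = q + 1 ∨ d = q - 1) ∧
    q ∈ charDegrees S ∧ q + 1 ∈ charDegrees S ∧ q - 1 ∈ charDegrees S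

theorem hasSL2EvenDegrees_congr {S : Type u} {G : Type v} [Group S] [Group G] (e : S ≃* G) (q : ℕ)
    (h : HasSL2EvenDegrees G q) : HasSL2EvenDegrees S q := by
  unfold HasSL2EvenDegrees
  rw [charDegrees_congr e]
  exact h

/-- The character degree graph of a group with the degrees of `SL₂(q)`, `q` even. -/
theorem degreeGraph_of_hasSL2EvenDegrees {S : Type u} [Group S] (q n : ℕ)
    (hqt : q = 2 ^ n) (h4 : 4 ≤ q) (h : HasSL2EvenDegrees S q) :
    degreePrimes S = {r : ℕ | r.Prime ∧ r ∣ q * (q ^ 2 - 1)} ∧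
    ∀ r s : ℕ, (degreeGraph S).Adj r s ↔
      (r ≠ s ∧ r.Prime ∧ s.Prime ∧ ((r ∣ q + 1 ∧ s ∣ q + 1) ∨ (r ∣ q - 1 ∧ s ∣ q - 1))) := by
  obtain ⟨hlist, hq0, hq1, hq2⟩ := h
  have hsq := sq_sub_one_eq q (by omega)
  have hdvdlist : ∀ d ∈ charDegrees S, ∀ r : ℕ, r.Prime → r ∣ d →
      (r ∣ q ∧ d = q) ∨ (r ∣ q + 1 ∧ d = q + 1) ∨ (r ∣ q - 1 ∧ d = q - 1) := by
    intro d hd r hr hrd
    rcases hlist d hd with rfl | rfl | rfl | rfl
    · exfalso
      exact hr.one_lt.ne' (Nat.dvd_one.mp hrd)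
    · left; exact ⟨hrd, rfl⟩
    · right; left; exact ⟨hrd, rfl⟩
    · right; right; exact ⟨hrd, rfl⟩
  refine ⟨?_, ?_⟩
  · ext r
    simp only [degreePrimes, Set.mem_setOf_eq]
    constructor
    · rintro ⟨hr, d, hd, hrd⟩
      refine ⟨hr, ?_⟩
      rw [hsq]
      rcases hdvdlist d hd r hr hrd with ⟨h1, -⟩ | ⟨h1, -⟩ | ⟨h1, -⟩
      · exact Dvd.dvd.mul_right h1 _
      · exact Dvd.dvd.mul_left (Dvd.dvd.mul_left h1 _) _
      · exact Dvd.dvd.mul_left (Dvd.dvd.mul_right h1 _) _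
    · rintro ⟨hr, hrd⟩
      refine ⟨hr, ?_⟩
      rw [hsq] at hrd
      rcases (Nat.Prime.dvd_mul hr).mp hrd with h1 | h1
      · exact ⟨q, hq0, h1⟩
      · rcases (Nat.Prime.dvd_mul hr).mp h1 with h2 | h2
        · exact ⟨q - 1, hq2, h2⟩
        · exact ⟨q + 1, hq1, h2⟩
  · intro r s
    have hpair : ∀ r s : ℕ, r ≠ s → r.Prime → s.Prime → ∀ m : ℕ, r ∣ m → s ∣ m → r * s ∣ m := by
      intro r s hrs hr hs m h1 h2
      exact Nat.Coprime.mul_dvd_of_dvd_of_dvd ((Nat.coprime_primes hr hs).mpr hrs) h1 h2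
    show (r ≠ s ∧ r.Prime ∧ s.Prime ∧ ∃ d ∈ charDegrees S, r * s ∣ d) ↔ _
    constructor
    · rintro ⟨hrs, hr, hs, d, hd, hdvd⟩
      have hrd : r ∣ d := Dvd.dvd.trans (Dvd.intro _ rfl) hdvd
      have hsd : s ∣ d := Dvd.dvd.trans (Dvd.intro_left _ rfl) hdvd
      refine ⟨hrs, hr, hs, ?_⟩
      rcases hdvdlist d hd r hr hrd with ⟨h1, hdq⟩ | ⟨h1, hdq⟩ | ⟨h1, hdq⟩
      · exfalso
        rw [hdq, hqt] at hsd
        rw [hqt] at h1
        have e1 := (Nat.prime_dvd_prime_iff_eq hr Nat.prime_two).mp (hr.dvd_of_dvd_pow h1)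
        have e2 := (Nat.prime_dvd_prime_iff_eq hs Nat.prime_two).mp (hs.dvd_of_dvd_pow hsd)
        exact hrs (e1.trans e2.symm)
      · left
        rw [hdq] at hsd
        exact ⟨h1, hsd⟩
      · right
        rw [hdq] at hsd
        exact ⟨h1, hsd⟩
    · rintro ⟨hrs, hr, hs, hcases⟩
      refine ⟨hrs, hr, hs, ?_⟩
      rcases hcases with ⟨h1, h2⟩ | ⟨h1, h2⟩
      · exact ⟨q + 1, hq1, hpair r s hrs hr hs _ h1 h2⟩
      · exact ⟨q - 1, hq2, hpair r s hrs hr hs _ h1 h2⟩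

section field

variable {F : Type*} [Field F] [Fintype F]

theorem exists_of_card_subtype_pos {G : Type*} [Group G] (c : ℂ) (n : ℕ) (hc : c = n)
    (h : 0 < Nat.card {χ : IrrCharacter G // (χ : G → ℂ) 1 = c}) : n ∈ charDegrees G := by
  have : Nonempty {χ : IrrCharacter G // (χ : G → ℂ) 1 = c} := by
    by_contra hne
    rw [not_nonempty_iff] at hne
    rw [Nat.card_of_isEmpty] at h
    exact lt_irrefl _ h
  obtain ⟨⟨χ, hχ⟩⟩ := this
  refine ⟨χ, ?_⟩
  exact Cfsg.Agent.Helper38.charDegree_eq_of_one (Cfsg.Agent.Helper74.irr_isCharacter χ) n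
    (by rw [hχ, hc])

theorem hasSL2EvenDegrees_sl2 [CharP F 2] (h4 : 4 ≤ Fintype.card F) :
    HasSL2EvenDegrees (Matrix.SpecialLinearGroup (Fin 2) F) (Fintype.card F) := by
  obtain ⟨hlist, hcount⟩ := Cfsg.Agent.S2300.result (F := F)
  obtain ⟨-, c1, c2, c3⟩ := hcount h4
  have hq1 : 1 ≤ Fintype.card F := by omega
  refine ⟨?_, ?_, ?_, ?_⟩
  · rintro d ⟨χ, rfl⟩
    have hc := Cfsg.Agent.Helper74.irr_isCharacter χ
    rcases hlist χ χ.2 with h | h | h | h
    · left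
      exact Cfsg.Agent.Helper38.charDegree_eq_of_one hc 1 (by rw [h]; simp)
    · right; right; right
      exact Cfsg.Agent.Helper38.charDegree_eq_of_one hc _ (by rw [h, Nat.cast_sub hq1]; simp)
    · right; left
      exact Cfsg.Agent.Helper38.charDegree_eq_of_one hc _ h
    · right; right; left
      exact Cfsg.Agent.Helper38.charDegree_eq_of_one hc _ (by rw [h]; push_cast; ring)
  · apply exists_of_card_subtype_pos (Fintype.card F : ℂ) _ rfl
    rw [c1]
    exact Nat.one_pos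
  · apply exists_of_card_subtype_pos ((Fintype.card F : ℂ) + 1) _ (by push_cast; ring)
    rw [c2]
    omega
  · apply exists_of_card_subtype_pos ((Fintype.card F : ℂ) - 1) _
      (by rw [Nat.cast_sub hq1]; simp)
    rw [c3]
    omega

/-- In characteristic 2 the centre of `SL₂(F)` is trivial, so `SL₂(F) → PSL₂(F)` is an
isomorphism. -/
noncomputable def sl2EquivPSL2 [CharP F 2] :
    Matrix.SpecialLinearGroup (Fin 2) F ≃* Matrix.ProjectiveSpecialLinearGroup (Fin 2) F :=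
  MulEquiv.ofBijective (QuotientGroup.mk' (Subgroup.center (Matrix.SpecialLinearGroup (Fin 2) F)))
    ⟨by
      rw [injective_iff_map_eq_one]
      intro g hg
      have hz : g ∈ Subgroup.center (Matrix.SpecialLinearGroup (Fin 2) F) := by
        rw [← QuotientGroup.ker_mk' (Subgroup.center (Matrix.SpecialLinearGroup (Fin 2) F))]
        exact hg
      obtain ⟨r, hr, hrz⟩ := Matrix.SpecialLinearGroup.mem_center_iff.mp hz
      have hr2 : r ^ 2 = 1 := by simpa using hr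
      have h2 : (2 : F) = 0 := CharP.cast_eq_zero F 2
      have hr1 : r = 1 := by
        have : (r - 1) ^ 2 = 0 := by
          have : (r - 1) ^ 2 = r ^ 2 - 2 * r + 1 := by ring
          rw [this, hr2, h2]
          ring_nf
          exact h2
        exact sub_eq_zero.mp (pow_eq_zero_iff two_ne_zero |>.mp this)
      apply Subtype.ext
      rw [← hrz, hr1]
      simp,
    QuotientGroup.mk'_surjective _⟩

theorem hasSL2EvenDegrees_psl2 [CharP F 2] (h4 : 4 ≤ Fintype.card F) :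
    HasSL2EvenDegrees (Matrix.ProjectiveSpecialLinearGroup (Fin 2) F) (Fintype.card F) :=
  hasSL2EvenDegrees_congr (sl2EquivPSL2 (F := F)).symm _ (hasSL2EvenDegrees_sl2 h4)

end field

end Cfsg.Agent.Helper39
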