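import Cfsg.Agent.Helper39.SL2Degrees
import Cfsg.Agent.Helper80.Pullback

set_option autoImplicit false

/-!
# The Steinberg character of `PSL₂(F)`
-/

namespace Cfsg.Agent.Helper39

open Matrix Cfsg

variable {F : Type*} [Field F] [Fintype F] [DecidableEq F]

/-- The principal series character `PSs 1` takes the same value at a central element as at `1`. -/
theorem PSs_one_central (z : Matrix.SpecialLinearGroup (Fin 2) F)
    (hz : z ∈ Subgroup.center (Matrix.SpecialLinearGroup (Fin 2) F)) :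
    Cfsg.Agent.Helper38.PSs (1 : MulChar F ℂ) z = Cfsg.Agent.Helper38.PSs (1 : MulChar F ℂ) 1 := by
  unfold Cfsg.Agent.Helper38.PSs
  rw [Cfsg.Agent.Helper15.indFun_apply, Cfsg.Agent.Helper15.indFun_apply]
  congr 1
  apply Finset.sum_congr rfl
  intro x _
  have hzx : x⁻¹ * z * x = z := by
    rw [mul_assoc, ← Subgroup.mem_center_iff.mp hz x, inv_mul_cancel_left]
  have h1x : x⁻¹ * 1 * x = 1 := by simp
  rw [hzx, h1x]
  obtain ⟨r, hr, hrz⟩ := Matrix.SpecialLinearGroup.mem_center_iff.mp hz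
  have hz10 : (z : Matrix (Fin 2) (Fin 2) F) 1 0 = 0 := by
    rw [← hrz]
    simp
  have hz00 : (z : Matrix (Fin 2) (Fin 2) F) 0 0 = r := by
    rw [← hrz]
    simp
  have hr0 : r ≠ 0 := by
    rintro rfl
    simp at hr
  have hzB : z ∈ Cfsg.Agent.Helper38.borelSL F := (Cfsg.Agent.Helper38.mem_borelSL_iff z).mpr hz10
  rw [extendByZero_of_mem _ _ z hzB, extendByZero_of_mem _ _ 1 (Subgroup.one_mem _)]
  rw [Cfsg.Agent.Helper38.thetaS_apply, Cfsg.Agent.Helper38.thetaS_apply]
  show (1 : MulChar F ℂ) ((z : Matrix (Fin 2) (Fin 2) F) 0 0) =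
    (1 : MulChar F ℂ) (((1 : Matrix.SpecialLinearGroup (Fin 2) F) : Matrix (Fin 2) (Fin 2) F) 0 0)
  rw [hz00, MulChar.one_apply (Ne.isUnit hr0)]
  simp

theorem Sts_central (z : Matrix.SpecialLinearGroup (Fin 2) F)
    (hz : z ∈ Subgroup.center (Matrix.SpecialLinearGroup (Fin 2) F)) :
    Cfsg.Agent.Helper38.Sts z = Cfsg.Agent.Helper38.Sts (1 : Matrix.SpecialLinearGroup (Fin 2) F) := by
  unfold Cfsg.Agent.Helper38.Sts
  rw [Pi.sub_apply, Pi.sub_apply, PSs_one_central z hz, Cfsg.Agent.Helper38.trivS_apply,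
    Cfsg.Agent.Helper38.trivS_apply]

/-- `PSL₂(F)` has an irreducible character of degree `q`. -/
theorem exists_steinberg_psl :
    ∃ χ : Matrix.ProjectiveSpecialLinearGroup (Fin 2) F → ℂ,
      IsIrrCharacter (Matrix.ProjectiveSpecialLinearGroup (Fin 2) F) χ ∧
        χ 1 = (Fintype.card F : ℂ) := by
  obtain ⟨χ, hχ, hval⟩ := Cfsg.Agent.Helper80.IsIrrCharacter.exists_descend
    (Cfsg.Agent.Helper38.isIrr_Sts (F := F))
    (QuotientGroup.mk' (Subgroup.center (Matrix.SpecialLinearGroup (Fin 2) F)))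
    (QuotientGroup.mk'_surjective _)
    (by
      intro g hg
      apply Sts_central
      rw [← QuotientGroup.ker_mk' (Subgroup.center (Matrix.SpecialLinearGroup (Fin 2) F))]
      exact hg)
  refine ⟨χ, hχ, ?_⟩
  have := hval 1
  rw [map_one, Cfsg.Agent.Helper38.Sts_one] at this
  exact this.symm

end Cfsg.Agent.Helper39
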