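import Cfsg.Agent.Helper39.DegreeGraphPSL2
import Cfsg.Agent.Helper39.PSL2Steinberg

set_option autoImplicit false

/-!
# `SL₂(q)` and `PSL₂(q)`, `q ≥ 7` odd, have the expected degree sets
-/

namespace Cfsg.Agent.Helper39

open Matrix Cfsg

variable {F : Type*} [Field F] [Fintype F] [DecidableEq F]

/-- The degree list of `SL₂(q)`, `q` odd, in terms of `charDegree`. -/
theorem sl2_charDegree_list (hodd : Odd (Fintype.card F))
    {χ : Matrix.SpecialLinearGroup (Fin 2) F → ℂ}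
    (hχ : IsIrrCharacter (Matrix.SpecialLinearGroup (Fin 2) F) χ) :
    charDegree χ = 1 ∨ charDegree χ = Fintype.card F ∨ charDegree χ = Fintype.card F + 1 ∨
      charDegree χ = Fintype.card F - 1 ∨ charDegree χ = (Fintype.card F + 1) / 2 ∨
        charDegree χ = (Fintype.card F - 1) / 2 := by
  have hc := Cfsg.Agent.Helper74.isCharacter_of_isIrr hχ
  have hq1 : 1 ≤ Fintype.card F := Fintype.card_pos
  rcases (Cfsg.Agent.S2299.result hodd).1 χ hχ with h | h | h | h | h | h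
  · left
    exact Cfsg.Agent.Helper38.charDegree_eq_of_one hc 1 (by rw [h]; simp)
  · right; left
    exact Cfsg.Agent.Helper38.charDegree_eq_of_one hc _ h
  · right; right; left
    exact Cfsg.Agent.Helper38.charDegree_eq_of_one hc _ (by rw [h]; push_cast; ring)
  · right; right; right; left
    exact Cfsg.Agent.Helper38.charDegree_eq_of_one hc _ (by rw [h, Nat.cast_sub hq1]; simp)
  · right; right; right; right; left
    exact Cfsg.Agent.Helper38.charDegree_eq_of_one hc _ h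
  · right; right; right; right; right
    exact Cfsg.Agent.Helper38.charDegree_eq_of_one hc _ h

theorem hasPSL2Degrees_sl2 (j : ℕ) (hq : Fintype.card F = 2 * j + 1) (hj : 3 ≤ j) :
    HasPSL2Degrees (Matrix.SpecialLinearGroup (Fin 2) F) (Fintype.card F) := by
  have hodd : Odd (Fintype.card F) := ⟨j, hq⟩
  obtain ⟨⟨χ₁, hχ₁, hd₁, -⟩, ⟨χ₂, hχ₂, hd₂, -⟩⟩ := exists_even_chars (F := F) j hq hj
  refine ⟨?_, ?_, ?_, ?_⟩
  · rintro d ⟨χ, rfl⟩
    exact sl2_charDegree_list hodd χ.2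
  · refine ⟨⟨Cfsg.Agent.Helper38.Sts, Cfsg.Agent.Helper38.isIrr_Sts⟩, ?_⟩
    exact Cfsg.Agent.Helper38.charDegree_eq_of_one
      (Cfsg.Agent.Helper74.isCharacter_of_isIrr Cfsg.Agent.Helper38.isIrr_Sts) _
      Cfsg.Agent.Helper38.Sts_one
  · refine ⟨⟨χ₂, hχ₂⟩, ?_⟩
    show charDegree χ₂ = _
    rw [hd₂, hq]
  · refine ⟨⟨χ₁, hχ₁⟩, ?_⟩
    show charDegree χ₁ = _
    rw [hd₁, hq]
    omega

/-- The kernel of `SL₂(F) → PSL₂(F)` is `{1, -1}`. -/
theorem eq_one_or_zSL_of_mk_eq_one (g : Matrix.SpecialLinearGroup (Fin 2) F)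
    (hg : QuotientGroup.mk' (Subgroup.center (Matrix.SpecialLinearGroup (Fin 2) F)) g = 1) :
    g = 1 ∨ g = zSL := by
  have hz : g ∈ Subgroup.center (Matrix.SpecialLinearGroup (Fin 2) F) := by
    rw [← QuotientGroup.ker_mk' (Subgroup.center (Matrix.SpecialLinearGroup (Fin 2) F))]
    exact hg
  obtain ⟨r, hr, hrz⟩ := Matrix.SpecialLinearGroup.mem_center_iff.mp hz
  apply eq_one_or_zSL g
  · rw [← hrz]; simp
  · rw [← hrz]; simp
  · rw [← hrz]; simp

theorem hasPSL2Degrees_psl2 (j : ℕ) (hq : Fintype.card F = 2 * j + 1) (hj : 3 ≤ j) :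
    HasPSL2Degrees (Matrix.ProjectiveSpecialLinearGroup (Fin 2) F) (Fintype.card F) := by
  have hodd : Odd (Fintype.card F) := ⟨j, hq⟩
  obtain ⟨⟨χ₁, hχ₁, hd₁, hz₁⟩, ⟨χ₂, hχ₂, hd₂, hz₂⟩⟩ := exists_even_chars (F := F) j hq hj
  have hdesc : ∀ χ : Matrix.SpecialLinearGroup (Fin 2) F → ℂ,
      IsIrrCharacter (Matrix.SpecialLinearGroup (Fin 2) F) χ → χ zSL = χ 1 →
        charDegree χ ∈ charDegrees (Matrix.ProjectiveSpecialLinearGroup (Fin 2) F) := by
    intro χ hχ hz
    obtain ⟨ψ, hψ, hval⟩ := Cfsg.Agent.Helper80.IsIrrCharacter.exists_descend hχ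
      (QuotientGroup.mk' (Subgroup.center (Matrix.SpecialLinearGroup (Fin 2) F)))
      (QuotientGroup.mk'_surjective _)
      (by
        intro g hg
        rcases eq_one_or_zSL_of_mk_eq_one g hg with rfl | rfl
        · rfl
        · exact hz)
    refine ⟨⟨ψ, hψ⟩, ?_⟩
    show charDegree ψ = charDegree χ
    unfold charDegree
    rw [hval 1, map_one]
  refine ⟨?_, ?_, ?_, ?_⟩
  · rintro d ⟨χ, rfl⟩
    have hinf := Cfsg.Agent.Helper80.IsIrrCharacter.comp_surjective χ.2
      (QuotientGroup.mk' (Subgroup.center (Matrix.SpecialLinearGroup (Fin 2) F)))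
      (QuotientGroup.mk'_surjective _)
    have := sl2_charDegree_list hodd hinf
    have hdeg : charDegree (fun g : Matrix.SpecialLinearGroup (Fin 2) F =>
        (χ : Matrix.ProjectiveSpecialLinearGroup (Fin 2) F → ℂ)
          (QuotientGroup.mk' (Subgroup.center (Matrix.SpecialLinearGroup (Fin 2) F)) g)) =
        charDegree (χ : Matrix.ProjectiveSpecialLinearGroup (Fin 2) F → ℂ) := by
      unfold charDegree
      simp only [map_one]
    rw [hdeg] at this
    exact this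
  · obtain ⟨χ, hχ, h1⟩ := exists_steinberg_psl (F := F)
    refine ⟨⟨χ, hχ⟩, ?_⟩
    exact Cfsg.Agent.Helper38.charDegree_eq_of_one
      (Cfsg.Agent.Helper74.isCharacter_of_isIrr hχ) _ h1
  · have := hdesc χ₂ hχ₂ hz₂
    rw [hd₂] at this
    rw [hq]
    exact this
  · have := hdesc χ₁ hχ₁ hz₁
    rw [hd₁] at this
    rw [hq]
    have e : 2 * j + 1 - 1 = 2 * j := by omega
    rw [e]
    exact this

end Cfsg.Agent.Helper39
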