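import Mathlib
import Cfsg.Prelude.Def_Characters
import Cfsg.Prelude.Def_ParabolicCharacters

set_option autoImplicit false

/-!
# Cosets of the upper triangular subgroup of `GL₂(F)`

Explicit coset representatives `xrep : Option F → GL₂(F)` (`none ↦ 1`, `some c ↦ !![c,1;1,0]`),
the bijection `Option F ≃ GL₂(F) ⧸ B`, formulas for the conjugates, and the resulting formula
for functions induced from `B`.
-/

namespace Cfsg.Agent.Helper39

open Matrix

variable {F : Type*} [Field F]

theorem mem_upperTriangularGL_two (g : GL (Fin 2) F) :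
    g ∈ Cfsg.upperTriangularGL 2 F ↔ (g : Matrix (Fin 2) (Fin 2) F) 1 0 = 0 := by
  constructor
  · intro h
    exact h (by decide : (id (0 : Fin 2)) < id 1)
  · intro h i j hij
    fin_cases i <;> fin_cases j <;> simp_all

/-- Coset representatives for the upper triangular subgroup. -/
noncomputable def xrep : Option F → GL (Fin 2) F
  | none => 1
  | some c => Matrix.GeneralLinearGroup.mkOfDetNeZero !![c, 1; 1, 0] (by simp [det_fin_two])

/-- Their inverses. -/
noncomputable def xrepInv : Option F → GL (Fin 2) F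
  | none => 1
  | some c => Matrix.GeneralLinearGroup.mkOfDetNeZero !![0, 1; 1, -c] (by simp [det_fin_two])

theorem coe_xrep_some (c : F) :
    ((xrep (some c) : GL (Fin 2) F) : Matrix (Fin 2) (Fin 2) F) = !![c, 1; 1, 0] := rfl

theorem coe_xrepInv_some (c : F) :
    ((xrepInv (some c) : GL (Fin 2) F) : Matrix (Fin 2) (Fin 2) F) = !![0, 1; 1, -c] := rfl

theorem xrep_none : xrep (none : Option F) = 1 := rfl

theorem xrep_mul_xrepInv (o : Option F) : xrep o * xrepInv o = 1 := by
  cases o with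
  | none => simp [xrep, xrepInv]
  | some c =>
    apply Matrix.GeneralLinearGroup.ext
    intro i j
    rw [Units.val_mul, coe_xrep_some, coe_xrepInv_some]
    fin_cases i <;> fin_cases j <;> simp [Matrix.mul_apply, Fin.sum_univ_two]

theorem xrep_inv (o : Option F) : (xrep o)⁻¹ = xrepInv o :=
  inv_eq_of_mul_eq_one_right (xrep_mul_xrepInv o)

/-- The `(1,0)` entry of `x_c⁻¹ g x_c`. -/
theorem conj_xrep_some_10 (g : GL (Fin 2) F) (c : F) :
    (((xrep (some c))⁻¹ * g * xrep (some c) : GL (Fin 2) F) : Matrix (Fin 2) (Fin 2) F) 1 0 =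
      (g : Matrix (Fin 2) (Fin 2) F) 0 0 * c + (g : Matrix (Fin 2) (Fin 2) F) 0 1 -
        c * ((g : Matrix (Fin 2) (Fin 2) F) 1 0 * c + (g : Matrix (Fin 2) (Fin 2) F) 1 1) := by
  rw [xrep_inv, Units.val_mul, Units.val_mul, coe_xrep_some, coe_xrepInv_some]
  simp [Matrix.mul_apply, Fin.sum_univ_two, Matrix.vecMul, dotProduct]
  ring

/-- The `(0,0)` entry of `x_c⁻¹ g x_c`. -/
theorem conj_xrep_some_00 (g : GL (Fin 2) F) (c : F) :
    (((xrep (some c))⁻¹ * g * xrep (some c) : GL (Fin 2) F) : Matrix (Fin 2) (Fin 2) F) 0 0 =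
      (g : Matrix (Fin 2) (Fin 2) F) 1 0 * c + (g : Matrix (Fin 2) (Fin 2) F) 1 1 := by
  rw [xrep_inv, Units.val_mul, Units.val_mul, coe_xrep_some, coe_xrepInv_some]
  simp [Matrix.mul_apply, Fin.sum_univ_two, Matrix.vecMul, dotProduct]

/-- The `(1,1)` entry of `x_c⁻¹ g x_c`. -/
theorem conj_xrep_some_11 (g : GL (Fin 2) F) (c : F) :
    (((xrep (some c))⁻¹ * g * xrep (some c) : GL (Fin 2) F) : Matrix (Fin 2) (Fin 2) F) 1 1 =
      (g : Matrix (Fin 2) (Fin 2) F) 0 0 - c * (g : Matrix (Fin 2) (Fin 2) F) 1 0 := by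
  rw [xrep_inv, Units.val_mul, Units.val_mul, coe_xrep_some, coe_xrepInv_some]
  simp [Matrix.mul_apply, Fin.sum_univ_two, Matrix.vecMul, dotProduct]
  ring

theorem conj_xrep_none (g : GL (Fin 2) F) : (xrep (none : Option F))⁻¹ * g * xrep none = g := by
  simp [xrep]

theorem conj_xrep_some_mem_iff (g : GL (Fin 2) F) (c : F) :
    (xrep (some c))⁻¹ * g * xrep (some c) ∈ Cfsg.upperTriangularGL 2 F ↔
      (g : Matrix (Fin 2) (Fin 2) F) 0 0 * c + (g : Matrix (Fin 2) (Fin 2) F) 0 1 -
        c * ((g : Matrix (Fin 2) (Fin 2) F) 1 0 * c + (g : Matrix (Fin 2) (Fin 2) F) 1 1) = 0 := by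
  rw [mem_upperTriangularGL_two, conj_xrep_some_10]

theorem xrep_inv_mul_mem_iff (o o' : Option F) :
    (xrep o)⁻¹ * xrep o' ∈ Cfsg.upperTriangularGL 2 F ↔ o = o' := by
  rw [mem_upperTriangularGL_two, xrep_inv]
  cases o with
  | none =>
    cases o' with
    | none => simp [xrep, xrepInv]
    | some c' =>
      rw [show xrepInv (none : Option F) = 1 from rfl, one_mul, coe_xrep_some]
      simp
  | some c =>
    cases o' with
    | none =>
      rw [show xrep (none : Option F) = 1 from rfl, mul_one, coe_xrepInv_some]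
      simp
    | some c' =>
      rw [Units.val_mul, coe_xrep_some, coe_xrepInv_some]
      simp [Matrix.mul_apply, Fin.sum_univ_two]
      constructor
      · intro h
        linear_combination -h
      · intro h
        rw [h]; ring

theorem exists_xrep_inv_mul_mem (g : GL (Fin 2) F) :
    ∃ o : Option F, (xrep o)⁻¹ * g ∈ Cfsg.upperTriangularGL 2 F := by
  by_cases h : (g : Matrix (Fin 2) (Fin 2) F) 1 0 = 0
  · refine ⟨none, ?_⟩
    rw [mem_upperTriangularGL_two]
    simpa [xrep] using h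
  · refine ⟨some ((g : Matrix (Fin 2) (Fin 2) F) 0 0 / (g : Matrix (Fin 2) (Fin 2) F) 1 0), ?_⟩
    rw [mem_upperTriangularGL_two, xrep_inv, Units.val_mul, coe_xrepInv_some]
    simp [Matrix.mul_apply, Fin.sum_univ_two]
    field_simp
    ring

/-- The cosets of the upper triangular subgroup are parametrised by `Option F`. -/
noncomputable def cosetEquiv : Option F ≃ GL (Fin 2) F ⧸ Cfsg.upperTriangularGL 2 F :=
  Equiv.ofBijective (fun o => ((xrep o : GL (Fin 2) F) : GL (Fin 2) F ⧸ Cfsg.upperTriangularGL 2 F))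
    ⟨fun o o' h => (xrep_inv_mul_mem_iff o o').mp (QuotientGroup.eq.mp h), fun q => by
      obtain ⟨g, rfl⟩ := QuotientGroup.mk_surjective q
      obtain ⟨o, ho⟩ := exists_xrep_inv_mul_mem g
      exact ⟨o, QuotientGroup.eq.mpr ho⟩⟩

theorem cosetEquiv_apply (o : Option F) :
    cosetEquiv o = ((xrep o : GL (Fin 2) F) : GL (Fin 2) F ⧸ Cfsg.upperTriangularGL 2 F) := rfl

theorem smul_cosetEquiv_eq_iff (g : GL (Fin 2) F) (o : Option F) :
    g • (cosetEquiv o : GL (Fin 2) F ⧸ Cfsg.upperTriangularGL 2 F) = cosetEquiv o ↔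
      (xrep o)⁻¹ * g * xrep o ∈ Cfsg.upperTriangularGL 2 F := by
  rw [cosetEquiv_apply, MulAction.Quotient.smul_mk, eq_comm, QuotientGroup.eq, smul_eq_mul,
    mul_assoc]

/-- The fixed cosets of `g` correspond to the `o` with `x_o⁻¹ g x_o ∈ B`. -/
noncomputable def fixedByEquiv (g : GL (Fin 2) F) :
    {o : Option F // (xrep o)⁻¹ * g * xrep o ∈ Cfsg.upperTriangularGL 2 F} ≃
      MulAction.fixedBy (GL (Fin 2) F ⧸ Cfsg.upperTriangularGL 2 F) g :=
  Equiv.subtypeEquiv cosetEquiv (fun o => by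
    rw [MulAction.mem_fixedBy, smul_cosetEquiv_eq_iff])

/-- The number of fixed cosets. -/
theorem card_fixedBy [Fintype F] [DecidableEq F] (g : GL (Fin 2) F) :
    Nat.card (MulAction.fixedBy (GL (Fin 2) F ⧸ Cfsg.upperTriangularGL 2 F) g) =
      (if (g : Matrix (Fin 2) (Fin 2) F) 1 0 = 0 then 1 else 0) +
        (Finset.univ.filter (fun c : F =>
          (g : Matrix (Fin 2) (Fin 2) F) 0 0 * c + (g : Matrix (Fin 2) (Fin 2) F) 0 1 -
            c * ((g : Matrix (Fin 2) (Fin 2) F) 1 0 * c + (g : Matrix (Fin 2) (Fin 2) F) 1 1)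
              = 0)).card := by
  classical
  rw [← Nat.card_congr (fixedByEquiv g), Nat.card_eq_fintype_card, Fintype.card_subtype,
    Finset.card_filter, Fintype.sum_option, Finset.card_filter]
  congr 1
  · rw [conj_xrep_none, mem_upperTriangularGL_two]
    congr
  · apply Finset.sum_congr rfl
    intro c _
    rw [conj_xrep_some_mem_iff]
    congr

section IndFun

open Cfsg

variable [Fintype F] [DecidableEq F]

theorem extendByZero_of_mem {G : Type*} [Group G] (H : Subgroup G) (θ : H → ℂ) (x : G)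
    (hx : x ∈ H) : Cfsg.extendByZero H θ x = θ ⟨x, hx⟩ := by
  unfold Cfsg.extendByZero
  exact Subtype.val_injective.extend_apply θ 0 ⟨x, hx⟩

theorem extendByZero_of_not_mem {G : Type*} [Group G] (H : Subgroup G) (θ : H → ℂ) (x : G)
    (hx : x ∉ H) : Cfsg.extendByZero H θ x = 0 := by
  unfold Cfsg.extendByZero
  rw [Function.extend_apply']
  · rfl
  · rintro ⟨h, rfl⟩
    exact hx h.2

/-- The bijection `Option F × B ≃ GL₂(F)`. -/
noncomputable def decompEquiv :
    Option F × (Cfsg.upperTriangularGL 2 F) ≃ GL (Fin 2) F :=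
  Equiv.ofBijective (fun p => xrep p.1 * (p.2 : GL (Fin 2) F))
    ⟨fun p p' h => by
      obtain ⟨o, b⟩ := p
      obtain ⟨o', b'⟩ := p'
      simp only at h
      have h1 : (xrep o)⁻¹ * xrep o' = (b : GL (Fin 2) F) * (b' : GL (Fin 2) F)⁻¹ := by
        rw [eq_mul_inv_iff_mul_eq, mul_assoc, ← h, inv_mul_cancel_left]
      have h2 : o = o' := by
        rw [← xrep_inv_mul_mem_iff, h1]
        exact Subgroup.mul_mem _ b.2 (Subgroup.inv_mem _ b'.2)
      subst h2
      have h3 : (b : GL (Fin 2) F) = b' := mul_left_cancel h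
      rw [Subtype.ext h3], fun g => by
      obtain ⟨o, ho⟩ := exists_xrep_inv_mul_mem g
      exact ⟨(o, ⟨_, ho⟩), by simp⟩⟩

theorem decompEquiv_apply (o : Option F) (b : Cfsg.upperTriangularGL 2 F) :
    decompEquiv (o, b) = xrep o * (b : GL (Fin 2) F) := rfl

/-- Formula for a function induced from the upper triangular subgroup, when the inducing
function is invariant under conjugation by the subgroup. -/
theorem indFun_upperTriangular (θ : Cfsg.upperTriangularGL 2 F → ℂ)
    (hθ : ∀ b y : Cfsg.upperTriangularGL 2 F, θ (b⁻¹ * y * b) = θ y) (g : GL (Fin 2) F) :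
    Cfsg.indFun (Cfsg.upperTriangularGL 2 F) θ g =
      ∑ o : Option F, Cfsg.extendByZero (Cfsg.upperTriangularGL 2 F) θ
        ((xrep o)⁻¹ * g * xrep o) := by
  classical
  unfold Cfsg.indFun
  have hinv : ∀ (b : Cfsg.upperTriangularGL 2 F) (y : GL (Fin 2) F),
      Cfsg.extendByZero (Cfsg.upperTriangularGL 2 F) θ ((b : GL (Fin 2) F)⁻¹ * y * b) =
        Cfsg.extendByZero (Cfsg.upperTriangularGL 2 F) θ y := by
    intro b y
    by_cases hy : y ∈ Cfsg.upperTriangularGL 2 F
    · have hy' : (b : GL (Fin 2) F)⁻¹ * y * b ∈ Cfsg.upperTriangularGL 2 F :=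
        Subgroup.mul_mem _ (Subgroup.mul_mem _ (Subgroup.inv_mem _ b.2) hy) b.2
      rw [extendByZero_of_mem _ _ _ hy, extendByZero_of_mem _ _ _ hy']
      exact hθ b ⟨y, hy⟩
    · have hy' : (b : GL (Fin 2) F)⁻¹ * y * b ∉ Cfsg.upperTriangularGL 2 F := by
        intro h
        apply hy
        have := Subgroup.mul_mem _ (Subgroup.mul_mem _ b.2 h) (Subgroup.inv_mem _ b.2)
        simpa [mul_assoc] using this
      rw [extendByZero_of_not_mem _ _ _ hy, extendByZero_of_not_mem _ _ _ hy']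
  rw [← Equiv.sum_comp decompEquiv, Fintype.sum_prod_type]
  have hterm : ∀ (o : Option F) (b : Cfsg.upperTriangularGL 2 F),
      Cfsg.extendByZero (Cfsg.upperTriangularGL 2 F) θ
        ((decompEquiv (o, b))⁻¹ * g * decompEquiv (o, b)) =
      Cfsg.extendByZero (Cfsg.upperTriangularGL 2 F) θ ((xrep o)⁻¹ * g * xrep o) := by
    intro o b
    rw [decompEquiv_apply, ← hinv b ((xrep o)⁻¹ * g * xrep o)]
    congr 1
    simp [mul_assoc]
  simp only [hterm, Finset.sum_const, Finset.card_univ, nsmul_eq_mul]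
  rw [← Finset.mul_sum, ← mul_assoc, Nat.card_eq_fintype_card, inv_mul_cancel₀, one_mul]
  exact_mod_cast Fintype.card_ne_zero

end IndFun

end Cfsg.Agent.Helper39
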