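import Mathlib
import Cfsg.Prelude.Def_Characters
import Cfsg.Prelude.Def_ParabolicCharacters
import Cfsg.Agent.Helper39.GL2Cosets

set_option autoImplicit false

/-!
# Cosets of the upper triangular subgroup of `SL₂(F)`

The `SL₂` analogue of `GL2Cosets`: coset representatives `srep : Option F → SL₂(F)`
(`none ↦ 1`, `some c ↦ !![c,-1;1,0]`), and the formula for functions induced from the upper
triangular subgroup `BSL F` of `SL₂(F)`.
-/

namespace Cfsg.Agent.Helper39

open Matrix

variable {F : Type*} [Field F]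

/-- The upper triangular subgroup of `SL₂(F)`, in the form used in the statements. -/
abbrev BSL (F : Type*) [Field F] : Subgroup (Matrix.SpecialLinearGroup (Fin 2) F) :=
  (Cfsg.upperTriangularGL 2 F).comap Matrix.SpecialLinearGroup.toGL

theorem mem_BSL_iff (g : Matrix.SpecialLinearGroup (Fin 2) F) :
    g ∈ BSL F ↔ (g : Matrix (Fin 2) (Fin 2) F) 1 0 = 0 := by
  rw [Subgroup.mem_comap, mem_upperTriangularGL_two]
  rfl

/-- Constructor for `SL₂` keeping the type folded. -/
def mkSL2 (M : Matrix (Fin 2) (Fin 2) F) (h : M.det = 1) : Matrix.SpecialLinearGroup (Fin 2) F :=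
  ⟨M, h⟩

theorem coe_mkSL2 (M : Matrix (Fin 2) (Fin 2) F) (h : M.det = 1) :
    ((mkSL2 M h : Matrix.SpecialLinearGroup (Fin 2) F) : Matrix (Fin 2) (Fin 2) F) = M := rfl

/-- Coset representatives for the upper triangular subgroup of `SL₂`. -/
def srep : Option F → Matrix.SpecialLinearGroup (Fin 2) F
  | none => 1
  | some c => mkSL2 !![c, -1; 1, 0] (by simp [det_fin_two])

/-- Their inverses. -/
def srepInv : Option F → Matrix.SpecialLinearGroup (Fin 2) F
  | none => 1
  | some c => mkSL2 !![0, 1; -1, c] (by simp [det_fin_two])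

theorem coe_srep_some (c : F) :
    ((srep (some c) : Matrix.SpecialLinearGroup (Fin 2) F) : Matrix (Fin 2) (Fin 2) F) =
      !![c, -1; 1, 0] := rfl

theorem coe_srepInv_some (c : F) :
    ((srepInv (some c) : Matrix.SpecialLinearGroup (Fin 2) F) : Matrix (Fin 2) (Fin 2) F) =
      !![0, 1; -1, c] := rfl

theorem srep_mul_srepInv (o : Option F) : srep o * srepInv o = 1 := by
  cases o with
  | none => simp [srep, srepInv]
  | some c =>
    apply Matrix.SpecialLinearGroup.ext
    intro i j
    rw [Matrix.SpecialLinearGroup.coe_mul, coe_srep_some, coe_srepInv_some]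
    fin_cases i <;> fin_cases j <;> simp [Matrix.mul_apply, Fin.sum_univ_two]

theorem srep_inv (o : Option F) : (srep o)⁻¹ = srepInv o :=
  inv_eq_of_mul_eq_one_right (srep_mul_srepInv o)

/-- The `(1,0)` entry of `x_c⁻¹ g x_c`. -/
theorem conj_srep_some_10 (g : Matrix.SpecialLinearGroup (Fin 2) F) (c : F) :
    (((srep (some c))⁻¹ * g * srep (some c) : Matrix.SpecialLinearGroup (Fin 2) F) :
        Matrix (Fin 2) (Fin 2) F) 1 0 =
      -((g : Matrix (Fin 2) (Fin 2) F) 0 0 * c + (g : Matrix (Fin 2) (Fin 2) F) 0 1 -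
        c * ((g : Matrix (Fin 2) (Fin 2) F) 1 0 * c + (g : Matrix (Fin 2) (Fin 2) F) 1 1)) := by
  rw [srep_inv, Matrix.SpecialLinearGroup.coe_mul, Matrix.SpecialLinearGroup.coe_mul,
    coe_srep_some, coe_srepInv_some]
  simp [Matrix.mul_apply, Fin.sum_univ_two, Matrix.vecMul, dotProduct]
  ring

/-- The `(0,0)` entry of `x_c⁻¹ g x_c`. -/
theorem conj_srep_some_00 (g : Matrix.SpecialLinearGroup (Fin 2) F) (c : F) :
    (((srep (some c))⁻¹ * g * srep (some c) : Matrix.SpecialLinearGroup (Fin 2) F) :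
        Matrix (Fin 2) (Fin 2) F) 0 0 =
      (g : Matrix (Fin 2) (Fin 2) F) 1 0 * c + (g : Matrix (Fin 2) (Fin 2) F) 1 1 := by
  rw [srep_inv, Matrix.SpecialLinearGroup.coe_mul, Matrix.SpecialLinearGroup.coe_mul,
    coe_srep_some, coe_srepInv_some]
  simp [Matrix.mul_apply, Fin.sum_univ_two, Matrix.vecMul, dotProduct]

/-- The `(1,1)` entry of `x_c⁻¹ g x_c`. -/
theorem conj_srep_some_11 (g : Matrix.SpecialLinearGroup (Fin 2) F) (c : F) :
    (((srep (some c))⁻¹ * g * srep (some c) : Matrix.SpecialLinearGroup (Fin 2) F) :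
        Matrix (Fin 2) (Fin 2) F) 1 1 =
      (g : Matrix (Fin 2) (Fin 2) F) 0 0 - c * (g : Matrix (Fin 2) (Fin 2) F) 1 0 := by
  rw [srep_inv, Matrix.SpecialLinearGroup.coe_mul, Matrix.SpecialLinearGroup.coe_mul,
    coe_srep_some, coe_srepInv_some]
  simp [Matrix.mul_apply, Fin.sum_univ_two, Matrix.vecMul, dotProduct]
  ring

theorem conj_srep_none (g : Matrix.SpecialLinearGroup (Fin 2) F) :
    (srep (none : Option F))⁻¹ * g * srep none = g := by
  simp [srep]

theorem srep_inv_mul_mem_iff (o o' : Option F) :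
    (srep o)⁻¹ * srep o' ∈ BSL F ↔ o = o' := by
  rw [mem_BSL_iff, srep_inv]
  cases o with
  | none =>
    cases o' with
    | none => simp [srep, srepInv]
    | some c' =>
      rw [show srepInv (none : Option F) = 1 from rfl, one_mul, coe_srep_some]
      simp
  | some c =>
    cases o' with
    | none =>
      rw [show srep (none : Option F) = 1 from rfl, mul_one, coe_srepInv_some]
      simp
    | some c' =>
      rw [Matrix.SpecialLinearGroup.coe_mul, coe_srep_some, coe_srepInv_some]
      simp [Matrix.mul_apply, Fin.sum_univ_two]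
      constructor
      · intro h
        linear_combination h
      · intro h
        rw [h]; ring

theorem exists_srep_inv_mul_mem (g : Matrix.SpecialLinearGroup (Fin 2) F) :
    ∃ o : Option F, (srep o)⁻¹ * g ∈ BSL F := by
  by_cases h : (g : Matrix (Fin 2) (Fin 2) F) 1 0 = 0
  · refine ⟨none, ?_⟩
    rw [mem_BSL_iff]
    simpa [srep] using h
  · refine ⟨some ((g : Matrix (Fin 2) (Fin 2) F) 0 0 / (g : Matrix (Fin 2) (Fin 2) F) 1 0), ?_⟩
    rw [mem_BSL_iff, srep_inv, Matrix.SpecialLinearGroup.coe_mul, coe_srepInv_some]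
    simp [Matrix.mul_apply, Fin.sum_univ_two]
    field_simp
    ring

section IndFun

open Cfsg

variable [Fintype F] [DecidableEq F]

/-- The bijection `Option F × BSL ≃ SL₂(F)`. -/
noncomputable def decompEquivSL :
    Option F × (BSL F) ≃ Matrix.SpecialLinearGroup (Fin 2) F :=
  Equiv.ofBijective (fun p => srep p.1 * (p.2 : Matrix.SpecialLinearGroup (Fin 2) F))
    ⟨fun p p' h => by
      obtain ⟨o, b⟩ := p
      obtain ⟨o', b'⟩ := p'
      simp only at h
      have h1 : (srep o)⁻¹ * srep o' = (b : Matrix.SpecialLinearGroup (Fin 2) F) *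
          (b' : Matrix.SpecialLinearGroup (Fin 2) F)⁻¹ := by
        rw [eq_mul_inv_iff_mul_eq, mul_assoc, ← h, inv_mul_cancel_left]
      have h2 : o = o' := by
        rw [← srep_inv_mul_mem_iff, h1]
        exact Subgroup.mul_mem _ b.2 (Subgroup.inv_mem _ b'.2)
      subst h2
      have h3 : (b : Matrix.SpecialLinearGroup (Fin 2) F) = b' := mul_left_cancel h
      rw [Subtype.ext h3], fun g => by
      obtain ⟨o, ho⟩ := exists_srep_inv_mul_mem g
      exact ⟨(o, ⟨_, ho⟩), by simp⟩⟩

theorem decompEquivSL_apply (o : Option F) (b : BSL F) :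
    decompEquivSL (o, b) = srep o * (b : Matrix.SpecialLinearGroup (Fin 2) F) := rfl

/-- Formula for a function induced from the upper triangular subgroup of `SL₂`, when the
inducing function is invariant under conjugation by the subgroup. -/
theorem indFun_BSL (θ : BSL F → ℂ)
    (hθ : ∀ b y : BSL F, θ (b⁻¹ * y * b) = θ y) (g : Matrix.SpecialLinearGroup (Fin 2) F) :
    Cfsg.indFun (BSL F) θ g =
      ∑ o : Option F, Cfsg.extendByZero (BSL F) θ ((srep o)⁻¹ * g * srep o) := by
  classical
  unfold Cfsg.indFun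
  have hinv : ∀ (b : BSL F) (y : Matrix.SpecialLinearGroup (Fin 2) F),
      Cfsg.extendByZero (BSL F) θ
        ((b : Matrix.SpecialLinearGroup (Fin 2) F)⁻¹ * y * b) =
        Cfsg.extendByZero (BSL F) θ y := by
    intro b y
    by_cases hy : y ∈ BSL F
    · have hy' : (b : Matrix.SpecialLinearGroup (Fin 2) F)⁻¹ * y * b ∈ BSL F :=
        Subgroup.mul_mem _ (Subgroup.mul_mem _ (Subgroup.inv_mem _ b.2) hy) b.2
      rw [extendByZero_of_mem _ _ _ hy, extendByZero_of_mem _ _ _ hy']
      exact hθ b ⟨y, hy⟩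
    · have hy' : (b : Matrix.SpecialLinearGroup (Fin 2) F)⁻¹ * y * b ∉ BSL F := by
        intro h
        apply hy
        have := Subgroup.mul_mem _ (Subgroup.mul_mem _ b.2 h) (Subgroup.inv_mem _ b.2)
        simpa [mul_assoc] using this
      rw [extendByZero_of_not_mem _ _ _ hy, extendByZero_of_not_mem _ _ _ hy']
  rw [← Equiv.sum_comp decompEquivSL, Fintype.sum_prod_type]
  have hterm : ∀ (o : Option F) (b : BSL F),
      Cfsg.extendByZero (BSL F) θ
        ((decompEquivSL (o, b))⁻¹ * g * decompEquivSL (o, b)) =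
      Cfsg.extendByZero (BSL F) θ ((srep o)⁻¹ * g * srep o) := by
    intro o b
    rw [decompEquivSL_apply, ← hinv b ((srep o)⁻¹ * g * srep o)]
    congr 1
    simp [mul_assoc]
  simp only [hterm, Finset.sum_const, Finset.card_univ, nsmul_eq_mul]
  rw [← Finset.mul_sum, ← mul_assoc, Nat.card_eq_fintype_card, inv_mul_cancel₀, one_mul]
  exact_mod_cast Fintype.card_ne_zero

end IndFun

end Cfsg.Agent.Helper39
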