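import Cfsg.Agent.S2305
import Cfsg.Agent.S2306
import Cfsg.Agent.Helper15.IndChar
import Cfsg.Agent.Helper15.LinChar
import Cfsg.Agent.Helper74.CharCount

set_option autoImplicit false

/-!
# Principal series, linear and Steinberg characters of `GL₂(F)`

Inner products of the characters induced from the upper triangular subgroup, via Frobenius
reciprocity and the explicit formula of `S2305`.
-/

namespace Cfsg.Agent.Helper39

open Matrix Cfsg
open scoped ComplexConjugate

variable {F : Type*} [Field F]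

/-- The element `!![a, x; 0, d]` of the upper triangular subgroup. -/
noncomputable def bEltGL (p : Fˣ × Fˣ × F) : Cfsg.upperTriangularGL 2 F :=
  ⟨Matrix.GeneralLinearGroup.mkOfDetNeZero !![(p.1 : F), p.2.2; 0, (p.2.1 : F)]
    (by simp [Matrix.det_fin_two]), (mem_upperTriangularGL_two _).mpr rfl⟩

theorem bEltGL_00 (p : Fˣ × Fˣ × F) :
    (((bEltGL p : Cfsg.upperTriangularGL 2 F) : GL (Fin 2) F) : Matrix (Fin 2) (Fin 2) F) 0 0 =
      p.1 := rfl
theorem bEltGL_01 (p : Fˣ × Fˣ × F) :
    (((bEltGL p : Cfsg.upperTriangularGL 2 F) : GL (Fin 2) F) : Matrix (Fin 2) (Fin 2) F) 0 1 =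
      p.2.2 := rfl
theorem bEltGL_10 (p : Fˣ × Fˣ × F) :
    (((bEltGL p : Cfsg.upperTriangularGL 2 F) : GL (Fin 2) F) : Matrix (Fin 2) (Fin 2) F) 1 0 =
      0 := rfl
theorem bEltGL_11 (p : Fˣ × Fˣ × F) :
    (((bEltGL p : Cfsg.upperTriangularGL 2 F) : GL (Fin 2) F) : Matrix (Fin 2) (Fin 2) F) 1 1 =
      p.2.1 := rfl

theorem bEltGL_bijective : Function.Bijective (bEltGL (F := F)) := by
  constructor
  · intro p p' h
    have h0 := congrArg (fun b : Cfsg.upperTriangularGL 2 F =>
      ((b : GL (Fin 2) F) : Matrix (Fin 2) (Fin 2) F) 0 0) h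
    have h1 := congrArg (fun b : Cfsg.upperTriangularGL 2 F =>
      ((b : GL (Fin 2) F) : Matrix (Fin 2) (Fin 2) F) 0 1) h
    have h2 := congrArg (fun b : Cfsg.upperTriangularGL 2 F =>
      ((b : GL (Fin 2) F) : Matrix (Fin 2) (Fin 2) F) 1 1) h
    simp only [bEltGL_00, bEltGL_01, bEltGL_11] at h0 h1 h2
    exact Prod.ext (Units.ext h0) (Prod.ext (Units.ext h2) h1)
  · intro b
    have hb : ((b : GL (Fin 2) F) : Matrix (Fin 2) (Fin 2) F) 1 0 = 0 :=
      (mem_upperTriangularGL_two _).mp b.2
    have hdet : ((b : GL (Fin 2) F) : Matrix (Fin 2) (Fin 2) F).det ≠ 0 :=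
      Matrix.GeneralLinearGroup.det_ne_zero _
    rw [Matrix.det_fin_two, hb, mul_zero, sub_zero] at hdet
    have h0 : ((b : GL (Fin 2) F) : Matrix (Fin 2) (Fin 2) F) 0 0 ≠ 0 := left_ne_zero_of_mul hdet
    have h1 : ((b : GL (Fin 2) F) : Matrix (Fin 2) (Fin 2) F) 1 1 ≠ 0 := right_ne_zero_of_mul hdet
    refine ⟨(Units.mk0 _ h0, Units.mk0 _ h1,
      ((b : GL (Fin 2) F) : Matrix (Fin 2) (Fin 2) F) 0 1), ?_⟩
    apply Subtype.ext
    apply Matrix.GeneralLinearGroup.ext
    intro i j
    fin_cases i <;> fin_cases j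
    · rfl
    · rfl
    · exact hb.symm
    · rfl

/-- The parametrisation of the upper triangular subgroup. -/
noncomputable def bEquivGL : Fˣ × Fˣ × F ≃ Cfsg.upperTriangularGL 2 F :=
  Equiv.ofBijective bEltGL bEltGL_bijective

theorem bEquivGL_apply (p : Fˣ × Fˣ × F) : bEquivGL p = bEltGL p := rfl

section Fin

variable [Fintype F] [DecidableEq F]

theorem card_upperTriangularGL :
    Nat.card (Cfsg.upperTriangularGL 2 F) =
      Fintype.card Fˣ * (Fintype.card Fˣ * Fintype.card F) := by
  rw [← Nat.card_congr (bEquivGL (F := F)), Nat.card_eq_fintype_card, Fintype.card_prod,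
    Fintype.card_prod]

/-- The principal series function. -/
noncomputable def piFun (α β : MulChar F ℂ) : GL (Fin 2) F → ℂ :=
  Cfsg.indFun (Cfsg.upperTriangularGL 2 F) (Cfsg.Agent.S2305.theta α β)

theorem piFun_apply (α β : MulChar F ℂ) (g : GL (Fin 2) F) :
    piFun α β g = Cfsg.Agent.S2305.indVal α β g :=
  Cfsg.Agent.S2305.indFun_theta α β g

theorem piFun_symm (α β : MulChar F ℂ) : piFun α β = piFun β α := by
  funext g
  rw [piFun_apply, piFun_apply, Cfsg.Agent.S2305.indVal_symm]

/-- `theta` as a monoid homomorphism. -/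
noncomputable def thetaHomGL (α β : MulChar F ℂ) : Cfsg.upperTriangularGL 2 F →* ℂ where
  toFun := Cfsg.Agent.S2305.theta α β
  map_one' := by
    unfold Cfsg.Agent.S2305.theta
    simp
  map_mul' := Cfsg.Agent.S2305.theta_mul α β

theorem isCharacter_theta (α β : MulChar F ℂ) :
    IsCharacter (Cfsg.upperTriangularGL 2 F) (Cfsg.Agent.S2305.theta α β) :=
  (Cfsg.Agent.Helper15.isCharacter_of_hom (thetaHomGL α β)).1

theorem isCharacter_piFun (α β : MulChar F ℂ) : IsCharacter (GL (Fin 2) F) (piFun α β) :=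
  Cfsg.Agent.Helper15.isCharacter_indFun _ (isCharacter_theta α β)

theorem isClassFunction_piFun (α β : MulChar F ℂ) : IsClassFunction (GL (Fin 2) F) (piFun α β) :=
  Cfsg.Agent.Helper15.isClassFunction_indFun _ _

/-- Frobenius reciprocity for the principal series, as an explicit sum over the upper triangular
subgroup. -/
theorem inner_piFun (α β : MulChar F ℂ) (ψ : GL (Fin 2) F → ℂ)
    (hψ : IsClassFunction (GL (Fin 2) F) ψ) :
    Cfsg.classInner (piFun α β) ψ =
      ((Fintype.card Fˣ : ℂ) * ((Fintype.card Fˣ : ℂ) * (Fintype.card F : ℂ)))⁻¹ *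
        ∑ a : Fˣ, ∑ d : Fˣ, ∑ x : F, α a * β d *
          conj (ψ ((bEltGL (a, d, x) : Cfsg.upperTriangularGL 2 F) : GL (Fin 2) F)) := by
  classical
  unfold piFun
  rw [Cfsg.Agent.Helper15.frobenius_reciprocity _ _ _ hψ, Cfsg.Agent.Helper15.classInner_apply,
    ← Equiv.sum_comp (bEquivGL (F := F)), Fintype.sum_prod_type, card_upperTriangularGL]
  push_cast
  congr 1
  apply Finset.sum_congr rfl
  intro a _
  rw [Fintype.sum_prod_type]
  rfl

/-- Orthogonality of multiplicative characters on the units. -/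
theorem sum_units_mul_conj (χ ψ : MulChar F ℂ) :
    ∑ a : Fˣ, χ a * conj (ψ a) = if χ = ψ then (Fintype.card Fˣ : ℂ) else 0 := by
  have h : ∀ a : Fˣ, χ a * conj (ψ a) = (χ * ψ⁻¹) a := by
    intro a
    rw [MulChar.mul_apply]
    congr 1
    exact MulChar.star_apply' ψ a
  simp only [h]
  rw [Cfsg.Agent.S2306.sum_units_mulChar]
  have : (χ * ψ⁻¹ = 1) ↔ χ = ψ := mul_inv_eq_one
  simp only [this]

omit [Fintype F] [DecidableEq F] in
theorem ite_mul_ite_aux (P Q : Prop) [Decidable P] [Decidable Q] (u q : ℂ) (hu : u ≠ 0)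
    (hq : q ≠ 0) :
    (u * (u * q))⁻¹ * (q * ((if P then u else 0) * (if Q then u else 0))) =
      if P ∧ Q then 1 else 0 := by
  by_cases hP : P <;> by_cases hQ : Q <;> simp [hP, hQ]
  field_simp

theorem inner_piFun_piFun (α β α' β' : MulChar F ℂ) :
    Cfsg.classInner (piFun α β) (piFun α' β') =
      (if α = α' ∧ β = β' then 1 else 0) + (if α = β' ∧ β = α' then 1 else 0) := by
  classical
  rw [inner_piFun α β _ (isClassFunction_piFun α' β')]
  have hterm : ∀ (a d : Fˣ), ∑ x : F, α a * β d *
      conj (piFun α' β' ((bEltGL (a, d, x) : Cfsg.upperTriangularGL 2 F) : GL (Fin 2) F)) =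
      (Fintype.card F : ℂ) * ((α a * conj (α' a)) * (β d * conj (β' d))) +
      (Fintype.card F : ℂ) * ((α a * conj (β' a)) * (β d * conj (α' d))) := by
    intro a d
    have hval : ∀ x : F, piFun α' β' ((bEltGL (a, d, x) : Cfsg.upperTriangularGL 2 F) :
        GL (Fin 2) F) = α' a * β' d +
          ∑ c : F, if x = c * (d : F) - (a : F) * c then α' d * β' a else 0 := by
      intro x
      rw [piFun_apply]
      unfold Cfsg.Agent.S2305.indVal
      rw [bEltGL_00, bEltGL_01, bEltGL_10, bEltGL_11]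
      simp only [if_true, zero_mul, zero_add, mul_zero, sub_zero]
      congr 1
      apply Finset.sum_congr rfl
      intro c _
      have hiff : ((a : F) * c + x - c * (d : F) = 0) ↔ (x = c * (d : F) - (a : F) * c) := by
        constructor
        · intro h; linear_combination h
        · intro h; linear_combination h
      simp only [hiff]
    simp only [hval, map_add, map_sum, mul_add, Finset.sum_add_distrib, Finset.mul_sum]
    congr 1
    · simp only [Finset.sum_const, Finset.card_univ, nsmul_eq_mul, map_mul]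
      ring
    · rw [Finset.sum_comm]
      have : ∀ c : F, ∑ x : F, α a * β d *
          conj (if x = c * (d : F) - (a : F) * c then α' d * β' a else 0) =
          α a * β d * conj (α' d * β' a) := by
        intro c
        have h2 : ∀ x : F, α a * β d *
            conj (if x = c * (d : F) - (a : F) * c then α' d * β' a else 0) =
            if x = c * (d : F) - (a : F) * c then α a * β d * conj (α' d * β' a) else 0 := by
          intro x
          split_ifs <;> simp
        simp only [h2, Finset.sum_ite_eq', Finset.mem_univ, if_true]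
      simp only [this, Finset.sum_const, Finset.card_univ, nsmul_eq_mul, map_mul]
      ring
  simp only [hterm, Finset.sum_add_distrib, ← Finset.mul_sum, ← Finset.sum_mul]
  simp only [sum_units_mul_conj]
  have hq : (Fintype.card F : ℂ) ≠ 0 := by exact_mod_cast Fintype.card_ne_zero
  have hu : (Fintype.card Fˣ : ℂ) ≠ 0 := by exact_mod_cast Fintype.card_ne_zero
  rw [mul_add, ite_mul_ite_aux _ _ _ _ hu hq, ite_mul_ite_aux _ _ _ _ hu hq]

/-- The linear character `λ ∘ det`. -/
noncomputable def detFun (μ : MulChar F ℂ) : GL (Fin 2) F → ℂ :=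
  fun g => μ ((g : Matrix (Fin 2) (Fin 2) F).det)

/-- `detFun` as a monoid homomorphism. -/
noncomputable def detHom (μ : MulChar F ℂ) : GL (Fin 2) F →* ℂ where
  toFun := detFun μ
  map_one' := by simp [detFun]
  map_mul' := fun g h => by simp [detFun]

theorem isCharacter_detFun (μ : MulChar F ℂ) : IsCharacter (GL (Fin 2) F) (detFun μ) :=
  (Cfsg.Agent.Helper15.isCharacter_of_hom (detHom μ)).1

theorem detFun_one (μ : MulChar F ℂ) : detFun μ 1 = 1 := by simp [detFun]

theorem detFun_mul_conj (μ : MulChar F ℂ) (g : GL (Fin 2) F) : detFun μ g * conj (detFun μ g) = 1 := by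
  unfold detFun
  have hdet : (g : Matrix (Fin 2) (Fin 2) F).det ≠ 0 := Matrix.GeneralLinearGroup.det_ne_zero g
  exact Cfsg.Agent.S2306.mulChar_mul_conj μ (Units.mk0 _ hdet)

theorem inner_detFun_self (μ : MulChar F ℂ) : Cfsg.classInner (detFun μ) (detFun μ) = 1 := by
  rw [Cfsg.Agent.Helper15.classInner_apply]
  simp only [detFun_mul_conj, Finset.sum_const, Finset.card_univ, nsmul_eq_mul, mul_one]
  rw [Nat.card_eq_fintype_card, inv_mul_cancel₀]
  exact_mod_cast Fintype.card_ne_zero

theorem isIrrCharacter_detFun (μ : MulChar F ℂ) : IsIrrCharacter (GL (Fin 2) F) (detFun μ) :=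
  Cfsg.Agent.Helper15.isIrrCharacter_of_inner_self_eq_one (isCharacter_detFun μ)
    (inner_detFun_self μ)

theorem isClassFunction_detFun (μ : MulChar F ℂ) : IsClassFunction (GL (Fin 2) F) (detFun μ) :=
  Cfsg.Agent.Helper74.isClassFunction_of_isCharacter (isCharacter_detFun μ)

theorem inner_piFun_detFun (α β μ : MulChar F ℂ) :
    Cfsg.classInner (piFun α β) (detFun μ) = if α = μ ∧ β = μ then 1 else 0 := by
  classical
  rw [inner_piFun α β _ (isClassFunction_detFun μ)]
  have hterm : ∀ (a d : Fˣ), ∑ x : F, α a * β d *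
      conj (detFun μ ((bEltGL (a, d, x) : Cfsg.upperTriangularGL 2 F) : GL (Fin 2) F)) =
      (Fintype.card F : ℂ) * ((α a * conj (μ a)) * (β d * conj (μ d))) := by
    intro a d
    have hval : ∀ x : F, detFun μ ((bEltGL (a, d, x) : Cfsg.upperTriangularGL 2 F) :
        GL (Fin 2) F) = μ a * μ d := by
      intro x
      unfold detFun
      rw [Matrix.det_fin_two, bEltGL_00, bEltGL_01, bEltGL_10, bEltGL_11, mul_zero, sub_zero,
        map_mul]
    simp only [hval, Finset.sum_const, Finset.card_univ, nsmul_eq_mul, map_mul]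
    ring
  simp only [hterm, ← Finset.mul_sum, ← Finset.sum_mul]
  simp only [sum_units_mul_conj]
  have hq : (Fintype.card F : ℂ) ≠ 0 := by exact_mod_cast Fintype.card_ne_zero
  have hu : (Fintype.card Fˣ : ℂ) ≠ 0 := by exact_mod_cast Fintype.card_ne_zero
  rw [ite_mul_ite_aux _ _ _ _ hu hq]

end Fin

end Cfsg.Agent.Helper39
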