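import Cfsg.Agent.Helper39.GL2Table
import Cfsg.Agent.Helper74.CharCount
import Cfsg.Agent.Helper15.CliffordCorr

set_option autoImplicit false

/-!
# Counting the irreducible characters of `GL₂(F)`

The irreducible characters that are not of the form `μ ∘ det`, Steinberg, or principal series
all have degree `q - 1` and take the value `-1` at the transvections.
-/

namespace Cfsg.Agent.Helper39

open Matrix Cfsg
open scoped ComplexConjugate

variable {F : Type*} [Field F] [Fintype F] [DecidableEq F]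

attribute [local instance] mulCharFintype

/-- The Steinberg characters as elements of `IrrCharacter`. -/
noncomputable def stIrr (μ : MulChar F ℂ) : IrrCharacter (GL (Fin 2) F) :=
  ⟨stFun μ, isIrrCharacter_stFun μ⟩

theorem coe_stIrr (μ : MulChar F ℂ) :
    ((stIrr μ : IrrCharacter (GL (Fin 2) F)) : GL (Fin 2) F → ℂ) = stFun μ := rfl

open Classical in
/-- The principal series characters as elements of `IrrCharacter` (junk value on the diagonal). -/
noncomputable def piIrr (p : MulChar F ℂ × MulChar F ℂ) : IrrCharacter (GL (Fin 2) F) :=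
  if h : p.1 ≠ p.2 then ⟨piFun p.1 p.2, isIrrCharacter_piFun p.1 p.2 h⟩ else detIrr 1

theorem coe_piIrr (p : MulChar F ℂ × MulChar F ℂ) (h : p.1 ≠ p.2) :
    ((piIrr p : IrrCharacter (GL (Fin 2) F)) : GL (Fin 2) F → ℂ) = piFun p.1 p.2 := by
  unfold piIrr
  rw [dif_pos h]

theorem piFun_eq_iff (α β α' β' : MulChar F ℂ) :
    piFun α β = piFun α' β' ↔ (α = α' ∧ β = β') ∨ (α = β' ∧ β = α') :=
  Cfsg.Agent.S2305.result α β α' β'

theorem inner_stFun_piFun (α β μ : MulChar F ℂ) :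
    Cfsg.classInner (stFun μ) (piFun α β) = if α = μ ∧ β = μ then 1 else 0 := by
  unfold stFun
  rw [Cfsg.Agent.Helper15.classInner_sub_left, inner_piFun_piFun, inner_detFun_piFun]
  by_cases h : α = μ ∧ β = μ
  · obtain ⟨rfl, rfl⟩ := h
    simp
  · rw [if_neg h]
    have h1 : ¬ (μ = α ∧ μ = β) := fun h' => h ⟨h'.1.symm, h'.2.symm⟩
    have h2 : ¬ (μ = β ∧ μ = α) := fun h' => h ⟨h'.2.symm, h'.1.symm⟩
    rw [if_neg h1, if_neg h2]
    simp

theorem detIrr_injective : Function.Injective (detIrr (F := F)) := by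
  intro μ μ' h
  have h' : detFun μ = detFun μ' := congrArg Subtype.val h
  have h1 := inner_detFun_piFun μ' μ' μ
  rw [h', inner_detFun_piFun] at h1
  by_contra hne
  rw [if_pos ⟨rfl, rfl⟩, if_neg (fun hh => hne hh.1.symm)] at h1
  exact one_ne_zero h1

theorem stIrr_injective : Function.Injective (stIrr (F := F)) := by
  intro μ μ' h
  have h' : stFun μ = stFun μ' := congrArg Subtype.val h
  have h1 := inner_stFun_piFun μ' μ' μ
  rw [h', inner_stFun_piFun] at h1
  by_contra hne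
  rw [if_pos ⟨rfl, rfl⟩, if_neg (fun hh => hne hh.1.symm)] at h1
  exact one_ne_zero h1

theorem piIrr_eq_iff (p p' : MulChar F ℂ × MulChar F ℂ) (h : p.1 ≠ p.2) (h' : p'.1 ≠ p'.2) :
    piIrr p' = piIrr p ↔ (p' = p ∨ p' = p.swap) := by
  rw [Subtype.ext_iff, coe_piIrr p h, coe_piIrr p' h', piFun_eq_iff]
  constructor
  · rintro (⟨h1, h2⟩ | ⟨h1, h2⟩)
    · left; exact Prod.ext h1 h2
    · right; exact Prod.ext h1 h2
  · rintro (rfl | rfl)
    · left; exact ⟨rfl, rfl⟩
    · right; exact ⟨rfl, rfl⟩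

/-! ### Degrees -/

/-- The degree of an irreducible character as a natural number. -/
noncomputable def dg (χ : IrrCharacter (GL (Fin 2) F)) : ℕ := charDegree (χ : GL (Fin 2) F → ℂ)

theorem dg_cast (χ : IrrCharacter (GL (Fin 2) F)) : (dg χ : ℂ) = (χ : GL (Fin 2) F → ℂ) 1 :=
  Cfsg.Agent.Helper74.charDegree_cast (Cfsg.Agent.Helper74.irr_isCharacter χ)

theorem dg_pos (χ : IrrCharacter (GL (Fin 2) F)) : 0 < dg χ := by
  obtain ⟨d, hd, h⟩ := Cfsg.Agent.Helper15.irr_degree_pos χ.2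
  have : (dg χ : ℂ) = (d : ℂ) := by rw [dg_cast, h]
  have h2 : dg χ = d := by exact_mod_cast this
  omega

theorem dg_detIrr (μ : MulChar F ℂ) : dg (detIrr μ) = 1 := by
  have : (dg (detIrr μ) : ℂ) = ((1 : ℕ) : ℂ) := by
    rw [dg_cast, coe_detIrr, detFun_one]; simp
  exact_mod_cast this

theorem dg_stIrr (μ : MulChar F ℂ) : dg (stIrr μ) = Fintype.card F := by
  have : (dg (stIrr μ) : ℂ) = ((Fintype.card F : ℕ) : ℂ) := by
    rw [dg_cast, coe_stIrr, stFun_one]
  exact_mod_cast this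

theorem dg_piIrr (p : MulChar F ℂ × MulChar F ℂ) (h : p.1 ≠ p.2) :
    dg (piIrr p) = Fintype.card F + 1 := by
  have : (dg (piIrr p) : ℂ) = ((Fintype.card F + 1 : ℕ) : ℂ) := by
    rw [dg_cast, coe_piIrr p h, piFun_one]; simp
  exact_mod_cast this

/-! ### Characters orthogonal to the principal series -/

theorem orth_of_not_known (χ : IrrCharacter (GL (Fin 2) F))
    (h1 : ∀ μ : MulChar F ℂ, χ ≠ detIrr μ) (h2 : ∀ μ : MulChar F ℂ, χ ≠ stIrr μ)
    (h3 : ∀ p : MulChar F ℂ × MulChar F ℂ, p.1 ≠ p.2 → χ ≠ piIrr p) (α β : MulChar F ℂ) :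
    Cfsg.classInner (piFun α β) (χ : GL (Fin 2) F → ℂ) = 0 := by
  by_cases h : α = β
  · subst h
    rw [piFun_self_eq, Cfsg.Agent.Helper74.classInner_add_left]
    have e1 : Cfsg.classInner (stFun α) (χ : GL (Fin 2) F → ℂ) = 0 :=
      Cfsg.Agent.Helper74.irr_inner_ne (χ := stIrr α) (ψ := χ) (Ne.symm (h2 α))
    have e2 : Cfsg.classInner (detFun α) (χ : GL (Fin 2) F → ℂ) = 0 :=
      Cfsg.Agent.Helper74.irr_inner_ne (χ := detIrr α) (ψ := χ) (Ne.symm (h1 α))
    rw [e1, e2, add_zero]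
  · have := Cfsg.Agent.Helper74.irr_inner_ne (χ := piIrr (α, β)) (ψ := χ) (Ne.symm (h3 (α, β) h))
    rwa [coe_piIrr _ h] at this

/-- For a character outside the known families, the degree is a positive multiple `(q - 1) n` of
`q - 1`, the value at the transvection is `-n`, and it vanishes on the split regular diagonal
elements. -/
theorem cuspidal_degree (χ : IrrCharacter (GL (Fin 2) F))
    (h1 : ∀ μ : MulChar F ℂ, χ ≠ detIrr μ) (h2 : ∀ μ : MulChar F ℂ, χ ≠ stIrr μ)
    (h3 : ∀ p : MulChar F ℂ × MulChar F ℂ, p.1 ≠ p.2 → χ ≠ piIrr p) :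
    ∃ n : ℕ, 0 < n ∧ dg χ = (Fintype.card F - 1) * n ∧
      (χ : GL (Fin 2) F → ℂ) (uElt F) = -(n : ℂ) := by
  have hv := (orth_values (χ : GL (Fin 2) F → ℂ) (Cfsg.Agent.Helper74.irr_isClassFunction χ)
    (orth_of_not_known χ h1 h2 h3)).1
  rw [← dg_cast] at hv
  obtain ⟨m, hm⟩ : ∃ m : ℕ, Fintype.card F = m + 1 :=
    ⟨Fintype.card F - 1, by have := Fintype.card_pos (α := F); omega⟩
  have hm0 : 0 < m := by have := Fintype.one_lt_card (α := F); omega
  rw [hm] at hv ⊢
  simp only [Nat.add_sub_cancel]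
  push_cast at hv
  have hmC : (m : ℂ) ≠ 0 := by exact_mod_cast hm0.ne'
  -- integrality
  have hint : IsIntegral ℤ ((χ : GL (Fin 2) F → ℂ) (uElt F)) := by
    obtain ⟨k, ρ, -, hρ⟩ := χ.2
    rw [← hρ]
    exact Cfsg.Agent.Helper3.isIntegral_char ρ (uElt F) (isOfFinOrder_of_finite _)
  have hrat : ∃ r : ℚ, (χ : GL (Fin 2) F → ℂ) (uElt F) = r := by
    refine ⟨-(dg χ : ℚ) / m, ?_⟩
    push_cast
    field_simp
    linear_combination hv
  obtain ⟨k, hk⟩ := (IsIntegral.exists_int_iff_exists_rat hint).mp hrat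
  rw [hk] at hv
  have hk' : (dg χ : ℤ) + m * k = 0 := by
    have : ((dg χ : ℤ) : ℂ) + ((m : ℤ) : ℂ) * (k : ℂ) = 0 := by
      push_cast; linear_combination hv
    exact_mod_cast this
  have hdpos := dg_pos χ
  have hkneg : k < 0 := by
    by_contra hk0
    rw [not_lt] at hk0
    have : 0 ≤ (m : ℤ) * k := mul_nonneg (by positivity) hk0
    have : (0 : ℤ) < dg χ := by exact_mod_cast hdpos
    omega
  refine ⟨k.natAbs, Int.natAbs_pos.mpr hkneg.ne, ?_, ?_⟩
  · have : (dg χ : ℤ) = m * (k.natAbs : ℤ) := by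
      rw [Int.natCast_natAbs, abs_of_neg hkneg]
      linear_combination hk'
    exact_mod_cast this
  · rw [hk]
    have h5 : (k.natAbs : ℤ) = -k := by
      rw [Int.natCast_natAbs, abs_of_neg hkneg]
    have h6 : ((k.natAbs : ℤ) : ℂ) = ((-k : ℤ) : ℂ) := by rw [h5]
    rw [Int.cast_natCast, Int.cast_neg] at h6
    rw [h6]
    ring

/-! ### Counting -/

omit [Field F] [Fintype F] [DecidableEq F] in
theorem sum_image_two_to_one {ι κ : Type*} [DecidableEq ι] [DecidableEq κ] (s : Finset ι)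
    (f : ι → κ) (σ : ι → ι) (hσ : ∀ i ∈ s, σ i ∈ s ∧ σ i ≠ i)
    (hf : ∀ i ∈ s, ∀ j ∈ s, f j = f i ↔ (j = i ∨ j = σ i)) (g : κ → ℕ) :
    2 * ∑ k ∈ s.image f, g k = ∑ i ∈ s, g (f i) := by
  rw [Finset.mul_sum]
  apply Finset.sum_image'
  intro i hi
  have hfil : s.filter (fun j => f j = f i) = {i, σ i} := by
    ext j
    simp only [Finset.mem_filter, Finset.mem_insert, Finset.mem_singleton]
    constructor
    · rintro ⟨hj, h⟩
      exact (hf i hi j hj).mp h
    · rintro (rfl | rfl)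
      · exact ⟨hi, rfl⟩
      · exact ⟨(hσ i hi).1, (hf i hi _ (hσ i hi).1).mpr (Or.inr rfl)⟩
  rw [hfil, Finset.sum_pair (hσ i hi).2.symm]
  have h2 : f (σ i) = f i := (hf i hi _ (hσ i hi).1).mpr (Or.inr rfl)
  rw [h2]
  ring

section counting

variable [Fintype (IrrCharacter (GL (Fin 2) F))] [DecidableEq (IrrCharacter (GL (Fin 2) F))]

omit [DecidableEq (IrrCharacter (GL (Fin 2) F))] in
theorem card_irr : Fintype.card (IrrCharacter (GL (Fin 2) F)) = Fintype.card F ^ 2 - 1 := by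
  rw [← Nat.card_eq_fintype_card, Cfsg.Agent.Helper74.card_irr_eq_card_conjClasses,
    Cfsg.Agent.S2330.result]

omit [DecidableEq (IrrCharacter (GL (Fin 2) F))] in
theorem sum_dg_sq :
    ∑ χ : IrrCharacter (GL (Fin 2) F), dg χ ^ 2 = Nat.card (GL (Fin 2) F) := by
  have h := Cfsg.Agent.Helper74.sum_irr_degree_sq (G := GL (Fin 2) F)
  have h2 : ((∑ χ : IrrCharacter (GL (Fin 2) F), dg χ ^ 2 : ℕ) : ℂ) =
      (Nat.card (GL (Fin 2) F) : ℂ) := by
    rw [← h]
    push_cast
    refine Finset.sum_congr rfl fun χ _ => ?_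
    rw [dg_cast]
    ring
  exact_mod_cast h2

omit [Fintype (IrrCharacter (GL (Fin 2) F))] [DecidableEq (IrrCharacter (GL (Fin 2) F))] in
theorem card_GL2 (m : ℕ) (hm : Fintype.card F = m + 1) :
    Nat.card (GL (Fin 2) F) = m ^ 2 * (m + 1) * (m + 2) := by
  rw [Matrix.card_GL_field, Fin.prod_univ_two, hm]
  have h1 : (m + 1) ^ 2 - (m + 1) ^ ((0 : Fin 2) : ℕ) = m ^ 2 + 2 * m := by
    apply Nat.sub_eq_of_eq_add
    simp
    ring
  have h2 : (m + 1) ^ 2 - (m + 1) ^ ((1 : Fin 2) : ℕ) = m ^ 2 + m := by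
    apply Nat.sub_eq_of_eq_add
    simp
    ring
  rw [h1, h2]
  ring

/-- The set of known irreducible characters. -/
noncomputable def knownSet (F : Type*) [Field F] [Fintype F] [DecidableEq F]
    [DecidableEq (IrrCharacter (GL (Fin 2) F))] : Finset (IrrCharacter (GL (Fin 2) F)) :=
  (Finset.univ.image detIrr ∪ Finset.univ.image stIrr) ∪
    (Finset.univ : Finset (MulChar F ℂ)).offDiag.image piIrr

omit [Fintype (IrrCharacter (GL (Fin 2) F))] in
theorem sum_knownSet (f : IrrCharacter (GL (Fin 2) F) → ℕ) :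
    2 * ∑ χ ∈ knownSet F, f χ = 2 * ∑ μ : MulChar F ℂ, f (detIrr μ) +
      2 * ∑ μ : MulChar F ℂ, f (stIrr μ) +
      ∑ p ∈ (Finset.univ : Finset (MulChar F ℂ)).offDiag, f (piIrr p) := by
  have hq := Fintype.one_lt_card (α := F)
  unfold knownSet
  rw [Finset.sum_union, Finset.sum_union, Finset.sum_image (fun _ _ _ _ h => detIrr_injective h),
    Finset.sum_image (fun _ _ _ _ h => stIrr_injective h), mul_add, mul_add]
  · congr 1
    apply sum_image_two_to_one _ _ Prod.swap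
    · intro p hp
      rw [Finset.mem_offDiag] at hp ⊢
      refine ⟨⟨Finset.mem_univ _, Finset.mem_univ _, fun h => hp.2.2 h.symm⟩, ?_⟩
      intro h
      exact hp.2.2 (congrArg Prod.snd h)
    · intro p hp p' hp'
      rw [Finset.mem_offDiag] at hp hp'
      exact piIrr_eq_iff p p' hp.2.2 hp'.2.2
  · rw [Finset.disjoint_left]
    intro χ h1 h2
    obtain ⟨μ, -, rfl⟩ := Finset.mem_image.mp h1
    obtain ⟨μ', -, h⟩ := Finset.mem_image.mp h2
    have := congrArg dg h
    rw [dg_detIrr, dg_stIrr] at this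
    omega
  · rw [Finset.disjoint_left]
    intro χ h1 h2
    obtain ⟨p, hp, h⟩ := Finset.mem_image.mp h2
    rw [Finset.mem_offDiag] at hp
    have hd := congrArg dg h
    rw [dg_piIrr p hp.2.2] at hd
    rcases Finset.mem_union.mp h1 with h1 | h1
    · obtain ⟨μ, -, rfl⟩ := Finset.mem_image.mp h1
      rw [dg_detIrr] at hd
      omega
    · obtain ⟨μ, -, rfl⟩ := Finset.mem_image.mp h1
      rw [dg_stIrr] at hd
      omega

omit [Fintype (IrrCharacter (GL (Fin 2) F))] in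
theorem not_mem_knownSet {χ : IrrCharacter (GL (Fin 2) F)} (hχ : χ ∉ knownSet F) :
    (∀ μ : MulChar F ℂ, χ ≠ detIrr μ) ∧ (∀ μ : MulChar F ℂ, χ ≠ stIrr μ) ∧
      (∀ p : MulChar F ℂ × MulChar F ℂ, p.1 ≠ p.2 → χ ≠ piIrr p) := by
  unfold knownSet at hχ
  simp only [Finset.mem_union, Finset.mem_image, Finset.mem_univ, true_and, Finset.mem_offDiag,
    not_or, not_exists, not_and] at hχ
  refine ⟨fun μ h => hχ.1.1 μ h.symm, fun μ h => hχ.1.2 μ h.symm, fun p hp h => hχ.2 p hp h.symm⟩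

theorem dg_of_not_mem_knownSet {χ : IrrCharacter (GL (Fin 2) F)} (hχ : χ ∉ knownSet F) :
    dg χ = Fintype.card F - 1 := by
  obtain ⟨m, hm⟩ : ∃ m : ℕ, Fintype.card F = m + 1 :=
    ⟨Fintype.card F - 1, by have := Fintype.card_pos (α := F); omega⟩
  have hm0 : 0 < m := by have := Fintype.one_lt_card (α := F); omega
  have hcardM : Fintype.card (MulChar F ℂ) = m := by
    rw [card_mulChar, Fintype.card_units, hm, Nat.add_sub_cancel]
  have hR : ∀ ψ ∈ (knownSet F)ᶜ, m ^ 2 ≤ dg ψ ^ 2 := by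
    intro ψ hψ
    rw [Finset.mem_compl] at hψ
    obtain ⟨h1, h2, h3⟩ := not_mem_knownSet hψ
    obtain ⟨n, hn, hdg, -⟩ := cuspidal_degree ψ h1 h2 h3
    rw [hdg, hm, Nat.add_sub_cancel]
    exact Nat.pow_le_pow_left (Nat.le_mul_of_pos_right _ hn) 2
  have e1 := sum_knownSet (F := F) (fun _ => 1)
  have e2 := sum_knownSet (F := F) (fun χ => dg χ ^ 2)
  have c1 := Finset.sum_add_sum_compl (knownSet F) (fun _ => (1 : ℕ))
  have c2 := Finset.sum_add_sum_compl (knownSet F) (fun χ => dg χ ^ 2)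
  have hA : m * m - m + m = m * m := Nat.sub_add_cancel (Nat.le_mul_self m)
  have hq2 : (m + 1) ^ 2 - 1 = m ^ 2 + 2 * m := by
    apply Nat.sub_eq_of_eq_add
    ring
  simp only [Finset.sum_const, smul_eq_mul, mul_one, Finset.card_univ, Finset.offDiag_card,
    hcardM, card_irr, hm, hq2] at e1 c1
  rw [sum_dg_sq, card_GL2 m hm] at c2
  have e2' : 2 * ∑ χ ∈ knownSet F, dg χ ^ 2 =
      2 * (m * 1) + 2 * (m * (m + 1) ^ 2) + (m * m - m) * (m + 2) ^ 2 := by
    rw [e2]
    congr 1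
    · congr 1
      · congr 1
        rw [Finset.sum_congr rfl (fun μ _ => by rw [dg_detIrr]), Finset.sum_const,
          Finset.card_univ, hcardM, smul_eq_mul]
        ring
      · congr 1
        rw [Finset.sum_congr rfl (fun μ _ => by rw [dg_stIrr, hm]), Finset.sum_const,
          Finset.card_univ, hcardM, smul_eq_mul]
    · have : ∀ p ∈ (Finset.univ : Finset (MulChar F ℂ)).offDiag, dg (piIrr p) ^ 2 = (m + 2) ^ 2 := by
        intro p hp
        rw [Finset.mem_offDiag] at hp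
        rw [dg_piIrr p hp.2.2, hm]
      rw [Finset.sum_congr rfl this, Finset.sum_const, Finset.offDiag_card, Finset.card_univ,
        hcardM, smul_eq_mul]
  have key : ∑ ψ ∈ (knownSet F)ᶜ, m ^ 2 = ∑ ψ ∈ (knownSet F)ᶜ, dg ψ ^ 2 := by
    rw [Finset.sum_const, smul_eq_mul]
    set A := m * m - m
    set k := (knownSet F).card
    set r := (knownSet F)ᶜ.card
    set SK := ∑ χ ∈ knownSet F, dg χ ^ 2
    set S := ∑ ψ ∈ (knownSet F)ᶜ, dg ψ ^ 2
    zify at e1 c1 c2 e2' hA ⊢
    have : 2 * ((r : ℤ) * (m : ℤ) ^ 2) = 2 * (S : ℤ) := by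
      linear_combination (m : ℤ) ^ 2 * (2 * c1 - e1) - (2 * c2 - e2') + (4 * (m : ℤ) + 4) * hA
    linarith
  have := (Finset.sum_eq_sum_iff_of_le hR).mp key χ (Finset.mem_compl.mpr hχ)
  rw [hm, Nat.add_sub_cancel]
  exact (Nat.pow_left_injective (n := 2) (by norm_num) this).symm

end counting

/-! ### The classification by families -/

omit [Fintype F] [DecidableEq F] in
theorem eq_bEltGL_of_diag (g : GL (Fin 2) F)
    (h01 : (g : Matrix (Fin 2) (Fin 2) F) 0 1 = 0) (h10 : (g : Matrix (Fin 2) (Fin 2) F) 1 0 = 0) :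
    ∃ a d : Fˣ, (a : F) = (g : Matrix (Fin 2) (Fin 2) F) 0 0 ∧
      (d : F) = (g : Matrix (Fin 2) (Fin 2) F) 1 1 ∧
      g = ((bEltGL (a, d, (0 : F)) : Cfsg.upperTriangularGL 2 F) : GL (Fin 2) F) := by
  have hdet : (g : Matrix (Fin 2) (Fin 2) F).det ≠ 0 := Matrix.GeneralLinearGroup.det_ne_zero _
  rw [Matrix.det_fin_two, h10, mul_zero, sub_zero] at hdet
  have h0 : (g : Matrix (Fin 2) (Fin 2) F) 0 0 ≠ 0 := left_ne_zero_of_mul hdet
  have h1 : (g : Matrix (Fin 2) (Fin 2) F) 1 1 ≠ 0 := right_ne_zero_of_mul hdet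
  refine ⟨Units.mk0 _ h0, Units.mk0 _ h1, rfl, rfl, ?_⟩
  apply Matrix.GeneralLinearGroup.ext
  intro i j
  fin_cases i <;> fin_cases j
  · rfl
  · exact h01
  · exact h10
  · rfl

omit [Fintype F] [DecidableEq F] in
theorem eq_uElt (u : GL (Fin 2) F) (hu : (u : Matrix (Fin 2) (Fin 2) F) = !![1, 1; 0, 1]) :
    u = uElt F := by
  apply Matrix.GeneralLinearGroup.ext
  intro i j
  rw [hu]
  fin_cases i <;> fin_cases j <;> simp [uElt, bEltGL, Matrix.GeneralLinearGroup.mkOfDetNeZero]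

/-- Every irreducible character of `GL₂(F)` is `μ ∘ det`, a Steinberg character `St ⊗ μ ∘ det`,
a principal series character, or has degree `q - 1`, value `-1` at the transvection, and vanishes
at the diagonal matrices with distinct entries. -/
theorem classification (χ : GL (Fin 2) F → ℂ) (hχ : IsIrrCharacter (GL (Fin 2) F) χ) :
    (∃ μ : MulChar F ℂ, χ = detFun μ) ∨ (∃ μ : MulChar F ℂ, χ = stFun μ) ∨
    (∃ α β : MulChar F ℂ, α ≠ β ∧ χ = piFun α β) ∨
    (χ 1 = (Fintype.card F : ℂ) - 1 ∧ χ (uElt F) = -1 ∧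
      ∀ g : GL (Fin 2) F, (g : Matrix (Fin 2) (Fin 2) F) 0 1 = 0 →
        (g : Matrix (Fin 2) (Fin 2) F) 1 0 = 0 →
        (g : Matrix (Fin 2) (Fin 2) F) 0 0 ≠ (g : Matrix (Fin 2) (Fin 2) F) 1 1 → χ g = 0) := by
  classical
  letI := Cfsg.Agent.Helper74.irrFintype (GL (Fin 2) F)
  set ψ : IrrCharacter (GL (Fin 2) F) := ⟨χ, hχ⟩ with hψ
  by_cases hk : ψ ∈ knownSet F
  · unfold knownSet at hk
    rcases Finset.mem_union.mp hk with hk | hk
    · rcases Finset.mem_union.mp hk with hk | hk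
      · obtain ⟨μ, -, h⟩ := Finset.mem_image.mp hk
        left
        exact ⟨μ, (congrArg Subtype.val h).symm⟩
      · obtain ⟨μ, -, h⟩ := Finset.mem_image.mp hk
        right; left
        exact ⟨μ, (congrArg Subtype.val h).symm⟩
    · obtain ⟨p, hp, h⟩ := Finset.mem_image.mp hk
      rw [Finset.mem_offDiag] at hp
      right; right; left
      refine ⟨p.1, p.2, hp.2.2, ?_⟩
      rw [← coe_piIrr p hp.2.2, h]
  · right; right; right
    have hdg := dg_of_not_mem_knownSet hk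
    obtain ⟨h1, h2, h3⟩ := not_mem_knownSet hk
    obtain ⟨n, hn, hdgn, hu⟩ := cuspidal_degree ψ h1 h2 h3
    have hq := Fintype.one_lt_card (α := F)
    have hn1 : n = 1 := by
      rw [hdg] at hdgn
      have hpos : 0 < Fintype.card F - 1 := by omega
      exact (Nat.eq_of_mul_eq_mul_left hpos (by rw [mul_one]; exact hdgn)).symm
    refine ⟨?_, ?_, ?_⟩
    · have := dg_cast ψ
      rw [hdg, Nat.cast_sub (by omega)] at this
      simpa using this.symm
    · have : χ (uElt F) = -((n : ℕ) : ℂ) := hu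
      rw [this, hn1]
      simp
    · intro g h01 h10 hne
      obtain ⟨a, d, ha, hd, rfl⟩ := eq_bEltGL_of_diag g h01 h10
      have had : a ≠ d := by
        intro h
        apply hne
        rw [← ha, ← hd, h]
      exact (orth_values (ψ : GL (Fin 2) F → ℂ) (Cfsg.Agent.Helper74.irr_isClassFunction ψ)
        (orth_of_not_known ψ h1 h2 h3)).2 a d had

end Cfsg.Agent.Helper39
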