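import Cfsg.Agent.Helper39.GL2Borel

set_option autoImplicit false

/-!
# The Steinberg characters of `GL₂(F)` and Fourier inversion on `Fˣ`
-/

namespace Cfsg.Agent.Helper39

open Matrix Cfsg
open scoped ComplexConjugate

variable {F : Type*} [Field F] [Fintype F] [DecidableEq F]

/-- The Steinberg character twisted by `μ ∘ det`. -/
noncomputable def stFun (μ : MulChar F ℂ) : GL (Fin 2) F → ℂ := piFun μ μ - detFun μ

theorem isClassFunction_stFun (μ : MulChar F ℂ) : IsClassFunction (GL (Fin 2) F) (stFun μ) := by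
  intro g h
  unfold stFun
  simp only [Pi.sub_apply]
  rw [isClassFunction_piFun μ μ g h, isClassFunction_detFun μ g h]

theorem inner_detFun_piFun (α β μ : MulChar F ℂ) :
    Cfsg.classInner (detFun μ) (piFun α β) = if α = μ ∧ β = μ then 1 else 0 := by
  rw [← Cfsg.Agent.Helper15.classInner_conj_symm, inner_piFun_detFun]
  split_ifs <;> simp

theorem inner_stFun_self (μ : MulChar F ℂ) : Cfsg.classInner (stFun μ) (stFun μ) = 1 := by
  unfold stFun
  rw [Cfsg.Agent.Helper15.classInner_sub_left, Cfsg.Agent.Helper15.classInner_sub_right,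
    Cfsg.Agent.Helper15.classInner_sub_right, inner_piFun_piFun, inner_piFun_detFun,
    inner_detFun_piFun, inner_detFun_self]
  simp

/-- `detFun μ` as an irreducible character. -/
noncomputable def detIrr (μ : MulChar F ℂ) : IrrCharacter (GL (Fin 2) F) :=
  ⟨detFun μ, isIrrCharacter_detFun μ⟩

theorem coe_detIrr (μ : MulChar F ℂ) :
    ((detIrr μ : IrrCharacter (GL (Fin 2) F)) : GL (Fin 2) F → ℂ) = detFun μ := rfl

theorem isCharacter_stFun (μ : MulChar F ℂ) : IsCharacter (GL (Fin 2) F) (stFun μ) := by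
  classical
  apply Cfsg.Agent.Helper15.isCharacter_of_classFunction_of_inner_nat (isClassFunction_stFun μ)
  intro ψ
  unfold stFun
  rw [Cfsg.Agent.Helper15.classInner_sub_left]
  obtain ⟨n, hn⟩ := Cfsg.Agent.Helper74.isCharacter_inner_irr_nat (isCharacter_piFun μ μ) ψ
  have horth := Cfsg.Agent.Helper74.irr_orthonormal (detIrr μ) ψ
  by_cases hψ : detIrr μ = ψ
  · subst hψ
    refine ⟨0, ?_⟩
    have h1 : Cfsg.classInner (piFun μ μ) ((detIrr μ : IrrCharacter (GL (Fin 2) F)) :
        GL (Fin 2) F → ℂ) = 1 := by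
      rw [coe_detIrr, inner_piFun_detFun μ μ μ]
      simp
    rw [if_pos rfl, coe_detIrr] at horth
    rw [h1, coe_detIrr, horth]
    simp
  · refine ⟨n, ?_⟩
    rw [hn]
    have : Cfsg.classInner (detFun μ) (ψ : GL (Fin 2) F → ℂ) = 0 := by
      have := horth
      rw [if_neg hψ] at this
      exact this
    rw [this, sub_zero]

theorem isIrrCharacter_stFun (μ : MulChar F ℂ) : IsIrrCharacter (GL (Fin 2) F) (stFun μ) :=
  Cfsg.Agent.Helper15.isIrrCharacter_of_inner_self_eq_one (isCharacter_stFun μ)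
    (inner_stFun_self μ)

theorem isIrrCharacter_piFun (α β : MulChar F ℂ) (h : α ≠ β) :
    IsIrrCharacter (GL (Fin 2) F) (piFun α β) := by
  apply Cfsg.Agent.Helper15.isIrrCharacter_of_inner_self_eq_one (isCharacter_piFun α β)
  rw [inner_piFun_piFun]
  simp [h]

theorem piFun_self_eq (μ : MulChar F ℂ) : piFun μ μ = stFun μ + detFun μ := by
  unfold stFun
  simp

/-! ### The dual orthogonality relation and Fourier inversion -/

/-- A `Fintype` structure on the multiplicative characters. -/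
@[reducible] noncomputable def mulCharFintype (F : Type*) [Field F] [Fintype F] : Fintype (MulChar F ℂ) :=
  Fintype.ofFinite _

attribute [local instance] mulCharFintype

theorem card_mulChar : Fintype.card (MulChar F ℂ) = Fintype.card Fˣ := by
  have := MulChar.card_eq_card_units_of_hasEnoughRootsOfUnity F ℂ
  rwa [Nat.card_eq_fintype_card, Nat.card_eq_fintype_card] at this

theorem sum_mulChar_apply_eq_zero {a : F} (ha : a ≠ 1) : ∑ χ : MulChar F ℂ, χ a = 0 := by
  obtain ⟨χ, hχ⟩ := MulChar.exists_apply_ne_one_of_hasEnoughRootsOfUnity F ℂ ha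
  refine eq_zero_of_mul_eq_self_left hχ ?_
  simp only [Finset.mul_sum, ← MulChar.mul_apply]
  exact Fintype.sum_bijective _ (Group.mulLeft_bijective χ) _ _ fun χ' ↦ rfl

theorem sum_mulChar_mul_conj (a a₀ : Fˣ) :
    ∑ χ : MulChar F ℂ, χ a * conj (χ a₀) = if a = a₀ then (Fintype.card Fˣ : ℂ) else 0 := by
  have h : ∀ χ : MulChar F ℂ, χ a * conj (χ a₀) = χ ((a * a₀⁻¹ : Fˣ) : F) := by
    intro χ
    rw [Cfsg.Agent.S2306.conj_mulChar, ← map_mul, Units.val_mul, Units.val_inv_eq_inv_val]
  simp only [h]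
  split_ifs with hc
  · subst hc
    simp [card_mulChar]
  · apply sum_mulChar_apply_eq_zero
    intro h1
    apply hc
    have : a * a₀⁻¹ = 1 := Units.ext (by simpa using h1)
    exact mul_inv_eq_one.mp this

/-- Fourier inversion on `Fˣ`. -/
theorem fourier_inversion (f : Fˣ → ℂ) (h : ∀ α : MulChar F ℂ, ∑ a : Fˣ, α a * f a = 0)
    (a₀ : Fˣ) : f a₀ = 0 := by
  have h1 : ∑ α : MulChar F ℂ, conj (α a₀) * ∑ a : Fˣ, α a * f a = 0 := by
    simp [h]
  have h2 : ∑ α : MulChar F ℂ, conj (α a₀) * ∑ a : Fˣ, α a * f a =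
      ∑ a : Fˣ, (∑ α : MulChar F ℂ, α a * conj (α a₀)) * f a := by
    simp only [Finset.mul_sum, Finset.sum_mul]
    rw [Finset.sum_comm]
    apply Finset.sum_congr rfl
    intro a _
    apply Finset.sum_congr rfl
    intro α _
    ring
  rw [h2] at h1
  simp only [sum_mulChar_mul_conj, ite_mul, zero_mul, Finset.sum_ite_eq', Finset.mem_univ,
    if_true] at h1
  have hu : (Fintype.card Fˣ : ℂ) ≠ 0 := by exact_mod_cast Fintype.card_ne_zero
  exact (mul_eq_zero.mp h1).resolve_left hu

/-- A class function orthogonal to the whole principal series has vanishing sums over the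
unipotent cosets in the upper triangular subgroup. -/
theorem sum_x_eq_zero (χ : GL (Fin 2) F → ℂ) (hχ : IsClassFunction (GL (Fin 2) F) χ)
    (h : ∀ α β : MulChar F ℂ, Cfsg.classInner (piFun α β) χ = 0) (a₀ d₀ : Fˣ) :
    ∑ x : F, χ ((bEltGL (a₀, d₀, x) : Cfsg.upperTriangularGL 2 F) : GL (Fin 2) F) = 0 := by
  have hq : (Fintype.card F : ℂ) ≠ 0 := by exact_mod_cast Fintype.card_ne_zero
  have hu : (Fintype.card Fˣ : ℂ) ≠ 0 := by exact_mod_cast Fintype.card_ne_zero
  have h' : ∀ α β : MulChar F ℂ, ∑ a : Fˣ, ∑ d : Fˣ, ∑ x : F, α a * β d *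
      conj (χ ((bEltGL (a, d, x) : Cfsg.upperTriangularGL 2 F) : GL (Fin 2) F)) = 0 := by
    intro α β
    have := h α β
    rw [inner_piFun α β χ hχ] at this
    exact (mul_eq_zero.mp this).resolve_left (inv_ne_zero (mul_ne_zero hu (mul_ne_zero hu hq)))
  set T : Fˣ → Fˣ → ℂ := fun a d =>
    ∑ x : F, conj (χ ((bEltGL (a, d, x) : Cfsg.upperTriangularGL 2 F) : GL (Fin 2) F)) with hT
  have h'' : ∀ α β : MulChar F ℂ, ∑ a : Fˣ, α a * ∑ d : Fˣ, β d * T a d = 0 := by
    intro α β
    rw [← h' α β]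
    apply Finset.sum_congr rfl
    intro a _
    rw [Finset.mul_sum]
    apply Finset.sum_congr rfl
    intro d _
    rw [hT]
    simp only [Finset.mul_sum]
    apply Finset.sum_congr rfl
    intro x _
    ring
  have h3 : ∀ (β : MulChar F ℂ) (a : Fˣ), ∑ d : Fˣ, β d * T a d = 0 := by
    intro β a
    exact fourier_inversion (fun a => ∑ d : Fˣ, β d * T a d) (fun α => h'' α β) a
  have h4 : T a₀ d₀ = 0 := fourier_inversion (fun d => T a₀ d) (fun β => h3 β a₀) d₀
  have h5 := congrArg conj h4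
  rw [hT] at h5
  simpa using h5

end Cfsg.Agent.Helper39
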