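import Cfsg.Agent.Helper39.GL2Steinberg
import Cfsg.Agent.S2330
import Cfsg.Agent.Helper3.CharVal

set_option autoImplicit false

/-!
# The irreducible characters of `GL₂(F)` by degree

Every irreducible character of `GL₂(F)` is `μ ∘ det`, a Steinberg character, a principal series
character, or has degree `q - 1`, value `-1` at the transvections and vanishes on the diagonal
matrices with distinct entries.
-/

namespace Cfsg.Agent.Helper39

open Matrix Cfsg
open scoped ComplexConjugate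

variable {F : Type*} [Field F] [Fintype F] [DecidableEq F]

attribute [local instance] mulCharFintype

/-! ### Values of the known characters -/

theorem piFun_one (α β : MulChar F ℂ) : piFun α β 1 = (Fintype.card F : ℂ) + 1 := by
  rw [piFun_apply]
  unfold Cfsg.Agent.S2305.indVal
  simp
  ring

theorem piFun_of_unipotent (α β : MulChar F ℂ) (g : GL (Fin 2) F)
    (h00 : (g : Matrix (Fin 2) (Fin 2) F) 0 0 = 1) (h01 : (g : Matrix (Fin 2) (Fin 2) F) 0 1 = 1)
    (h10 : (g : Matrix (Fin 2) (Fin 2) F) 1 0 = 0) (h11 : (g : Matrix (Fin 2) (Fin 2) F) 1 1 = 1) :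
    piFun α β g = 1 := by
  rw [piFun_apply]
  unfold Cfsg.Agent.S2305.indVal
  rw [h00, h01, h10, h11]
  simp

theorem piFun_of_split (α β : MulChar F ℂ) (g : GL (Fin 2) F)
    (h01 : (g : Matrix (Fin 2) (Fin 2) F) 0 1 = 0) (h10 : (g : Matrix (Fin 2) (Fin 2) F) 1 0 = 0)
    (hne : (g : Matrix (Fin 2) (Fin 2) F) 0 0 ≠ (g : Matrix (Fin 2) (Fin 2) F) 1 1) :
    piFun α β g = α ((g : Matrix (Fin 2) (Fin 2) F) 0 0) * β ((g : Matrix (Fin 2) (Fin 2) F) 1 1) +
      α ((g : Matrix (Fin 2) (Fin 2) F) 1 1) * β ((g : Matrix (Fin 2) (Fin 2) F) 0 0) := by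
  rw [piFun_apply]
  unfold Cfsg.Agent.S2305.indVal
  rw [h01, h10]
  simp only [if_true, zero_mul, zero_add, mul_zero, sub_zero, add_zero]
  congr 1
  have : ∀ c : F, ((g : Matrix (Fin 2) (Fin 2) F) 0 0 * c - c * (g : Matrix (Fin 2) (Fin 2) F) 1 1 = 0)
      ↔ c = 0 := by
    intro c
    constructor
    · intro h
      have h' : ((g : Matrix (Fin 2) (Fin 2) F) 0 0 - (g : Matrix (Fin 2) (Fin 2) F) 1 1) * c = 0 := by
        linear_combination h
      rcases mul_eq_zero.mp h' with h'' | h''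
      · exact absurd (sub_eq_zero.mp h'') hne
      · exact h''
    · rintro rfl
      ring
  simp only [this]
  rw [Finset.sum_ite_eq' Finset.univ]
  simp

theorem piFun_of_elliptic (α β : MulChar F ℂ) (g : GL (Fin 2) F)
    (h : ∀ (c : F) (v : Fin 2 → F), v ≠ 0 → (g : Matrix (Fin 2) (Fin 2) F).mulVec v ≠ c • v) :
    piFun α β g = 0 := by
  rw [piFun_apply]
  unfold Cfsg.Agent.S2305.indVal
  have h10 : (g : Matrix (Fin 2) (Fin 2) F) 1 0 ≠ 0 := by
    intro h0
    apply h ((g : Matrix (Fin 2) (Fin 2) F) 0 0) ![1, 0]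
    · intro hv
      have := congrFun hv 0
      simp at this
    · ext i
      fin_cases i <;> simp [Matrix.mulVec, dotProduct, Fin.sum_univ_two, h0]
  rw [if_neg h10, zero_add]
  apply Finset.sum_eq_zero
  intro c _
  rw [if_neg]
  intro hc
  apply h ((g : Matrix (Fin 2) (Fin 2) F) 1 0 * c + (g : Matrix (Fin 2) (Fin 2) F) 1 1) ![c, 1]
  · intro hv
    have := congrFun hv 1
    simp at this
  · ext i
    fin_cases i
    · simp [Matrix.mulVec, dotProduct, Fin.sum_univ_two]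
      linear_combination hc
    · simp [Matrix.mulVec, dotProduct, Fin.sum_univ_two]

theorem stFun_one (μ : MulChar F ℂ) : stFun μ 1 = (Fintype.card F : ℂ) := by
  unfold stFun
  simp [piFun_one, detFun_one]

theorem stFun_of_unipotent (μ : MulChar F ℂ) (g : GL (Fin 2) F)
    (h00 : (g : Matrix (Fin 2) (Fin 2) F) 0 0 = 1) (h01 : (g : Matrix (Fin 2) (Fin 2) F) 0 1 = 1)
    (h10 : (g : Matrix (Fin 2) (Fin 2) F) 1 0 = 0) (h11 : (g : Matrix (Fin 2) (Fin 2) F) 1 1 = 1) :
    stFun μ g = 0 := by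
  unfold stFun
  simp only [Pi.sub_apply]
  rw [piFun_of_unipotent μ μ g h00 h01 h10 h11]
  unfold detFun
  rw [Matrix.det_fin_two, h00, h01, h10, h11]
  simp

theorem stFun_of_split (μ : MulChar F ℂ) (g : GL (Fin 2) F)
    (h01 : (g : Matrix (Fin 2) (Fin 2) F) 0 1 = 0) (h10 : (g : Matrix (Fin 2) (Fin 2) F) 1 0 = 0)
    (hne : (g : Matrix (Fin 2) (Fin 2) F) 0 0 ≠ (g : Matrix (Fin 2) (Fin 2) F) 1 1) :
    stFun μ g = detFun μ g := by
  unfold stFun
  simp only [Pi.sub_apply]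
  rw [piFun_of_split μ μ g h01 h10 hne]
  unfold detFun
  rw [Matrix.det_fin_two, h01, h10, mul_zero, sub_zero, map_mul]
  ring

theorem stFun_of_elliptic (μ : MulChar F ℂ) (g : GL (Fin 2) F)
    (h : ∀ (c : F) (v : Fin 2 → F), v ≠ 0 → (g : Matrix (Fin 2) (Fin 2) F).mulVec v ≠ c • v) :
    stFun μ g = -detFun μ g := by
  unfold stFun
  simp only [Pi.sub_apply]
  rw [piFun_of_elliptic μ μ g h, zero_sub]

theorem norm_detFun (μ : MulChar F ℂ) (g : GL (Fin 2) F) : ‖detFun μ g‖ = 1 := by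
  have h := detFun_mul_conj μ g
  rw [Complex.mul_conj] at h
  have h2 : ((Complex.normSq (detFun μ g) : ℝ) : ℂ) = ((1 : ℝ) : ℂ) := by simpa using h
  have h3 : Complex.normSq (detFun μ g) = 1 := by exact_mod_cast h2
  rw [Complex.normSq_eq_norm_sq] at h3
  have h4 : 0 ≤ ‖detFun μ g‖ := norm_nonneg _
  nlinarith [h3, h4]

/-! ### Conjugacy inside the upper triangular subgroup -/

theorem conj_unipotent (x : F) (hx : x ≠ 0) :
    ∃ h : GL (Fin 2) F, h * ((bEltGL ((1 : Fˣ), (1 : Fˣ), (1 : F)) : Cfsg.upperTriangularGL 2 F) :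
      GL (Fin 2) F) * h⁻¹ =
      ((bEltGL ((1 : Fˣ), (1 : Fˣ), x) : Cfsg.upperTriangularGL 2 F) : GL (Fin 2) F) := by
  refine ⟨Matrix.GeneralLinearGroup.mkOfDetNeZero !![x, 0; 0, 1] (by simp [Matrix.det_fin_two, hx]),
    mul_inv_eq_iff_eq_mul.mpr ?_⟩
  apply Matrix.GeneralLinearGroup.ext
  intro i j
  fin_cases i <;> fin_cases j <;>
    simp [bEltGL, Matrix.GeneralLinearGroup.mkOfDetNeZero, Matrix.mul_apply, Fin.sum_univ_two]

theorem conj_split (a d : Fˣ) (had : a ≠ d) (x : F) :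
    ∃ h : GL (Fin 2) F, h * ((bEltGL (a, d, (0 : F)) : Cfsg.upperTriangularGL 2 F) :
      GL (Fin 2) F) * h⁻¹ =
      ((bEltGL (a, d, x) : Cfsg.upperTriangularGL 2 F) : GL (Fin 2) F) := by
  have hsub : (d : F) - (a : F) ≠ 0 := by
    intro h
    apply had
    exact Units.ext (sub_eq_zero.mp h).symm
  refine ⟨Matrix.GeneralLinearGroup.mkOfDetNeZero !![1, x / ((d : F) - (a : F)); 0, 1]
    (by simp [Matrix.det_fin_two]), mul_inv_eq_iff_eq_mul.mpr ?_⟩
  apply Matrix.GeneralLinearGroup.ext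
  intro i j
  fin_cases i <;> fin_cases j <;>
    simp [bEltGL, Matrix.GeneralLinearGroup.mkOfDetNeZero, Matrix.mul_apply, Fin.sum_univ_two]
  field_simp
  ring

/-- The standard transvection. -/
noncomputable def uElt (F : Type*) [Field F] : GL (Fin 2) F :=
  ((bEltGL ((1 : Fˣ), (1 : Fˣ), (1 : F)) : Cfsg.upperTriangularGL 2 F) : GL (Fin 2) F)

theorem bEltGL_one_one_zero :
    ((bEltGL ((1 : Fˣ), (1 : Fˣ), (0 : F)) : Cfsg.upperTriangularGL 2 F) : GL (Fin 2) F) = 1 := by
  apply Matrix.GeneralLinearGroup.ext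
  intro i j
  fin_cases i <;> fin_cases j <;> simp [bEltGL, Matrix.GeneralLinearGroup.mkOfDetNeZero]

/-! ### Characters orthogonal to the principal series -/

theorem orth_values (χ : GL (Fin 2) F → ℂ) (hχ : IsClassFunction (GL (Fin 2) F) χ)
    (h : ∀ α β : MulChar F ℂ, Cfsg.classInner (piFun α β) χ = 0) :
    (χ 1 + ((Fintype.card F : ℂ) - 1) * χ (uElt F) = 0) ∧
    (∀ a d : Fˣ, a ≠ d →
      χ ((bEltGL (a, d, (0 : F)) : Cfsg.upperTriangularGL 2 F) : GL (Fin 2) F) = 0) := by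
  constructor
  · have h0 := sum_x_eq_zero χ hχ h 1 1
    rw [← Finset.add_sum_erase Finset.univ _ (Finset.mem_univ (0 : F)), bEltGL_one_one_zero] at h0
    have h1 : ∀ x ∈ Finset.univ.erase (0 : F),
        χ ((bEltGL ((1 : Fˣ), (1 : Fˣ), x) : Cfsg.upperTriangularGL 2 F) : GL (Fin 2) F) =
          χ (uElt F) := by
      intro x hx
      obtain ⟨k, hk⟩ := conj_unipotent x (Finset.ne_of_mem_erase hx)
      rw [← hk]
      exact hχ _ k
    rw [Finset.sum_congr rfl h1, Finset.sum_const, Finset.card_erase_of_mem (Finset.mem_univ _),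
      Finset.card_univ, nsmul_eq_mul, Nat.cast_sub Fintype.card_pos] at h0
    simpa using h0
  · intro a d had
    have h0 := sum_x_eq_zero χ hχ h a d
    have h1 : ∀ x ∈ (Finset.univ : Finset F),
        χ ((bEltGL (a, d, x) : Cfsg.upperTriangularGL 2 F) : GL (Fin 2) F) =
          χ ((bEltGL (a, d, (0 : F)) : Cfsg.upperTriangularGL 2 F) : GL (Fin 2) F) := by
      intro x _
      obtain ⟨k, hk⟩ := conj_split a d had x
      rw [← hk]
      exact hχ _ k
    rw [Finset.sum_congr rfl h1, Finset.sum_const, Finset.card_univ, nsmul_eq_mul] at h0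
    have hq : (Fintype.card F : ℂ) ≠ 0 := by exact_mod_cast Fintype.card_ne_zero
    exact (mul_eq_zero.mp h0).resolve_left hq

end Cfsg.Agent.Helper39
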