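import Cfsg.Agent.Helper78.HKDefs

/-!
# Harris–Knörr, piece N3: block induction inside `N` commutes with conjugation (helper39)

For `L ≤ N ⊴ G` and `x` normalizing `L`: if the block `e` of `L` induces (inside `N`) the block
`d` of `N`, then the conjugate block `irrMap (conjAutOf L x hx) '' e` of `L` induces the
conjugate block `conjBlk N x⁻¹ d`.
-/

set_option autoImplicit false
set_option linter.unusedSectionVars false

namespace Cfsg.Agent.Helper39.HKN3

open Cfsg Cfsg.Agent.Helper78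

universe u

variable {G : Type u} [Group G] [Fintype G] {M : Ideal AlgInt} {p : ℕ}

variable (N : Subgroup G) [hN : N.Normal] [Fintype N]

/-- `isPBlock_conjBlk` without the primality assumption on `M`. -/
theorem isPBlock_conjBlk' (x : G) {b : Set (IrrCharacter N)}
    (hb : IsPBlock M b) : IsPBlock M (conjBlk N x b) := by
  obtain ⟨θ₀, rfl⟩ := hb
  refine ⟨Helper16.irrConj N x θ₀, ?_⟩
  ext θ'
  constructor
  · intro h
    have h1 : SameBlock M (θ₀ : N → ℂ) ((Helper16.irrConj N x⁻¹ θ' : IrrCharacter N) : N → ℂ) := h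
    have h2 := Helper16.sameBlock_conjFun N h1 x
    have e : Helper15.conjFun N x ((Helper16.irrConj N x⁻¹ θ' : IrrCharacter N) : N → ℂ) =
        (θ' : N → ℂ) := by
      have := Helper16.irrConj_irrConj N x⁻¹ x θ'
      rw [inv_mul_cancel, Helper16.irrConj_one] at this
      exact congrArg Subtype.val this
    rw [e] at h2
    exact h2
  · intro h
    have h1 : SameBlock M (Helper15.conjFun N x (θ₀ : N → ℂ)) (θ' : N → ℂ) := h
    have h2 := Helper16.sameBlock_conjFun N h1 x⁻¹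
    have e : Helper15.conjFun N x⁻¹ (Helper15.conjFun N x (θ₀ : N → ℂ)) = (θ₀ : N → ℂ) := by
      have := Helper16.irrConj_irrConj N x x⁻¹ θ₀
      rw [mul_inv_cancel, Helper16.irrConj_one] at this
      exact congrArg Subtype.val this
    rw [e] at h2
    exact h2

/-- The induced central character (inside `N`) of a conjugated character of `L` is the induced
central character evaluated at the conjugated element. -/
theorem inducedCentralCharIn_irrMap_conjAutOf (L : Subgroup G) (x : G)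
    (hx : x ∈ Subgroup.normalizer (L : Set G)) (ξ : IrrCharacter ↥L) (g : G) :
    inducedCentralCharIn N L (irrMap (conjAutOf L x hx) ξ : ↥L → ℂ) g =
      inducedCentralCharIn N L (ξ : ↥L → ℂ) (x⁻¹ * g * x) := by
  unfold inducedCentralCharIn
  refine finsum_mem_eq_of_bijOn (conjAutOf L x hx).symm ⟨?_, ?_, ?_⟩ ?_
  · rintro k ⟨y, hy⟩
    refine ⟨⟨x⁻¹ * (y : G) * x, ?_⟩, ?_⟩
    · have := hN.conj_mem (y : G) y.2 x⁻¹
      simpa using this
    · show x⁻¹ * (y : G) * x * (x⁻¹ * (k : G) * x) * (x⁻¹ * (y : G) * x)⁻¹ = x⁻¹ * g * x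
      rw [← hy]
      group
  · exact (conjAutOf L x hx).symm.injective.injOn
  · rintro k₀ ⟨y, hy⟩
    refine ⟨conjAutOf L x hx k₀, ⟨⟨x * (y : G) * x⁻¹, hN.conj_mem (y : G) y.2 x⟩, ?_⟩,
      (conjAutOf L x hx).symm_apply_apply k₀⟩
    show x * (y : G) * x⁻¹ * (x * (k₀ : G) * x⁻¹) * (x * (y : G) * x⁻¹)⁻¹ = g
    have : x * (y : G) * x⁻¹ * (x * (k₀ : G) * x⁻¹) * (x * (y : G) * x⁻¹)⁻¹ =
        x * ((y : G) * (k₀ : G) * (y : G)⁻¹) * x⁻¹ := by group
    rw [this, hy]
    group
  · intro k _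
    rw [irrMap_apply, irrMap_apply, map_one]

theorem isInducedBlockIn_conj (L : Subgroup G) (hLN : L ≤ N) (x : G)
    (hx : x ∈ Subgroup.normalizer (L : Set G)) {e : Set (IrrCharacter ↥L)}
    {d : Set (IrrCharacter ↥N)} (hed : IsInducedBlockIn M N L e d) :
    IsInducedBlockIn M N L (irrMap (conjAutOf L x hx) '' e) (conjBlk N x⁻¹ d) := by
  refine ⟨Helper77.isPBlock_image_irrMap _ hed.1, isPBlock_conjBlk' N x⁻¹ hed.2.1, ?_⟩
  rintro _ ⟨ξ, hξ, rfl⟩ θ' hθ' n
  have hθ : Helper16.irrConj N x θ' ∈ d := by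
    have h : Helper16.irrConj N (x⁻¹)⁻¹ θ' ∈ d := hθ'
    rwa [inv_inv] at h
  have hmem : x⁻¹ * (n : G) * x ∈ N := by
    have := hN.conj_mem (n : G) n.2 x⁻¹
    simpa using this
  have key := hed.2.2 ξ hξ (Helper16.irrConj N x θ') hθ ⟨x⁻¹ * (n : G) * x, hmem⟩
  rw [inducedCentralCharIn_irrMap_conjAutOf N L x hx ξ (n : G)]
  have e1 : (θ' : ↥N → ℂ) =
      Helper15.conjFun N x⁻¹ ((Helper16.irrConj N x θ' : IrrCharacter ↥N) : ↥N → ℂ) := by
    rw [Helper16.irrConj_coe, Helper15.conjFun_inv_conjFun]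
  have e2 : centralChar (θ' : ↥N → ℂ) n =
      centralChar ((Helper16.irrConj N x θ' : IrrCharacter ↥N) : ↥N → ℂ)
        ⟨x⁻¹ * (n : G) * x, hmem⟩ := by
    conv_lhs => rw [e1]
    rw [Helper16.centralChar_conjFun]
    congr 1
    apply Subtype.ext
    simp
  rw [e2]
  exact key

end Cfsg.Agent.Helper39.HKN3
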