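import Cfsg.Agent.Helper39.HalfCount

set_option autoImplicit false

/-!
# A signed version of the degree count for `SL₂(q)`, `q` odd
-/

namespace Cfsg.Agent.Helper39

open Finset

/-- The structure behind `odd_degree_count`: the complement `R` of the known characters. -/
theorem odd_struct {I : Type*} [Fintype I] [DecidableEq I] (d : I → ℕ) (j : ℕ) (hj : 2 ≤ j)
    (hN : Fintype.card I = 2 * j + 5)
    (hT : ∑ χ : I, d χ ^ 2 = (2 * j + 1) * ((2 * j) * (2 * j + 2)))
    (t s h₁ h₂ : I) (P : Finset I)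
    (dt : d t = 1) (ds : d s = 2 * j + 1) (dP : ∀ x ∈ P, d x = 2 * j + 2) (cP : P.card + 1 = j)
    (dh₁ : d h₁ = j + 1) (dh₂ : d h₂ = j + 1) (hh : h₁ ≠ h₂)
    (hcl : ∀ χ, χ = t ∨ χ = s ∨ χ ∈ P ∨ χ = h₁ ∨ χ = h₂ ∨ (d χ ∣ 2 * j ∧ 0 < d χ)) :
    ∃ R : Finset I, (∀ χ ∈ R, d χ = 2 * j ∨ d χ = j) ∧
      (R.filter (fun x => d x = j)).card = 2 ∧ (R.filter (fun x => d x = 2 * j)).card = j ∧
      ∀ f : I → ℤ, ∑ χ : I, f χ = f t + f s + f h₁ + f h₂ + ∑ x ∈ P, f x + ∑ x ∈ R, f x := by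
  have h₂P : h₂ ∉ P := fun h => by have := dP _ h; omega
  have h₁P : h₁ ∉ insert h₂ P := by
    intro h
    rcases mem_insert.mp h with h | h
    · exact hh h
    · have := dP _ h; omega
  have hsP : s ∉ insert h₁ (insert h₂ P) := by
    intro h
    rcases mem_insert.mp h with h | h
    · rw [h] at ds; omega
    · rcases mem_insert.mp h with h | h
      · rw [h] at ds; omega
      · have := dP _ h; omega
  have htP : t ∉ insert s (insert h₁ (insert h₂ P)) := by
    intro h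
    rcases mem_insert.mp h with h | h
    · rw [h] at dt; omega
    · rcases mem_insert.mp h with h | h
      · rw [h] at dt; omega
      · rcases mem_insert.mp h with h | h
        · rw [h] at dt; omega
        · have := dP _ h; omega
  set K : Finset I := insert t (insert s (insert h₁ (insert h₂ P))) with hK
  have cK : K.card = j + 3 := by
    rw [hK, card_insert_of_notMem htP, card_insert_of_notMem hsP, card_insert_of_notMem h₁P,
      card_insert_of_notMem h₂P]
    omega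
  have sK : ∑ x ∈ K, d x ^ 2 =
      1 + (2 * j + 1) ^ 2 + (j + 1) ^ 2 + (j + 1) ^ 2 + P.card * (2 * j + 2) ^ 2 := by
    rw [hK, sum_insert htP, sum_insert hsP, sum_insert h₁P, sum_insert h₂P, dt, ds, dh₁, dh₂,
      sum_congr rfl (fun x hx => by rw [dP x hx] : ∀ x ∈ P, d x ^ 2 = (2 * j + 2) ^ 2),
      sum_const, smul_eq_mul]
    ring
  set R : Finset I := univ \ K with hR
  have cR : R.card = j + 2 := by
    have := card_sdiff_add_card_eq_card (subset_univ K)
    rw [card_univ, hN, cK] at this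
    rw [hR]
    omega
  have sR : ∑ x ∈ R, d x ^ 2 = (2 * j + 1) * (2 * j ^ 2) := by
    have h1 : ∑ x ∈ R, d x ^ 2 + ∑ x ∈ K, d x ^ 2 = ∑ x : I, d x ^ 2 := by
      rw [hR]
      exact sum_sdiff (subset_univ K)
    rw [hT, sK] at h1
    obtain ⟨i, rfl⟩ : ∃ i, j = i + 1 := ⟨j - 1, by omega⟩
    have hP : P.card = i := by omega
    rw [hP] at h1
    have h2 : (2 * (i + 1) + 1) * ((2 * (i + 1)) * (2 * (i + 1) + 2)) =
        (2 * (i + 1) + 1) * (2 * (i + 1) ^ 2) +
        (1 + (2 * (i + 1) + 1) ^ 2 + (i + 1 + 1) ^ 2 + (i + 1 + 1) ^ 2 +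
          i * (2 * (i + 1) + 2) ^ 2) := by ring
    omega
  have hRprop : ∀ χ ∈ R, d χ ∣ 2 * j ∧ 0 < d χ := by
    intro χ hχ
    rw [hR, mem_sdiff] at hχ
    have hn := hχ.2
    rcases hcl χ with rfl | rfl | h | rfl | rfl | h
    · exact absurd (mem_insert_self _ _) hn
    · exact absurd (mem_insert_of_mem (mem_insert_self _ _)) hn
    · exact absurd (mem_insert_of_mem (mem_insert_of_mem (mem_insert_of_mem
        (mem_insert_of_mem h)))) hn
    · exact absurd (mem_insert_of_mem (mem_insert_of_mem (mem_insert_self _ _))) hn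
    · exact absurd (mem_insert_of_mem (mem_insert_of_mem (mem_insert_of_mem
        (mem_insert_self _ _)))) hn
    · exact h
  obtain ⟨hRd, hRj, hR2j⟩ := half_count R d j (by omega) (fun x hx => (hRprop x hx).1)
    (fun x hx => (hRprop x hx).2) cR sR
  refine ⟨R, hRd, hRj, hR2j, ?_⟩
  intro f
  have h1 : ∑ x ∈ R, f x + ∑ x ∈ K, f x = ∑ x : I, f x := by
    rw [hR]
    exact sum_sdiff (subset_univ K)
  rw [← h1, hK, sum_insert htP, sum_insert hsP, sum_insert h₁P, sum_insert h₂P]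
  ring

/-- The signed count: there are characters of degrees `2j` and `2j + 2` with sign `+1`. -/
theorem odd_signed_count {I : Type*} [Fintype I] [DecidableEq I] (d : I → ℕ) (w : I → ℤ) (j : ℕ)
    (hj : 3 ≤ j) (hN : Fintype.card I = 2 * j + 5)
    (hT : ∑ χ : I, d χ ^ 2 = (2 * j + 1) * ((2 * j) * (2 * j + 2)))
    (t s h₁ h₂ : I) (P : Finset I)
    (dt : d t = 1) (ds : d s = 2 * j + 1) (dP : ∀ x ∈ P, d x = 2 * j + 2) (cP : P.card + 1 = j)
    (dh₁ : d h₁ = j + 1) (dh₂ : d h₂ = j + 1) (hh : h₁ ≠ h₂)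
    (hcl : ∀ χ, χ = t ∨ χ = s ∨ χ ∈ P ∨ χ = h₁ ∨ χ = h₂ ∨ (d χ ∣ 2 * j ∧ 0 < d χ))
    (hw : ∀ χ, w χ = 1 ∨ w χ = -1)
    (hsum : ∑ χ : I, w χ * (d χ : ℤ) ^ 2 = 0)
    (wt : w t = 1) (ws : w s = 1) (δ : ℤ) (hδ : δ = 1 ∨ δ = -1) (wh₁ : w h₁ = δ) (wh₂ : w h₂ = δ)
    (wP : 2 * ∑ x ∈ P, w x = -1 - δ) :
    (∃ χ, d χ = 2 * j ∧ w χ = 1) ∧ (∃ χ, d χ = 2 * j + 2 ∧ w χ = 1) := by
  obtain ⟨R, hRd, hRj, hR2j, hsplit⟩ := odd_struct d j (by omega) hN hT t s h₁ h₂ P dt ds dP cP
    dh₁ dh₂ hh hcl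
  have hs := hsplit (fun χ => w χ * (d χ : ℤ) ^ 2)
  simp only at hs
  rw [hsum, dt, ds, dh₁, dh₂, wt, ws, wh₁, wh₂] at hs
  have hPs : ∑ x ∈ P, w x * (d x : ℤ) ^ 2 = (∑ x ∈ P, w x) * ((2 * j + 2 : ℕ) : ℤ) ^ 2 := by
    rw [sum_mul]
    apply sum_congr rfl
    intro x hx
    rw [dP x hx]
  -- split `R`
  set R₂ := R.filter (fun x => d x = 2 * j) with hR₂
  set R₁ := R.filter (fun x => ¬ d x = 2 * j) with hR₁
  have hR₁eq : R₁ = R.filter (fun x => d x = j) := by
    ext x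
    simp only [hR₁, mem_filter]
    constructor
    · rintro ⟨h1, h2⟩
      rcases hRd x h1 with h | h
      · exact absurd h h2
      · exact ⟨h1, h⟩
    · rintro ⟨h1, h2⟩
      exact ⟨h1, by omega⟩
  have hRs : ∑ x ∈ R, w x * (d x : ℤ) ^ 2 =
      (∑ x ∈ R₂, w x) * ((2 * j : ℕ) : ℤ) ^ 2 + (∑ x ∈ R₁, w x) * ((j : ℕ) : ℤ) ^ 2 := by
    rw [← sum_filter_add_sum_filter_not R (fun x => d x = 2 * j), sum_mul, sum_mul]
    congr 1
    · apply sum_congr rfl
      intro x hx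
      rw [(mem_filter.mp hx).2]
    · apply sum_congr rfl
      intro x hx
      obtain ⟨hxR, hne⟩ := mem_filter.mp hx
      rcases hRd x hxR with h | h
      · exact absurd h hne
      · rw [h]
  have cR₁ : R₁.card = 2 := by rw [hR₁eq, hRj]
  have hB : -2 ≤ ∑ x ∈ R₁, w x := by
    have : ∑ x ∈ R₁, (-1 : ℤ) ≤ ∑ x ∈ R₁, w x := by
      apply sum_le_sum
      intro x _
      rcases hw x with h | h <;> rw [h] <;> norm_num
    rw [sum_const, cR₁] at this
    simpa using this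
  have hB' : ∑ x ∈ R₁, w x ≤ 2 := by
    have : ∑ x ∈ R₁, w x ≤ ∑ x ∈ R₁, (1 : ℤ) := by
      apply sum_le_sum
      intro x _
      rcases hw x with h | h <;> rw [h] <;> norm_num
    rw [sum_const, cR₁] at this
    simpa using this
  rw [hPs, hRs] at hs
  set A := ∑ x ∈ R₂, w x with hA
  set B := ∑ x ∈ R₁, w x with hBdef
  set SP := ∑ x ∈ P, w x with hSP
  have hjpos : (0 : ℤ) < (j : ℤ) ^ 2 := by positivity
  have hkey : (j : ℤ) ^ 2 * (2 + 4 * A + B) = 0 := by
    push_cast at hs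
    have : 2 * SP = -1 - δ := wP
    have e : δ * (((j : ℤ) + 1) ^ 2) + δ * (((j : ℤ) + 1) ^ 2) + SP * (2 * (j : ℤ) + 2) ^ 2 =
        -2 * ((j : ℤ) + 1) ^ 2 := by
      have : SP * (2 * (j : ℤ) + 2) ^ 2 = (2 * SP) * (2 * ((j : ℤ) + 1) ^ 2) := by ring
      rw [this, wP]
      ring
    linear_combination (-1 : ℤ) * hs - e
  have hkey' : 2 + 4 * A + B = 0 := by
    rcases mul_eq_zero.mp hkey with h | h
    · exact absurd h hjpos.ne'
    · exact h
  have hA1 : -1 ≤ A := by omega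
  have hSP1 : -1 ≤ SP := by
    rcases hδ with h | h <;> rw [h] at wP <;> omega
  constructor
  · by_contra hcon
    push Not at hcon
    have hall : ∀ x ∈ R₂, w x = -1 := by
      intro x hx
      have hx' := (mem_filter.mp hx).2
      rcases hw x with h | h
      · exact absurd h (hcon x hx')
      · exact h
    have : A = -(j : ℤ) := by
      rw [hA, sum_congr rfl hall, sum_const, hR₂, hR2j]
      simp
    omega
  · by_contra hcon
    push Not at hcon
    have hall : ∀ x ∈ P, w x = -1 := by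
      intro x hx
      rcases hw x with h | h
      · exact absurd h (hcon x (dP x hx))
      · exact h
    have : SP = -(P.card : ℤ) := by
      rw [hSP, sum_congr rfl hall, sum_const]
      simp
    omega

end Cfsg.Agent.Helper39
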