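import Mathlib

set_option autoImplicit false

/-!
# Arithmetic of `{2, 3}`-Hall subgroups (used for S2537)
-/

namespace Cfsg.Agent.Helper39

theorem factorization_two_pow_mul_three_pow (a b p : ℕ) :
    (2 ^ a * 3 ^ b).factorization p = if p = 2 then a else if p = 3 then b else 0 := by
  rw [Nat.factorization_mul (by positivity) (by positivity), Nat.factorization_pow,
    Nat.factorization_pow, Nat.prime_two.factorization, Nat.prime_three.factorization]
  simp only [Finsupp.coe_add, Finsupp.coe_smul, Pi.add_apply, Pi.smul_apply, smul_eq_mul,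
    Finsupp.single_apply]
  by_cases h2 : p = 2
  · subst h2; simp
  · by_cases h3 : p = 3
    · subst h3; simp
    · rw [if_neg (Ne.symm h2), if_neg (Ne.symm h3), if_neg h2, if_neg h3]
      simp

/-- If `H` is a `{2, 3}`-Hall subgroup (order `h`, index `i`) of a group of order `q N / 2` with `q`
prime to `6`, then `2 h` is the `{2, 3}`-part of `N`. -/
theorem hallNat_forward (h i q N : ℕ) (hN : N ≠ 0) (hq2 : ¬ 2 ∣ q) (hq3 : ¬ 3 ∣ q)
    (he : 2 * h * i = q * N) (hpr : ∀ p : ℕ, p.Prime → p ∣ h → p = 2 ∨ p = 3)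
    (hi2 : ¬ 2 ∣ i) (hi3 : ¬ 3 ∣ i) :
    2 * h = 2 ^ N.factorization 2 * 3 ^ N.factorization 3 := by
  have hq0 : q ≠ 0 := by rintro rfl; exact hq2 (dvd_zero 2)
  have hi0 : i ≠ 0 := by rintro rfl; exact hi2 (dvd_zero 2)
  have hh0 : 2 * h ≠ 0 := by
    intro h0
    rw [h0, zero_mul] at he
    exact (mul_ne_zero hq0 hN) he.symm
  have hfac := congrArg Nat.factorization he
  rw [Nat.factorization_mul hh0 hi0, Nat.factorization_mul hq0 hN] at hfac
  apply Nat.eq_of_factorization_eq hh0 (by positivity)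
  intro p
  rw [factorization_two_pow_mul_three_pow]
  have hp := DFunLike.congr_fun hfac p
  simp only [Finsupp.coe_add, Pi.add_apply] at hp
  by_cases h2 : p = 2
  · subst h2
    rw [if_pos rfl]
    rw [Nat.factorization_eq_zero_of_not_dvd hi2, Nat.factorization_eq_zero_of_not_dvd hq2] at hp
    omega
  · rw [if_neg h2]
    by_cases h3 : p = 3
    · subst h3
      rw [if_pos rfl]
      rw [Nat.factorization_eq_zero_of_not_dvd hi3, Nat.factorization_eq_zero_of_not_dvd hq3] at hp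
      omega
    · rw [if_neg h3]
      by_cases hpp : p.Prime
      · apply Nat.factorization_eq_zero_of_not_dvd
        intro hd
        rcases (Nat.Prime.dvd_mul hpp).mp hd with hd | hd
        · exact h2 ((Nat.prime_dvd_prime_iff_eq hpp Nat.prime_two).mp hd)
        · rcases hpr p hpp hd with h | h
          · exact h2 h
          · exact h3 h
      · exact Nat.factorization_eq_zero_of_not_prime _ hpp

/-- Conversely a subgroup of that order is a `{2, 3}`-Hall subgroup. -/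
theorem hallNat_backward (h i q N : ℕ) (hN : N ≠ 0) (hq2 : ¬ 2 ∣ q) (hq3 : ¬ 3 ∣ q)
    (he : 2 * h * i = q * N) (hT : 2 * h = 2 ^ N.factorization 2 * 3 ^ N.factorization 3) :
    (∀ p : ℕ, p.Prime → p ∣ h → p = 2 ∨ p = 3) ∧ ¬ 2 ∣ i ∧ ¬ 3 ∣ i := by
  refine ⟨?_, ?_, ?_⟩
  · intro p hp hd
    have hd' : p ∣ 2 ^ N.factorization 2 * 3 ^ N.factorization 3 := by
      rw [← hT]; exact Dvd.dvd.mul_left hd 2
    rcases (Nat.Prime.dvd_mul hp).mp hd' with hd' | hd'
    · left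
      exact (Nat.prime_dvd_prime_iff_eq hp Nat.prime_two).mp (hp.dvd_of_dvd_pow hd')
    · right
      exact (Nat.prime_dvd_prime_iff_eq hp Nat.prime_three).mp (hp.dvd_of_dvd_pow hd')
  · rintro ⟨i', rfl⟩
    apply Nat.pow_succ_factorization_not_dvd hN Nat.prime_two
    have hcop : Nat.Coprime (2 ^ (N.factorization 2 + 1)) q :=
      Nat.Coprime.pow_left _ ((Nat.Prime.coprime_iff_not_dvd Nat.prime_two).mpr hq2)
    apply hcop.dvd_of_dvd_mul_left
    rw [← he, hT]
    exact ⟨3 ^ N.factorization 3 * i', by ring⟩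
  · rintro ⟨i', rfl⟩
    apply Nat.pow_succ_factorization_not_dvd hN Nat.prime_three
    have hcop : Nat.Coprime (3 ^ (N.factorization 3 + 1)) q :=
      Nat.Coprime.pow_left _ ((Nat.Prime.coprime_iff_not_dvd Nat.prime_three).mpr hq3)
    apply hcop.dvd_of_dvd_mul_left
    rw [← he, hT]
    exact ⟨2 ^ N.factorization 2 * i', by ring⟩

/-- For odd `q`, the `2`-part of `q² - 1` does not divide `q ± 1`... more precisely, if `2 ^ a`
divides `q - 1` or `q + 1` with `q` odd then `2 ^ (a + 1)` divides `q ^ 2 - 1`. -/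
theorem two_pow_succ_dvd_sq_sub_one (q a : ℕ) (hq : q % 2 = 1)
    (h : 2 ^ a ∣ q - 1 ∨ 2 ^ a ∣ q + 1) : 2 ^ (a + 1) ∣ q ^ 2 - 1 := by
  have hsq : q ^ 2 - 1 = (q - 1) * (q + 1) := by
    obtain ⟨k, rfl⟩ : ∃ k, q = k + 1 := ⟨q - 1, by omega⟩
    have : (k + 1) ^ 2 = (k + 1 - 1) * (k + 1 + 1) + 1 := by
      simp only [Nat.add_sub_cancel]; ring
    rw [this]; simp
  rw [hsq, pow_succ]
  rcases h with h | h
  · exact Nat.mul_dvd_mul h ((Nat.dvd_iff_mod_eq_zero).mpr (by omega))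
  · rw [mul_comm (2 ^ a) 2]
    exact Nat.mul_dvd_mul ((Nat.dvd_iff_mod_eq_zero).mpr (by omega)) h

/-- For `q` prime to `6`, `24` divides `q ^ 2 - 1`; we record the consequences for the
factorization. -/
theorem three_le_factorization_two (q : ℕ) (hq : q % 2 = 1) (hq1 : 1 < q) :
    3 ≤ (q ^ 2 - 1).factorization 2 := by
  have hN : q ^ 2 - 1 ≠ 0 := by
    have : 1 < q ^ 2 := Nat.one_lt_pow (by norm_num) hq1
    omega
  have h8 : 2 ^ 3 ∣ q ^ 2 - 1 := by
    have h4 : q % 4 = 1 ∨ q % 4 = 3 := by omega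
    rcases h4 with h4 | h4
    · exact two_pow_succ_dvd_sq_sub_one q 2 hq (Or.inl ((Nat.dvd_iff_mod_eq_zero).mpr (by omega)))
    · exact two_pow_succ_dvd_sq_sub_one q 2 hq (Or.inr ((Nat.dvd_iff_mod_eq_zero).mpr (by omega)))
  exact (Nat.Prime.pow_dvd_iff_le_factorization Nat.prime_two hN).mp h8

theorem one_le_factorization_three (q : ℕ) (hq : ¬ 3 ∣ q) (hq1 : 1 < q) :
    1 ≤ (q ^ 2 - 1).factorization 3 := by
  have hN : q ^ 2 - 1 ≠ 0 := by
    have : 1 < q ^ 2 := Nat.one_lt_pow (by norm_num) hq1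
    omega
  have h3 : 3 ^ 1 ∣ q ^ 2 - 1 := by
    have hm : q % 3 = 1 ∨ q % 3 = 2 := by omega
    have h1 := Nat.pow_mod q 2 3
    rw [pow_one]
    apply (Nat.dvd_iff_mod_eq_zero).mpr
    have hq2 : 1 ≤ q ^ 2 := Nat.one_le_pow _ _ (by omega)
    rcases hm with hm | hm
    · rw [hm] at h1; norm_num at h1; omega
    · rw [hm] at h1; norm_num at h1; omega
  exact (Nat.Prime.pow_dvd_iff_le_factorization Nat.prime_three hN).mp h3

theorem sq_sub_one_eq_mul (q : ℕ) (hq : 1 ≤ q) : q ^ 2 - 1 = (q - 1) * (q + 1) := by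
  obtain ⟨k, rfl⟩ : ∃ k, q = k + 1 := ⟨q - 1, by omega⟩
  have : (k + 1) ^ 2 = (k + 1 - 1) * (k + 1 + 1) + 1 := by
    simp only [Nat.add_sub_cancel]; ring
  rw [this]; simp

/-- Index arithmetic for the split torus normalizer. -/
theorem hall_index_arith_minus (q i : ℕ) (h : i * 2 = q * (q + 1)) (h4 : q % 4 = 1)
    (h3 : 3 ∣ q - 1) : ¬ 2 ∣ i ∧ ¬ 3 ∣ i := by
  have hq3 : q % 3 = 1 := by
    obtain ⟨c, hc⟩ := h3
    omega
  constructor
  · rintro ⟨j, rfl⟩
    have h1 : (q * (q + 1)) % 4 = 0 := by rw [← h]; omega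
    have h2 : (q * (q + 1)) % 4 = ((q % 4) * ((q + 1) % 4)) % 4 := Nat.mul_mod _ _ _
    have h5 : (q + 1) % 4 = 2 := by omega
    rw [h4, h5] at h2
    omega
  · rintro ⟨j, rfl⟩
    have h1 : (q * (q + 1)) % 3 = 0 := by rw [← h]; omega
    have h2 : (q * (q + 1)) % 3 = ((q % 3) * ((q + 1) % 3)) % 3 := Nat.mul_mod _ _ _
    have h5 : (q + 1) % 3 = 2 := by omega
    rw [hq3, h5] at h2
    omega

/-- Index arithmetic for the nonsplit torus normalizer. -/
theorem hall_index_arith_plus (q i : ℕ) (h : i * 2 = q * (q - 1)) (h4 : q % 4 = 3)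
    (h3 : 3 ∣ q + 1) : ¬ 2 ∣ i ∧ ¬ 3 ∣ i := by
  have hq3 : q % 3 = 2 := by
    obtain ⟨c, hc⟩ := h3
    omega
  constructor
  · rintro ⟨j, rfl⟩
    have h1 : (q * (q - 1)) % 4 = 0 := by rw [← h]; omega
    have h2 : (q * (q - 1)) % 4 = ((q % 4) * ((q - 1) % 4)) % 4 := Nat.mul_mod _ _ _
    have h5 : (q - 1) % 4 = 2 := by omega
    rw [h4, h5] at h2
    omega
  · rintro ⟨j, rfl⟩
    have h1 : (q * (q - 1)) % 3 = 0 := by rw [← h]; omega
    have h2 : (q * (q - 1)) % 3 = ((q % 3) * ((q - 1) % 3)) % 3 := Nat.mul_mod _ _ _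
    have h5 : (q - 1) % 3 = 1 := by omega
    rw [hq3, h5] at h2
    omega

end Cfsg.Agent.Helper39
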