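import Cfsg.Agent.Helper39.SL2PRegular
import Cfsg.Agent.Helper39.DegreesPSL2
import Cfsg.Agent.Helper16.Quotient
import Cfsg.Agent.Helper78.BlockBasic
import Cfsg.Agent.Helper79.DefectZeroBlock

set_option autoImplicit false

/-!
# The `p`-blocks of `SL₂(q)` in the defining characteristic, `q` odd
-/

namespace Cfsg.Agent.Helper39

open Matrix Cfsg

variable {F : Type*} [Field F] [Fintype F] [DecidableEq F]

omit [Fintype F] [DecidableEq F] in
theorem neg_one_eq_zSL : (-1 : Matrix.SpecialLinearGroup (Fin 2) F) = zSL := by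
  apply sl2_ext
  · rw [zSL_00]; simp
  · rw [zSL_01]; simp
  · rw [zSL_10]; simp
  · rw [zSL_11]; simp

/-- An irreducible character of degree `q` of `SL₂(q)`, `q` odd, is the Steinberg character. -/
theorem eq_Sts_of_degree (hodd : Odd (Fintype.card F))
    (χ : IrrCharacter (Matrix.SpecialLinearGroup (Fin 2) F))
    (h : charDegree (χ : Matrix.SpecialLinearGroup (Fin 2) F → ℂ) = Fintype.card F) :
    (χ : Matrix.SpecialLinearGroup (Fin 2) F → ℂ) = Cfsg.Agent.Helper38.Sts := by
  have hq3 : 3 ≤ Fintype.card F := by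
    have : 2 ≤ Fintype.card F := Fintype.one_lt_card
    obtain ⟨j, hj⟩ := hodd
    omega
  have hc := Cfsg.Agent.Helper74.irr_isCharacter χ
  rcases sl2_irr_cases hodd χ (quadC F) quadC_sq (quadC_ne_one hodd) with
    h' | h' | ⟨γ, hγ, h'⟩ | h' | h'
  · exfalso
    have : charDegree (χ : Matrix.SpecialLinearGroup (Fin 2) F → ℂ) = 1 :=
      Cfsg.Agent.Helper38.charDegree_eq_of_one hc 1 (by rw [h', Cfsg.Agent.Helper38.trivS_apply]; simp)
    omega
  · exact h'
  · exfalso
    have : charDegree (χ : Matrix.SpecialLinearGroup (Fin 2) F → ℂ) = Fintype.card F + 1 :=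
      Cfsg.Agent.Helper38.charDegree_eq_of_one hc _
        (by rw [h', Cfsg.Agent.Helper38.PSs_one]; push_cast; ring)
    omega
  · exfalso
    obtain ⟨χ₁, χ₂, hχ₁, hχ₂, h12, hsum12, hdeg₁, hdeg₂, -⟩ :=
      Cfsg.Agent.S2307.result hodd (quadC F) quadC_sq (quadC_ne_one hodd)
    have hPS0 : Cfsg.Agent.Helper38.PSs (quadC F) = χ₁ + χ₂ := by
      rw [← indFun_theta_eq_PSs]
      exact hsum12
    rw [hPS0, Cfsg.Agent.Helper74.classInner_add_left] at h'
    have hhalf : charDegree (χ : Matrix.SpecialLinearGroup (Fin 2) F → ℂ) =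
        (Fintype.card F + 1) / 2 := by
      by_cases h1 : classInner χ₁ (χ : Matrix.SpecialLinearGroup (Fin 2) F → ℂ) = 0
      · rw [h1, zero_add] at h'
        rw [← eq_of_inner_ne_zero hχ₂ χ.2 h']
        exact Cfsg.Agent.Helper38.charDegree_eq_of_one
          (Cfsg.Agent.Helper74.isCharacter_of_isIrr hχ₂) _ hdeg₂
      · rw [← eq_of_inner_ne_zero hχ₁ χ.2 h1]
        exact Cfsg.Agent.Helper38.charDegree_eq_of_one
          (Cfsg.Agent.Helper74.isCharacter_of_isIrr hχ₁) _ hdeg₁
    omega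
  · exfalso
    rw [h] at h'
    have := Nat.le_of_dvd (by omega) h'
    omega

/-- The degree of a non-Steinberg irreducible character of `SL₂(q)` is prime to `p`. -/
theorem not_dvd_charDegree (p : ℕ) [Fact p.Prime] [CharP F p] (hp2 : p ≠ 2)
    (χ : IrrCharacter (Matrix.SpecialLinearGroup (Fin 2) F))
    (hne : charDegree (χ : Matrix.SpecialLinearGroup (Fin 2) F → ℂ) ≠ Fintype.card F) :
    ¬ p ∣ charDegree (χ : Matrix.SpecialLinearGroup (Fin 2) F → ℂ) := by
  have hp : p.Prime := Fact.out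
  obtain ⟨n, -, hn⟩ := FiniteField.card F p
  have hpq : p ∣ Fintype.card F := by rw [hn]; exact dvd_pow_self p n.ne_zero
  have hodd : Odd (Fintype.card F) := by
    rw [hn]; exact (hp.odd_of_ne_two hp2).pow
  obtain ⟨j, hj⟩ := hodd
  have hp1 : ¬ p ∣ 1 := fun h => hp.one_lt.ne' (Nat.dvd_one.mp h)
  obtain ⟨c, hc⟩ := hpq
  intro hdvd
  rcases sl2_charDegree_list ⟨j, hj⟩ χ.2 with h | h | h | h | h | h
  · rw [h] at hdvd; exact hp1 hdvd
  · exact hne h
  · rw [h] at hdvd
    exact hp1 ((Nat.dvd_add_right ⟨c, hc⟩).mp hdvd)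
  · rw [h] at hdvd
    have h1 : p ∣ Fintype.card F - 1 + 1 := by
      have : Fintype.card F - 1 + 1 = Fintype.card F := by omega
      rw [this]; exact ⟨c, hc⟩
    exact hp1 ((Nat.dvd_add_right hdvd).mp h1)
  · rw [h] at hdvd
    have h1 : p ∣ Fintype.card F + 1 := by
      have : Fintype.card F + 1 = 2 * ((Fintype.card F + 1) / 2) := by omega
      rw [this]; exact Dvd.dvd.mul_left hdvd 2
    exact hp1 ((Nat.dvd_add_right ⟨c, hc⟩).mp h1)
  · rw [h] at hdvd
    have h1 : p ∣ Fintype.card F - 1 := by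
      have : Fintype.card F - 1 = 2 * ((Fintype.card F - 1) / 2) := by omega
      rw [this]; exact Dvd.dvd.mul_left hdvd 2
    have h2 : p ∣ Fintype.card F - 1 + 1 := by
      have : Fintype.card F - 1 + 1 = Fintype.card F := by omega
      rw [this]; exact ⟨c, hc⟩
    exact hp1 ((Nat.dvd_add_right h1).mp h2)

section blocks

variable (p : ℕ) [Fact p.Prime] [CharP F p] (hp2 : p ≠ 2) {M : Ideal AlgInt} (hM : IsPModular p M)

omit [Fintype F] [DecidableEq F] in
theorem index_centralizer_zSL :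
    (Subgroup.centralizer ({zSL} : Set (Matrix.SpecialLinearGroup (Fin 2) F))).index = 1 := by
  have : Subgroup.centralizer ({zSL} : Set (Matrix.SpecialLinearGroup (Fin 2) F)) = ⊤ := by
    rw [Subgroup.centralizer_eq_top_iff_subset]
    intro x hx
    rw [Set.mem_singleton_iff] at hx
    subst hx
    exact zSL_mem_center
  rw [this, Subgroup.index_top]

omit [Fintype F] [DecidableEq F] in
theorem index_centralizer_one :
    (Subgroup.centralizer ({1} : Set (Matrix.SpecialLinearGroup (Fin 2) F))).index = 1 := by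
  have : Subgroup.centralizer ({1} : Set (Matrix.SpecialLinearGroup (Fin 2) F)) = ⊤ := by
    rw [Subgroup.centralizer_eq_top_iff_subset]
    intro x hx
    rw [Set.mem_singleton_iff] at hx
    subst hx
    exact Subgroup.one_mem _
  rw [this, Subgroup.index_top]

omit [DecidableEq F] in
theorem centralChar_zSL (χ : IrrCharacter (Matrix.SpecialLinearGroup (Fin 2) F)) :
    centralChar (χ : Matrix.SpecialLinearGroup (Fin 2) F → ℂ) zSL =
      (csgn (χ : Matrix.SpecialLinearGroup (Fin 2) F → ℂ) : ℂ) := by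
  unfold centralChar
  rw [index_centralizer_zSL, csgn_spec χ.2, Nat.cast_one, one_mul,
    mul_div_assoc, div_self (Cfsg.Agent.Helper79.irr_one_ne_zero χ), mul_one]

omit [DecidableEq F] in
theorem centralChar_one' (χ : IrrCharacter (Matrix.SpecialLinearGroup (Fin 2) F)) :
    centralChar (χ : Matrix.SpecialLinearGroup (Fin 2) F → ℂ) 1 = 1 := by
  unfold centralChar
  rw [index_centralizer_one, Nat.cast_one, one_mul,
    div_self (Cfsg.Agent.Helper79.irr_one_ne_zero χ)]

include hp2 hM in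
/-- Two non-Steinberg irreducible characters with the same central sign lie in the same block. -/
theorem sameBlock_of_csgn_eq (χ ψ : IrrCharacter (Matrix.SpecialLinearGroup (Fin 2) F))
    (hχ : charDegree (χ : Matrix.SpecialLinearGroup (Fin 2) F → ℂ) ≠ Fintype.card F)
    (hψ : charDegree (ψ : Matrix.SpecialLinearGroup (Fin 2) F → ℂ) ≠ Fintype.card F)
    (hs : csgn (χ : Matrix.SpecialLinearGroup (Fin 2) F → ℂ) =
      csgn (ψ : Matrix.SpecialLinearGroup (Fin 2) F → ℂ)) :
    SameBlock M (χ : Matrix.SpecialLinearGroup (Fin 2) F → ℂ)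
      (ψ : Matrix.SpecialLinearGroup (Fin 2) F → ℂ) := by
  classical
  have hp : p.Prime := Fact.out
  have hMp : M.IsPrime := Cfsg.Agent.Helper78.isPrime_of_isPModular hM
  apply Cfsg.Agent.Helper16.sameBlock_of_forall_pRegular hM
  intro g hg
  by_cases hc : g = 1 ∨ g = zSL
  · rcases hc with rfl | rfl
    · rw [centralChar_one', centralChar_one', sub_self]
      exact Cfsg.Agent.Helper78.memLocalIdeal_zero hMp
    · rw [centralChar_zSL, centralChar_zSL, hs, sub_self]
      exact Cfsg.Agent.Helper78.memLocalIdeal_zero hMp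
  · have hidx := dvd_index_centralizer p hp2 g 1 (by rwa [pow_one]) (by rwa [pow_one])
    have key : ∀ φ : IrrCharacter (Matrix.SpecialLinearGroup (Fin 2) F),
        charDegree (φ : Matrix.SpecialLinearGroup (Fin 2) F → ℂ) ≠ Fintype.card F →
        MemLocalIdeal M (centralChar (φ : Matrix.SpecialLinearGroup (Fin 2) F → ℂ) g) := by
      intro φ hφ
      unfold centralChar
      rw [Cfsg.Agent.Helper79.irr_one φ, div_eq_mul_inv, mul_assoc]
      apply Cfsg.Agent.Helper78.memLocalIdeal_mul_right hMp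
      · exact (Cfsg.Agent.Helper78.memLocalIdeal_natCast_iff hM).mpr hidx
      · apply Cfsg.Agent.Helper78.memLocalRing_mul hMp
        · exact Cfsg.Agent.Helper78.memLocalRing_of_isIntegral hMp
            (Cfsg.Agent.Helper80.IsCharacter.isIntegral
              (Cfsg.Agent.Helper74.irr_isCharacter φ) g)
        · apply Cfsg.Agent.Helper78.memLocalRing_inv_natCast hM
          exact ((Nat.Prime.coprime_iff_not_dvd hp).mpr (not_dvd_charDegree p hp2 φ hφ)).symm
    exact Cfsg.Agent.Helper78.memLocalIdeal_sub hMp (key χ hχ) (key ψ hψ)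

omit [DecidableEq F] in
/-- A character of degree `q` of `SL₂(q)` has `p`-defect zero. -/
theorem defect_zero_of_degree (χ : IrrCharacter (Matrix.SpecialLinearGroup (Fin 2) F))
    (hχ : charDegree (χ : Matrix.SpecialLinearGroup (Fin 2) F → ℂ) = Fintype.card F) :
    (charDegree (χ : Matrix.SpecialLinearGroup (Fin 2) F → ℂ)).factorization p =
      (Nat.card (Matrix.SpecialLinearGroup (Fin 2) F)).factorization p := by
  have hp : p.Prime := Fact.out
  obtain ⟨n, -, hn⟩ := FiniteField.card F p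
  have hq1 : 1 < Fintype.card F := Fintype.one_lt_card
  rw [hχ, Cfsg.Agent.Helper5.card_SL2]
  have hq0 : Fintype.card F ≠ 0 := by omega
  have hsq : Fintype.card F ^ 2 - 1 ≠ 0 := by
    have : 1 < Fintype.card F ^ 2 := Nat.one_lt_pow (by norm_num) hq1
    omega
  rw [Nat.factorization_mul hq0 hsq, Finsupp.add_apply]
  have h0 : (Fintype.card F ^ 2 - 1).factorization p = 0 := by
    apply Nat.factorization_eq_zero_of_not_dvd
    intro hdvd
    have hpq2 : p ∣ Fintype.card F ^ 2 := by
      rw [hn, ← pow_mul]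
      exact dvd_pow_self p (by simp [n.ne_zero])
    have h1 : p ∣ Fintype.card F ^ 2 - 1 + 1 := by
      have : Fintype.card F ^ 2 - 1 + 1 = Fintype.card F ^ 2 := by omega
      rw [this]; exact hpq2
    exact hp.one_lt.ne' (Nat.dvd_one.mp ((Nat.dvd_add_right hdvd).mp h1))
  rw [h0, add_zero]

include hp2 hM in
/-- The block of a non-Steinberg character: the non-Steinberg characters with the same central
sign. -/
theorem blockOf_eq_of_degree_ne (χ : IrrCharacter (Matrix.SpecialLinearGroup (Fin 2) F))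
    (hχ : charDegree (χ : Matrix.SpecialLinearGroup (Fin 2) F → ℂ) ≠ Fintype.card F) :
    blockOf M (χ : Matrix.SpecialLinearGroup (Fin 2) F → ℂ) =
      {ψ : IrrCharacter (Matrix.SpecialLinearGroup (Fin 2) F) |
        csgn (ψ : Matrix.SpecialLinearGroup (Fin 2) F → ℂ) =
          csgn (χ : Matrix.SpecialLinearGroup (Fin 2) F → ℂ) ∧
        charDegree (ψ : Matrix.SpecialLinearGroup (Fin 2) F → ℂ) ≠ Fintype.card F} := by
  have hp : p.Prime := Fact.out
  have hMp : M.IsPrime := Cfsg.Agent.Helper78.isPrime_of_isPModular hM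
  ext ψ
  constructor
  · intro h
    have hsb : SameBlock M (χ : Matrix.SpecialLinearGroup (Fin 2) F → ℂ)
        (ψ : Matrix.SpecialLinearGroup (Fin 2) F → ℂ) := h
    have hψ : charDegree (ψ : Matrix.SpecialLinearGroup (Fin 2) F → ℂ) ≠ Fintype.card F := by
      intro hψq
      have := Cfsg.Agent.Helper79.eq_of_sameBlock_of_defect_zero hM ψ χ
        (defect_zero_of_degree p ψ hψq) (Cfsg.Agent.Helper78.sameBlock_symm hsb)
      rw [this] at hχ
      exact hχ hψq
    refine ⟨?_, hψ⟩
    by_contra hne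
    have h1 := hsb zSL
    rw [centralChar_zSL, centralChar_zSL] at h1
    have h2 : (csgn (χ : Matrix.SpecialLinearGroup (Fin 2) F → ℂ) : ℂ) -
        (csgn (ψ : Matrix.SpecialLinearGroup (Fin 2) F → ℂ) : ℂ) = 2 ∨
        (csgn (χ : Matrix.SpecialLinearGroup (Fin 2) F → ℂ) : ℂ) -
        (csgn (ψ : Matrix.SpecialLinearGroup (Fin 2) F → ℂ) : ℂ) = -2 := by
      rcases csgn_cases (χ : Matrix.SpecialLinearGroup (Fin 2) F → ℂ) with e1 | e1 <;>
        rcases csgn_cases (ψ : Matrix.SpecialLinearGroup (Fin 2) F → ℂ) with e2 | e2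
      · exact absurd (e2.trans e1.symm) hne
      · left; rw [e1, e2]; norm_num
      · right; rw [e1, e2]; norm_num
      · exact absurd (e2.trans e1.symm) hne
    have h3 : MemLocalIdeal M ((2 : ℕ) : ℂ) := by
      rcases h2 with h2 | h2
      · rw [h2] at h1; exact_mod_cast h1
      · rw [h2] at h1
        have := Cfsg.Agent.Helper78.memLocalIdeal_neg h1
        rw [neg_neg] at this
        exact_mod_cast this
    have h4 := (Cfsg.Agent.Helper78.memLocalIdeal_natCast_iff hM).mp h3
    exact hp2 ((Nat.prime_dvd_prime_iff_eq hp Nat.prime_two).mp h4)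
  · rintro ⟨hs, hψ⟩
    exact sameBlock_of_csgn_eq p hp2 hM χ ψ hχ hψ hs.symm

/-- The three sets of the statement. -/
def blkSt (F : Type*) [Field F] [Fintype F] :
    Set (IrrCharacter (Matrix.SpecialLinearGroup (Fin 2) F)) :=
  {χ | (χ : Matrix.SpecialLinearGroup (Fin 2) F → ℂ) 1 = (Fintype.card F : ℂ)}

def blkPlus (F : Type*) [Field F] [Fintype F] :
    Set (IrrCharacter (Matrix.SpecialLinearGroup (Fin 2) F)) :=
  {χ | (χ : Matrix.SpecialLinearGroup (Fin 2) F → ℂ) (-1) =
      (χ : Matrix.SpecialLinearGroup (Fin 2) F → ℂ) 1 ∧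
    (χ : Matrix.SpecialLinearGroup (Fin 2) F → ℂ) 1 ≠ (Fintype.card F : ℂ)}

def blkMinus (F : Type*) [Field F] [Fintype F] :
    Set (IrrCharacter (Matrix.SpecialLinearGroup (Fin 2) F)) :=
  {χ | (χ : Matrix.SpecialLinearGroup (Fin 2) F → ℂ) (-1) =
      -(χ : Matrix.SpecialLinearGroup (Fin 2) F → ℂ) 1}

omit [DecidableEq F] in
theorem one_eq_card_iff (χ : IrrCharacter (Matrix.SpecialLinearGroup (Fin 2) F)) :
    (χ : Matrix.SpecialLinearGroup (Fin 2) F → ℂ) 1 = (Fintype.card F : ℂ) ↔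
      charDegree (χ : Matrix.SpecialLinearGroup (Fin 2) F → ℂ) = Fintype.card F := by
  constructor
  · intro h
    exact Cfsg.Agent.Helper38.charDegree_eq_of_one (Cfsg.Agent.Helper74.irr_isCharacter χ) _ h
  · intro h
    rw [Cfsg.Agent.Helper79.irr_one χ, h]

omit [DecidableEq F] in
theorem neg_one_eq_iff (χ : IrrCharacter (Matrix.SpecialLinearGroup (Fin 2) F)) :
    (χ : Matrix.SpecialLinearGroup (Fin 2) F → ℂ) (-1) =
      (χ : Matrix.SpecialLinearGroup (Fin 2) F → ℂ) 1 ↔
      csgn (χ : Matrix.SpecialLinearGroup (Fin 2) F → ℂ) = 1 := by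
  rw [neg_one_eq_zSL, csgn_eq_one_iff]

omit [DecidableEq F] in
theorem neg_one_eq_neg_iff (χ : IrrCharacter (Matrix.SpecialLinearGroup (Fin 2) F)) :
    (χ : Matrix.SpecialLinearGroup (Fin 2) F → ℂ) (-1) =
      -(χ : Matrix.SpecialLinearGroup (Fin 2) F → ℂ) 1 ↔
      csgn (χ : Matrix.SpecialLinearGroup (Fin 2) F → ℂ) = -1 := by
  rw [neg_one_eq_zSL, csgn_spec χ.2]
  have h1 := Cfsg.Agent.Helper79.irr_one_ne_zero χ
  constructor
  · intro h
    rcases csgn_cases (χ : Matrix.SpecialLinearGroup (Fin 2) F → ℂ) with e | e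
    · exfalso
      rw [e] at h
      apply h1
      have : (2 : ℂ) * (χ : Matrix.SpecialLinearGroup (Fin 2) F → ℂ) 1 = 0 := by
        push_cast at h
        linear_combination h
      exact (mul_eq_zero.mp this).resolve_left two_ne_zero
    · exact e
  · intro h
    rw [h]
    push_cast
    ring

/-- The Steinberg character as an element of `IrrCharacter`. -/
noncomputable def StsIrr (F : Type*) [Field F] [Fintype F] [DecidableEq F] :
    IrrCharacter (Matrix.SpecialLinearGroup (Fin 2) F) :=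
  ⟨Cfsg.Agent.Helper38.Sts, Cfsg.Agent.Helper38.isIrr_Sts⟩

/-- The principal character as an element of `IrrCharacter`. -/
noncomputable def trivIrr (F : Type*) [Field F] [Fintype F] [DecidableEq F] :
    IrrCharacter (Matrix.SpecialLinearGroup (Fin 2) F) :=
  ⟨Cfsg.Agent.Helper38.trivS, Cfsg.Agent.Helper38.isIrr_trivS⟩

theorem charDegree_StsIrr :
    charDegree ((StsIrr F : IrrCharacter (Matrix.SpecialLinearGroup (Fin 2) F)) :
      Matrix.SpecialLinearGroup (Fin 2) F → ℂ) = Fintype.card F :=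
  (one_eq_card_iff (StsIrr F)).mp Cfsg.Agent.Helper38.Sts_one

theorem charDegree_trivIrr :
    charDegree ((trivIrr F : IrrCharacter (Matrix.SpecialLinearGroup (Fin 2) F)) :
      Matrix.SpecialLinearGroup (Fin 2) F → ℂ) = 1 :=
  Cfsg.Agent.Helper38.charDegree_eq_of_one (Cfsg.Agent.Helper74.irr_isCharacter _) 1
    (by show Cfsg.Agent.Helper38.trivS (1 : Matrix.SpecialLinearGroup (Fin 2) F) = _
        rw [Cfsg.Agent.Helper38.trivS_apply]; simp)

theorem blkSt_eq (hodd : Odd (Fintype.card F)) : blkSt F = {StsIrr F} := by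
  ext χ
  simp only [blkSt, Set.mem_setOf_eq, Set.mem_singleton_iff]
  rw [one_eq_card_iff]
  constructor
  · intro h
    exact Subtype.ext (eq_Sts_of_degree hodd χ h)
  · rintro rfl
    exact charDegree_StsIrr

theorem blkPlus_eq : blkPlus F =
    {ψ : IrrCharacter (Matrix.SpecialLinearGroup (Fin 2) F) |
      csgn (ψ : Matrix.SpecialLinearGroup (Fin 2) F → ℂ) = 1 ∧
      charDegree (ψ : Matrix.SpecialLinearGroup (Fin 2) F → ℂ) ≠ Fintype.card F} := by
  ext χ
  simp only [blkPlus, Set.mem_setOf_eq]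
  rw [neg_one_eq_iff, Ne, one_eq_card_iff]

theorem blkMinus_eq (hodd : Odd (Fintype.card F)) : blkMinus F =
    {ψ : IrrCharacter (Matrix.SpecialLinearGroup (Fin 2) F) |
      csgn (ψ : Matrix.SpecialLinearGroup (Fin 2) F → ℂ) = -1 ∧
      charDegree (ψ : Matrix.SpecialLinearGroup (Fin 2) F → ℂ) ≠ Fintype.card F} := by
  ext χ
  simp only [blkMinus, Set.mem_setOf_eq]
  rw [neg_one_eq_neg_iff]
  constructor
  · intro h
    refine ⟨h, ?_⟩
    intro hq
    have := eq_Sts_of_degree hodd χ hq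
    rw [this, csgn_Sts] at h
    norm_num at h
  · rintro ⟨h, -⟩
    exact h

/-- There is an irreducible character with central sign `-1`. -/
theorem exists_csgn_neg (h2 : (2 : F) ≠ 0) :
    ∃ χ : IrrCharacter (Matrix.SpecialLinearGroup (Fin 2) F),
      csgn (χ : Matrix.SpecialLinearGroup (Fin 2) F → ℂ) = -1 := by
  classical
  let _ : Fintype (IrrCharacter (Matrix.SpecialLinearGroup (Fin 2) F)) :=
    Cfsg.Agent.Helper74.irrFintype _
  by_contra hne
  push_neg at hne
  have hall : ∀ χ : IrrCharacter (Matrix.SpecialLinearGroup (Fin 2) F),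
      csgn (χ : Matrix.SpecialLinearGroup (Fin 2) F → ℂ) = 1 := fun χ =>
    (csgn_cases _).resolve_right (hne χ)
  have hsum := sum_csgn_mul_sq (F := F) h2
  simp only [hall, one_mul] at hsum
  have hpos : 0 < ∑ χ : IrrCharacter (Matrix.SpecialLinearGroup (Fin 2) F),
      (charDegree (χ : Matrix.SpecialLinearGroup (Fin 2) F → ℂ) : ℤ) ^ 2 := by
    apply Finset.sum_pos
    · intro χ _
      have := Cfsg.Agent.Helper79.irr_charDegree_pos χ
      positivity
    · exact ⟨trivIrr F, Finset.mem_univ _⟩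
  omega

include hp2 in
omit [DecidableEq F] in
theorem odd_card_of_char : Odd (Fintype.card F) := by
  have hp : p.Prime := Fact.out
  obtain ⟨n, -, hn⟩ := FiniteField.card F p
  rw [hn]
  exact (hp.odd_of_ne_two hp2).pow

include hp2 in
omit [Fintype F] [DecidableEq F] in
theorem two_ne_zero_of_char : (2 : F) ≠ 0 := by
  have hp : p.Prime := Fact.out
  intro h
  have h2' : ((2 : ℕ) : F) = 0 := by exact_mod_cast h
  have := (CharP.cast_eq_zero_iff F p 2).mp h2'
  exact hp2 ((Nat.prime_dvd_prime_iff_eq hp Nat.prime_two).mp this)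

include hp2 hM in
/-- The `p`-blocks of `SL₂(q)`, `q` odd, `p ∣ q`. -/
theorem isPBlock_iff (B : Set (IrrCharacter (Matrix.SpecialLinearGroup (Fin 2) F))) :
    IsPBlock M B ↔ B = blkSt F ∨ B = blkPlus F ∨ B = blkMinus F := by
  have hodd : Odd (Fintype.card F) := odd_card_of_char p hp2
  have h2 : (2 : F) ≠ 0 := two_ne_zero_of_char p hp2
  constructor
  · rintro ⟨χ, rfl⟩
    by_cases hq : charDegree (χ : Matrix.SpecialLinearGroup (Fin 2) F → ℂ) = Fintype.card F
    · left
      rw [Cfsg.Agent.Helper79.blockOf_eq_singleton_of_defect_zero hM χ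
        (defect_zero_of_degree p χ hq), blkSt_eq hodd]
      congr 1
      exact Subtype.ext (eq_Sts_of_degree hodd χ hq)
    · rw [blockOf_eq_of_degree_ne p hp2 hM χ hq]
      rcases csgn_cases (χ : Matrix.SpecialLinearGroup (Fin 2) F → ℂ) with e | e
      · right; left
        rw [e, blkPlus_eq]
      · right; right
        rw [e, blkMinus_eq hodd]
  · rintro (rfl | rfl | rfl)
    · refine ⟨StsIrr F, ?_⟩
      rw [Cfsg.Agent.Helper79.blockOf_eq_singleton_of_defect_zero hM (StsIrr F)
        (defect_zero_of_degree p (StsIrr F) charDegree_StsIrr), blkSt_eq hodd]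
    · refine ⟨trivIrr F, ?_⟩
      have hq1 : 1 < Fintype.card F := Fintype.one_lt_card
      rw [blockOf_eq_of_degree_ne p hp2 hM (trivIrr F) (by rw [charDegree_trivIrr]; omega),
        blkPlus_eq]
      have : csgn ((trivIrr F : IrrCharacter (Matrix.SpecialLinearGroup (Fin 2) F)) :
          Matrix.SpecialLinearGroup (Fin 2) F → ℂ) = 1 := csgn_trivS
      rw [this]
    · obtain ⟨χ, hχ⟩ := exists_csgn_neg (F := F) h2
      refine ⟨χ, ?_⟩
      have hq : charDegree (χ : Matrix.SpecialLinearGroup (Fin 2) F → ℂ) ≠ Fintype.card F := by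
        intro hq
        have := eq_Sts_of_degree hodd χ hq
        rw [this, csgn_Sts] at hχ
        norm_num at hχ
      rw [blockOf_eq_of_degree_ne p hp2 hM χ hq, blkMinus_eq hodd, hχ]

omit [DecidableEq F] in
theorem StsIrr_mem_blkSt [DecidableEq F] : StsIrr F ∈ blkSt F := by
  show Cfsg.Agent.Helper38.Sts (1 : Matrix.SpecialLinearGroup (Fin 2) F) = _
  exact Cfsg.Agent.Helper38.Sts_one

include hp2 hM in
theorem card_blocks :
    Nat.card {B : Set (IrrCharacter (Matrix.SpecialLinearGroup (Fin 2) F)) // IsPBlock M B} = 3 := by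
  have hodd : Odd (Fintype.card F) := odd_card_of_char p hp2
  have hset : {B : Set (IrrCharacter (Matrix.SpecialLinearGroup (Fin 2) F)) | IsPBlock M B} =
      {blkSt F, blkPlus F, blkMinus F} := by
    ext B
    simp only [Set.mem_setOf_eq, Set.mem_insert_iff, Set.mem_singleton_iff]
    exact isPBlock_iff p hp2 hM B
  show Nat.card ↥{B : Set (IrrCharacter (Matrix.SpecialLinearGroup (Fin 2) F)) | IsPBlock M B} = 3
  rw [Nat.card_coe_set_eq, hset, Set.ncard_eq_three]
  have hSt1 : StsIrr F ∉ blkPlus F := by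
    rw [blkPlus_eq]
    rintro ⟨-, h⟩
    exact h charDegree_StsIrr
  have hSt2 : StsIrr F ∉ blkMinus F := by
    rw [blkMinus_eq hodd]
    rintro ⟨-, h⟩
    exact h charDegree_StsIrr
  have htr1 : trivIrr F ∈ blkPlus F := by
    have hq1 : 1 < Fintype.card F := Fintype.one_lt_card
    rw [blkPlus_eq]
    refine ⟨csgn_trivS, ?_⟩
    rw [charDegree_trivIrr]; omega
  have htr2 : trivIrr F ∉ blkMinus F := by
    rw [blkMinus_eq hodd]
    rintro ⟨h, -⟩
    have : csgn ((trivIrr F : IrrCharacter (Matrix.SpecialLinearGroup (Fin 2) F)) :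
        Matrix.SpecialLinearGroup (Fin 2) F → ℂ) = 1 := csgn_trivS
    rw [this] at h
    norm_num at h
  refine ⟨blkSt F, blkPlus F, blkMinus F, ?_, ?_, ?_, rfl⟩
  · intro h
    exact hSt1 (h ▸ StsIrr_mem_blkSt)
  · intro h
    exact hSt2 (h ▸ StsIrr_mem_blkSt)
  · intro h
    exact htr2 (h ▸ htr1)

end blocks

section defect

/-- If the coefficient at `1` of the idempotent of `B` is a local unit, then every Sylow
`p`-subgroup is a defect group of `B` (the identity class is a defect class). -/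
theorem isDefectGroup_of_blockCoeff_one {G : Type*} [Group G] (p : ℕ) {M : Ideal AlgInt}
    (hMp : M.IsPrime) (B : Set (IrrCharacter G))
    (h1 : MemLocalRing M (blockCoeff B 1)) (h2 : ¬ MemLocalIdeal M (blockCoeff B 1))
    (hne : ∀ χ ∈ B, (χ : G → ℂ) 1 ≠ 0) (P : Sylow p G) :
    IsDefectGroup p M B (P : Subgroup G) := by
  have htop : Subgroup.centralizer ({1} : Set G) = ⊤ := by
    rw [Subgroup.centralizer_eq_top_iff_subset]
    intro x hx
    rw [Set.mem_singleton_iff] at hx
    subst hx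
    exact Subgroup.one_mem _
  refine ⟨1, ⟨h1, h2, ?_⟩, ?_⟩
  · intro χ hχ
    unfold centralChar
    rw [htop, Subgroup.index_top, Nat.cast_one, one_mul, div_self (hne χ hχ)]
    exact Cfsg.Agent.Helper78.not_memLocalIdeal_one hMp
  · have hle : (P : Subgroup G) ≤ Subgroup.centralizer ({1} : Set G) := by
      rw [htop]; exact le_top
    refine ⟨P.subtype hle, ?_⟩
    rw [Sylow.coe_subtype, Subgroup.map_subgroupOf_eq_of_le hle]

end defect

section coeff

open scoped ComplexConjugate

open Classical in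
theorem blockCoeff_one_eq_sum
    (B : Set (IrrCharacter (Matrix.SpecialLinearGroup (Fin 2) F))) :
    blockCoeff B 1 = (Nat.card (Matrix.SpecialLinearGroup (Fin 2) F) : ℂ)⁻¹ *
      ∑ χ : IrrCharacter (Matrix.SpecialLinearGroup (Fin 2) F),
        if χ ∈ B then ((charDegree (χ : Matrix.SpecialLinearGroup (Fin 2) F → ℂ) : ℕ) : ℂ) ^ 2
        else 0 := by
  rw [Cfsg.Agent.Helper16.blockCoeff_eq_sum]
  congr 1
  apply Finset.sum_congr rfl
  intro χ _
  rw [Cfsg.Agent.Helper79.irr_one χ, Complex.conj_natCast]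
  split_ifs
  · ring
  · ring

theorem sum_sq_cast :
    ∑ χ : IrrCharacter (Matrix.SpecialLinearGroup (Fin 2) F),
      ((charDegree (χ : Matrix.SpecialLinearGroup (Fin 2) F → ℂ) : ℕ) : ℂ) ^ 2 =
      (Nat.card (Matrix.SpecialLinearGroup (Fin 2) F) : ℂ) := by
  have := Cfsg.Agent.Helper38.sum_charDegree_sq_of (G := Matrix.SpecialLinearGroup (Fin 2) F)
  rw [← this]
  push_cast
  rfl

theorem sum_csgn_sq_cast (h2 : (2 : F) ≠ 0) :
    ∑ χ : IrrCharacter (Matrix.SpecialLinearGroup (Fin 2) F),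
      (csgn (χ : Matrix.SpecialLinearGroup (Fin 2) F → ℂ) : ℂ) *
      ((charDegree (χ : Matrix.SpecialLinearGroup (Fin 2) F → ℂ) : ℕ) : ℂ) ^ 2 = 0 := by
  have := sum_csgn_mul_sq (F := F) h2
  have h : ((∑ χ : IrrCharacter (Matrix.SpecialLinearGroup (Fin 2) F),
      csgn (χ : Matrix.SpecialLinearGroup (Fin 2) F → ℂ) *
        (charDegree (χ : Matrix.SpecialLinearGroup (Fin 2) F → ℂ) : ℤ) ^ 2 : ℤ) : ℂ) = 0 := by
    rw [this]; simp
  rw [← h]
  push_cast
  rfl

theorem blockCoeff_blkMinus (hodd : Odd (Fintype.card F)) (h2 : (2 : F) ≠ 0) :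
    blockCoeff (blkMinus F) (1 : Matrix.SpecialLinearGroup (Fin 2) F) = 2⁻¹ := by
  classical
  rw [blockCoeff_one_eq_sum]
  have hterm : ∀ χ : IrrCharacter (Matrix.SpecialLinearGroup (Fin 2) F),
      (if χ ∈ blkMinus F then
        ((charDegree (χ : Matrix.SpecialLinearGroup (Fin 2) F → ℂ) : ℕ) : ℂ) ^ 2 else 0) =
      2⁻¹ * (((charDegree (χ : Matrix.SpecialLinearGroup (Fin 2) F → ℂ) : ℕ) : ℂ) ^ 2 -
        (csgn (χ : Matrix.SpecialLinearGroup (Fin 2) F → ℂ) : ℂ) *
          ((charDegree (χ : Matrix.SpecialLinearGroup (Fin 2) F → ℂ) : ℕ) : ℂ) ^ 2) := by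
    intro χ
    have hmem : χ ∈ blkMinus F ↔ csgn (χ : Matrix.SpecialLinearGroup (Fin 2) F → ℂ) = -1 :=
      neg_one_eq_neg_iff χ
    rcases csgn_cases (χ : Matrix.SpecialLinearGroup (Fin 2) F → ℂ) with e | e
    · rw [if_neg (by rw [hmem, e]; norm_num), e]
      push_cast
      ring
    · rw [if_pos (hmem.mpr e), e]
      push_cast
      ring
  rw [Finset.sum_congr rfl (fun χ _ => hterm χ), ← Finset.mul_sum, Finset.sum_sub_distrib,
    sum_sq_cast, sum_csgn_sq_cast h2, sub_zero]
  have hG : (Nat.card (Matrix.SpecialLinearGroup (Fin 2) F) : ℂ) ≠ 0 := by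
    exact_mod_cast Nat.card_pos.ne'
  field_simp

theorem blockCoeff_blkPlus (hodd : Odd (Fintype.card F)) (h2 : (2 : F) ≠ 0) :
    blockCoeff (blkPlus F) (1 : Matrix.SpecialLinearGroup (Fin 2) F) =
      2⁻¹ - (Fintype.card F : ℂ) ^ 2 *
        (Nat.card (Matrix.SpecialLinearGroup (Fin 2) F) : ℂ)⁻¹ := by
  classical
  rw [blockCoeff_one_eq_sum]
  have hterm : ∀ χ : IrrCharacter (Matrix.SpecialLinearGroup (Fin 2) F),
      (if χ ∈ blkPlus F then
        ((charDegree (χ : Matrix.SpecialLinearGroup (Fin 2) F → ℂ) : ℕ) : ℂ) ^ 2 else 0) =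
      2⁻¹ * (((charDegree (χ : Matrix.SpecialLinearGroup (Fin 2) F → ℂ) : ℕ) : ℂ) ^ 2 +
        (csgn (χ : Matrix.SpecialLinearGroup (Fin 2) F → ℂ) : ℂ) *
          ((charDegree (χ : Matrix.SpecialLinearGroup (Fin 2) F → ℂ) : ℕ) : ℂ) ^ 2) -
      (if χ = StsIrr F then (Fintype.card F : ℂ) ^ 2 else 0) := by
    intro χ
    have hmem : χ ∈ blkPlus F ↔ csgn (χ : Matrix.SpecialLinearGroup (Fin 2) F → ℂ) = 1 ∧
        charDegree (χ : Matrix.SpecialLinearGroup (Fin 2) F → ℂ) ≠ Fintype.card F := by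
      rw [blkPlus_eq]; rfl
    by_cases hSt : χ = StsIrr F
    · subst hSt
      have e : csgn ((StsIrr F : IrrCharacter (Matrix.SpecialLinearGroup (Fin 2) F)) :
          Matrix.SpecialLinearGroup (Fin 2) F → ℂ) = 1 := csgn_Sts
      rw [if_neg (by rw [hmem]; rintro ⟨-, h⟩; exact h charDegree_StsIrr), if_pos rfl, e,
        charDegree_StsIrr]
      push_cast
      ring
    · have hdeg : charDegree (χ : Matrix.SpecialLinearGroup (Fin 2) F → ℂ) ≠ Fintype.card F := by
        intro hq
        exact hSt (Subtype.ext (eq_Sts_of_degree hodd χ hq))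
      rw [if_neg hSt]
      rcases csgn_cases (χ : Matrix.SpecialLinearGroup (Fin 2) F → ℂ) with e | e
      · rw [if_pos (hmem.mpr ⟨e, hdeg⟩), e]
        push_cast
        ring
      · rw [if_neg (by rw [hmem, e]; rintro ⟨h, -⟩; norm_num at h), e]
        push_cast
        ring
  rw [Finset.sum_congr rfl (fun χ _ => hterm χ), Finset.sum_sub_distrib, ← Finset.mul_sum,
    Finset.sum_add_distrib, sum_sq_cast, sum_csgn_sq_cast h2, add_zero,
    Finset.sum_ite_eq' Finset.univ (StsIrr F), if_pos (Finset.mem_univ _)]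
  have hG : (Nat.card (Matrix.SpecialLinearGroup (Fin 2) F) : ℂ) ≠ 0 := by
    exact_mod_cast Nat.card_pos.ne'
  field_simp

end coeff

section defectSL

variable (p : ℕ) [Fact p.Prime] [CharP F p] (hp2 : p ≠ 2) {M : Ideal AlgInt} (hM : IsPModular p M)

include hp2 hM in
omit [Fintype F] [DecidableEq F] [CharP F p] in
theorem half_local : MemLocalRing M ((2 : ℂ)⁻¹) ∧ ¬ MemLocalIdeal M ((2 : ℂ)⁻¹) := by
  have hp : p.Prime := Fact.out
  have hMp : M.IsPrime := Cfsg.Agent.Helper78.isPrime_of_isPModular hM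
  have hcop : Nat.Coprime 2 p := by
    rw [Nat.coprime_primes Nat.prime_two hp]
    exact fun h => hp2 h.symm
  have h1 : MemLocalRing M ((2 : ℂ)⁻¹) := by
    have := Cfsg.Agent.Helper78.memLocalRing_inv_natCast hM hcop
    exact_mod_cast this
  refine ⟨h1, ?_⟩
  intro h
  have h2 : MemLocalRing M ((2 : ℕ) : ℂ) := Cfsg.Agent.Helper78.memLocalRing_natCast hMp 2
  have := Cfsg.Agent.Helper78.memLocalIdeal_mul_left hMp h2 h
  have e : ((2 : ℕ) : ℂ) * (2 : ℂ)⁻¹ = 1 := by norm_num
  rw [e] at this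
  exact Cfsg.Agent.Helper78.not_memLocalIdeal_one hMp this

include hp2 hM in
theorem isDefectGroup_blkMinus (P : Sylow p (Matrix.SpecialLinearGroup (Fin 2) F)) :
    IsDefectGroup p M (blkMinus F) (P : Subgroup (Matrix.SpecialLinearGroup (Fin 2) F)) := by
  have hMp : M.IsPrime := Cfsg.Agent.Helper78.isPrime_of_isPModular hM
  have hodd : Odd (Fintype.card F) := odd_card_of_char p hp2
  have h2 : (2 : F) ≠ 0 := two_ne_zero_of_char p hp2
  obtain ⟨k1, k2⟩ := half_local p hp2 hM
  apply isDefectGroup_of_blockCoeff_one p hMp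
  · rw [blockCoeff_blkMinus hodd h2]; exact k1
  · rw [blockCoeff_blkMinus hodd h2]; exact k2
  · intro χ _
    exact Cfsg.Agent.Helper79.irr_one_ne_zero χ

include hp2 hM in
theorem isDefectGroup_blkPlus (P : Sylow p (Matrix.SpecialLinearGroup (Fin 2) F)) :
    IsDefectGroup p M (blkPlus F) (P : Subgroup (Matrix.SpecialLinearGroup (Fin 2) F)) := by
  have hp : p.Prime := Fact.out
  have hMp : M.IsPrime := Cfsg.Agent.Helper78.isPrime_of_isPModular hM
  have hodd : Odd (Fintype.card F) := odd_card_of_char p hp2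
  have h2 : (2 : F) ≠ 0 := two_ne_zero_of_char p hp2
  obtain ⟨k1, k2⟩ := half_local p hp2 hM
  obtain ⟨n, -, hn⟩ := FiniteField.card F p
  have hpq : p ∣ Fintype.card F := by rw [hn]; exact dvd_pow_self p n.ne_zero
  have hq1 : 1 < Fintype.card F := Fintype.one_lt_card
  -- the correction term lies in the local ideal
  have hx : MemLocalIdeal M ((Fintype.card F : ℂ) ^ 2 *
      (Nat.card (Matrix.SpecialLinearGroup (Fin 2) F) : ℂ)⁻¹) := by
    have hq0 : (Fintype.card F : ℂ) ≠ 0 := by
      have : Fintype.card F ≠ 0 := by omega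
      exact_mod_cast this
    have e : (Fintype.card F : ℂ) ^ 2 *
        (Nat.card (Matrix.SpecialLinearGroup (Fin 2) F) : ℂ)⁻¹ =
        (Fintype.card F : ℂ) * ((Fintype.card F ^ 2 - 1 : ℕ) : ℂ)⁻¹ := by
      rw [Cfsg.Agent.Helper5.card_SL2]
      push_cast
      rw [mul_inv, sq]
      field_simp
    rw [e]
    apply Cfsg.Agent.Helper78.memLocalIdeal_mul_right hMp
    · exact (Cfsg.Agent.Helper78.memLocalIdeal_natCast_iff hM).mpr hpq
    · apply Cfsg.Agent.Helper78.memLocalRing_inv_natCast hM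
      apply Nat.Coprime.symm
      rw [Nat.Prime.coprime_iff_not_dvd hp]
      intro hdvd
      have hpq2 : p ∣ Fintype.card F ^ 2 := Dvd.dvd.trans hpq (dvd_pow_self _ two_ne_zero)
      have h1 : p ∣ Fintype.card F ^ 2 - 1 + 1 := by
        have : 1 ≤ Fintype.card F ^ 2 := Nat.one_le_pow _ _ (by omega)
        have : Fintype.card F ^ 2 - 1 + 1 = Fintype.card F ^ 2 := by omega
        rw [this]; exact hpq2
      exact hp.one_lt.ne' (Nat.dvd_one.mp ((Nat.dvd_add_right hdvd).mp h1))
  apply isDefectGroup_of_blockCoeff_one p hMp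
  · rw [blockCoeff_blkPlus hodd h2]
    exact Cfsg.Agent.Helper78.memLocalRing_sub hMp k1
      (Cfsg.Agent.Helper78.memLocalRing_of_memLocalIdeal hx)
  · rw [blockCoeff_blkPlus hodd h2]
    intro h
    apply k2
    have := Cfsg.Agent.Helper78.memLocalIdeal_add hMp h hx
    rwa [sub_add_cancel] at this
  · intro χ _
    exact Cfsg.Agent.Helper79.irr_one_ne_zero χ

end defectSL

end Cfsg.Agent.Helper39
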