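import Cfsg.Agent.Helper39.McKayGeneral
import Cfsg.Agent.Helper39.SL2Blocks
import Cfsg.Agent.Helper41.SL2Torus
import Cfsg.Agent.Helper41.SL2ClassSum
import Cfsg.Agent.S2437
import Cfsg.Agent.S2431

set_option autoImplicit false

/-!
# The McKay equality for `SL₂(q)`, `q` odd: the two sides (used for S2436)
-/

namespace Cfsg.Agent.Helper39

open Matrix Cfsg

section lhs

variable {F : Type*} [Field F] [Fintype F] [DecidableEq F]

local notation "SL2F" => Matrix.SpecialLinearGroup (Fin 2) F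
local notation "M2F" => Matrix (Fin 2) (Fin 2) F

/-- Counting the irreducible characters of `SL₂(q)`, `q = 2 j + 1 ≥ 5`, whose degree satisfies a
predicate. -/
theorem sl2_card_irr_pred (j : ℕ) (hq : Fintype.card F = 2 * j + 1) (hj : 2 ≤ j) (P : ℕ → Prop)
    [DecidablePred P] :
    Nat.card {χ : IrrCharacter SL2F // P (charDegree (χ : SL2F → ℂ))} +
        (if P (2 * j + 2) then 1 else 0) =
      (if P 1 then 1 else 0) + (if P (2 * j + 1) then 1 else 0) +
        (if P (2 * j + 2) then j else 0) + (if P (2 * j) then j else 0) +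
        (if P (j + 1) then 2 else 0) + (if P j then 2 else 0) := by
  classical
  let _ : Fintype (IrrCharacter SL2F) := Cfsg.Agent.Helper74.irrFintype _
  obtain ⟨hlist, c1, cq, cq1, cqm, ch1, ch2⟩ := sl2_degree_table_odd (F := F) j hq hj
  rw [Nat.card_eq_fintype_card, Fintype.card_subtype, Finset.card_filter]
  have hpt : ∀ χ : IrrCharacter SL2F, (if P (charDegree (χ : SL2F → ℂ)) then 1 else 0) =
      (if charDegree (χ : SL2F → ℂ) = 1 then (if P 1 then 1 else 0) else 0) +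
      (if charDegree (χ : SL2F → ℂ) = 2 * j + 1 then (if P (2 * j + 1) then 1 else 0) else 0) +
      (if charDegree (χ : SL2F → ℂ) = 2 * j + 2 then (if P (2 * j + 2) then 1 else 0) else 0) +
      (if charDegree (χ : SL2F → ℂ) = 2 * j then (if P (2 * j) then 1 else 0) else 0) +
      (if charDegree (χ : SL2F → ℂ) = j + 1 then (if P (j + 1) then 1 else 0) else 0) +
      (if charDegree (χ : SL2F → ℂ) = j then (if P j then 1 else 0) else 0) := by
    intro χ
    rcases hlist χ with h | h | h | h | h | h <;> rw [h]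
    · have e1 : ¬ (1 = 2 * j + 1) := by omega
      have e2 : ¬ (1 = 2 * j + 2) := by omega
      have e3 : ¬ (1 = 2 * j) := by omega
      have e4 : ¬ (1 = j + 1) := by omega
      have e5 : ¬ (1 = j) := by omega
      simp only [if_neg e1, if_neg e2, if_neg e3, if_neg e4, if_neg e5, if_true, add_zero, zero_add]
    · have e1 : ¬ (2 * j + 1 = 1) := by omega
      have e2 : ¬ (2 * j + 1 = 2 * j + 2) := by omega
      have e3 : ¬ (2 * j + 1 = 2 * j) := by omega
      have e4 : ¬ (2 * j + 1 = j + 1) := by omega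
      have e5 : ¬ (2 * j + 1 = j) := by omega
      simp only [if_neg e1, if_neg e2, if_neg e3, if_neg e4, if_neg e5, if_true, add_zero, zero_add]
    · have e1 : ¬ (2 * j + 2 = 1) := by omega
      have e2 : ¬ (2 * j + 2 = 2 * j + 1) := by omega
      have e3 : ¬ (2 * j + 2 = 2 * j) := by omega
      have e4 : ¬ (2 * j + 2 = j + 1) := by omega
      have e5 : ¬ (2 * j + 2 = j) := by omega
      simp only [if_neg e1, if_neg e2, if_neg e3, if_neg e4, if_neg e5, if_true, add_zero, zero_add]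
    · have e1 : ¬ (2 * j = 1) := by omega
      have e2 : ¬ (2 * j = 2 * j + 1) := by omega
      have e3 : ¬ (2 * j = 2 * j + 2) := by omega
      have e4 : ¬ (2 * j = j + 1) := by omega
      have e5 : ¬ (2 * j = j) := by omega
      simp only [if_neg e1, if_neg e2, if_neg e3, if_neg e4, if_neg e5, if_true, add_zero, zero_add]
    · have e1 : ¬ (j + 1 = 1) := by omega
      have e2 : ¬ (j + 1 = 2 * j + 1) := by omega
      have e3 : ¬ (j + 1 = 2 * j + 2) := by omega
      have e4 : ¬ (j + 1 = 2 * j) := by omega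
      have e5 : ¬ (j + 1 = j) := by omega
      simp only [if_neg e1, if_neg e2, if_neg e3, if_neg e4, if_neg e5, if_true, add_zero, zero_add]
    · have e1 : ¬ (j = 1) := by omega
      have e2 : ¬ (j = 2 * j + 1) := by omega
      have e3 : ¬ (j = 2 * j + 2) := by omega
      have e4 : ¬ (j = 2 * j) := by omega
      have e5 : ¬ (j = j + 1) := by omega
      simp only [if_neg e1, if_neg e2, if_neg e3, if_neg e4, if_neg e5, if_true, add_zero, zero_add]
  simp only [hpt, Finset.sum_add_distrib]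
  have hone : ∀ (v : ℕ) (c : ℕ), (∑ χ : IrrCharacter SL2F,
      (if charDegree (χ : SL2F → ℂ) = v then c else 0)) =
      (Finset.univ.filter (fun χ : IrrCharacter SL2F =>
        charDegree (χ : SL2F → ℂ) = v)).card * c := by
    intro v c
    rw [Finset.sum_ite, Finset.sum_const, Finset.sum_const_zero, add_zero, smul_eq_mul]
  rw [hone, hone, hone, hone, hone, hone, c1, cq, cqm, ch1, ch2]
  by_cases h1 : P 1 <;> by_cases h2 : P (2 * j + 1) <;> by_cases h3 : P (2 * j + 2) <;>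
    by_cases h4 : P (2 * j) <;> by_cases h5 : P (j + 1) <;> by_cases h6 : P j <;>
    simp only [h1, h2, h3, h4, h5, h6, if_true, if_false] <;> omega

/-- `SL₂(q)`, `q ≥ 5` odd, has exactly four irreducible characters of odd degree. -/
theorem sl2_card_irr_odd (j : ℕ) (hq : Fintype.card F = 2 * j + 1) (hj : 2 ≤ j) :
    Nat.card {χ : IrrCharacter SL2F // ¬ 2 ∣ charDegree (χ : SL2F → ℂ)} = 4 := by
  have h := sl2_card_irr_pred (F := F) j hq hj (fun d => ¬ 2 ∣ d)
  have f1 : ¬ 2 ∣ 1 := by omega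
  have f2 : ¬ 2 ∣ 2 * j + 1 := by omega
  have f3 : ¬ ¬ 2 ∣ 2 * j + 2 := by omega
  have f4 : ¬ ¬ 2 ∣ 2 * j := by omega
  have hpar : (¬ 2 ∣ j + 1 ∧ ¬ ¬ 2 ∣ j) ∨ (¬ ¬ 2 ∣ j + 1 ∧ ¬ 2 ∣ j) := by omega
  rcases hpar with ⟨f5, f6⟩ | ⟨f5, f6⟩
  · simp only [if_pos f1, if_pos f2, if_neg f3, if_neg f4, if_pos f5, if_neg f6] at h
    omega
  · simp only [if_pos f1, if_pos f2, if_neg f3, if_neg f4, if_neg f5, if_pos f6] at h
    omega

/-- The count of `ℓ'`-degree characters for an odd prime `ℓ` dividing `(q - 1) / 2`. -/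
theorem sl2_card_irr_not_dvd_minus (j : ℕ) (hq : Fintype.card F = 2 * j + 1) (hj : 2 ≤ j)
    (ℓ : ℕ) (hℓ : ℓ.Prime) (hℓ2 : ℓ ≠ 2) (hd : ℓ ∣ j) :
    Nat.card {χ : IrrCharacter SL2F // ¬ ℓ ∣ charDegree (χ : SL2F → ℂ)} = j + 3 := by
  have h := sl2_card_irr_pred (F := F) j hq hj (fun d => ¬ ℓ ∣ d)
  have hℓ1 : ¬ ℓ ∣ 1 := fun h => hℓ.one_lt.ne' (Nat.dvd_one.mp h)
  have hℓ2' : ¬ ℓ ∣ 2 := fun h => hℓ2 ((Nat.prime_dvd_prime_iff_eq hℓ Nat.prime_two).mp h)
  have hd2 : ℓ ∣ 2 * j := Dvd.dvd.mul_left hd 2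
  have f1 : ¬ ℓ ∣ 1 := hℓ1
  have f2 : ¬ ℓ ∣ 2 * j + 1 := fun h => hℓ1 ((Nat.dvd_add_right hd2).mp h)
  have f3 : ¬ ℓ ∣ 2 * j + 2 := fun h => hℓ2' ((Nat.dvd_add_right hd2).mp h)
  have f4 : ¬ ¬ ℓ ∣ 2 * j := not_not.mpr hd2
  have f5 : ¬ ℓ ∣ j + 1 := fun h => hℓ1 ((Nat.dvd_add_right hd).mp h)
  have f6 : ¬ ¬ ℓ ∣ j := not_not.mpr hd
  simp only [if_pos f1, if_pos f2, if_pos f3, if_neg f4, if_pos f5, if_neg f6] at h
  omega

/-- The count of `ℓ'`-degree characters for an odd prime `ℓ` dividing `(q + 1) / 2`. -/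
theorem sl2_card_irr_not_dvd_plus (j : ℕ) (hq : Fintype.card F = 2 * j + 1) (hj : 2 ≤ j)
    (ℓ : ℕ) (hℓ : ℓ.Prime) (hℓ2 : ℓ ≠ 2) (hd : ℓ ∣ j + 1) :
    Nat.card {χ : IrrCharacter SL2F // ¬ ℓ ∣ charDegree (χ : SL2F → ℂ)} = j + 4 := by
  have h := sl2_card_irr_pred (F := F) j hq hj (fun d => ¬ ℓ ∣ d)
  have hℓ1 : ¬ ℓ ∣ 1 := fun h => hℓ.one_lt.ne' (Nat.dvd_one.mp h)
  have hℓ2' : ¬ ℓ ∣ 2 := fun h => hℓ2 ((Nat.prime_dvd_prime_iff_eq hℓ Nat.prime_two).mp h)
  have hd2 : ℓ ∣ 2 * j + 2 := by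
    have : 2 * j + 2 = 2 * (j + 1) := by ring
    rw [this]
    exact Dvd.dvd.mul_left hd 2
  have f1 : ¬ ℓ ∣ 1 := hℓ1
  have f2 : ¬ ℓ ∣ 2 * j + 1 := by
    intro h
    apply hℓ1
    have : 2 * j + 2 = (2 * j + 1) + 1 := by ring
    rw [this] at hd2
    exact (Nat.dvd_add_right h).mp hd2
  have f3 : ¬ ¬ ℓ ∣ 2 * j + 2 := not_not.mpr hd2
  have f4 : ¬ ℓ ∣ 2 * j := fun h => hℓ2' ((Nat.dvd_add_right h).mp hd2)
  have f5 : ¬ ¬ ℓ ∣ j + 1 := not_not.mpr hd
  have f6 : ¬ ℓ ∣ j := fun h => hℓ1 ((Nat.dvd_add_right h).mp hd)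
  simp only [if_pos f1, if_pos f2, if_neg f3, if_pos f4, if_neg f5, if_pos f6] at h
  omega

/-- The count of `p'`-degree characters of `SL₂(q)`, `q` an odd power of `p`. -/
theorem sl2_card_irr_not_dvd_char (hodd : Odd (Fintype.card F)) (ℓ : ℕ) (hℓ : ℓ.Prime)
    (hd : ℓ ∣ Fintype.card F) :
    Nat.card {χ : IrrCharacter SL2F // ¬ ℓ ∣ charDegree (χ : SL2F → ℂ)} = Fintype.card F + 3 := by
  classical
  let _ : Fintype (IrrCharacter SL2F) := Cfsg.Agent.Helper74.irrFintype _
  have hk : Fintype.card (IrrCharacter SL2F) = Fintype.card F + 4 := by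
    rw [← Nat.card_eq_fintype_card, Cfsg.Agent.Helper74.card_irr_eq_card_conjClasses,
      card_conjClasses_sl2_odd hodd]
  obtain ⟨j, hj⟩ := hodd
  have hodd : Odd (Fintype.card F) := ⟨j, hj⟩
  have hℓ1 : ¬ ℓ ∣ 1 := fun h => hℓ.one_lt.ne' (Nat.dvd_one.mp h)
  set St : IrrCharacter SL2F := ⟨Cfsg.Agent.Helper38.Sts, Cfsg.Agent.Helper38.isIrr_Sts⟩ with hSt
  have hStdeg : charDegree (St : SL2F → ℂ) = Fintype.card F :=
    Cfsg.Agent.Helper38.charDegree_eq_of_one (Cfsg.Agent.Helper74.irr_isCharacter St) _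
      Cfsg.Agent.Helper38.Sts_one
  have hiff : ∀ χ : IrrCharacter SL2F, ¬ ℓ ∣ charDegree (χ : SL2F → ℂ) ↔ χ ≠ St := by
    intro χ
    constructor
    · intro h hχ
      apply h
      rw [hχ, hStdeg]
      exact hd
    · intro hne hdvd
      apply hne
      have hp1 : Fintype.card F + 1 = 2 * ((Fintype.card F + 1) / 2) := by omega
      have hm1 : Fintype.card F - 1 = 2 * ((Fintype.card F - 1) / 2) := by omega
      have hnp : ¬ ℓ ∣ Fintype.card F + 1 := fun h => hℓ1 ((Nat.dvd_add_right hd).mp h)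
      have hnm : ¬ ℓ ∣ Fintype.card F - 1 := by
        intro h
        apply hℓ1
        have : Fintype.card F = (Fintype.card F - 1) + 1 := by omega
        rw [this] at hd
        exact (Nat.dvd_add_right h).mp hd
      rcases sl2_charDegree_list hodd χ.2 with h | h | h | h | h | h
      · rw [h] at hdvd; exact absurd hdvd hℓ1
      · apply Subtype.ext
        exact eq_Sts_of_degree hodd χ h
      · rw [h] at hdvd; exact absurd hdvd hnp
      · rw [h] at hdvd; exact absurd hdvd hnm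
      · rw [h] at hdvd
        exfalso; apply hnp; rw [hp1]; exact Dvd.dvd.mul_left hdvd 2
      · rw [h] at hdvd
        exfalso; apply hnm; rw [hm1]; exact Dvd.dvd.mul_left hdvd 2
  rw [Nat.card_eq_fintype_card, Fintype.card_subtype]
  have : (Finset.univ.filter (fun χ : IrrCharacter SL2F => ¬ ℓ ∣ charDegree (χ : SL2F → ℂ))) =
      Finset.univ.erase St := by
    ext χ
    simp only [Finset.mem_filter, Finset.mem_univ, true_and, Finset.mem_erase, and_true]
    exact hiff χ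
  rw [this, Finset.card_erase_of_mem (Finset.mem_univ _), Finset.card_univ, hk]
  omega

end lhs


section rhs

variable {F : Type*} [Field F]

local notation "SL2F" => Matrix.SpecialLinearGroup (Fin 2) F
local notation "M2F" => Matrix (Fin 2) (Fin 2) F

open Cfsg.Agent.Helper41

/-- A nontrivial Sylow `ℓ`-subgroup of `SL₂`, `ℓ` odd, has a nontrivial central element, which is not
central in `SL₂`. -/
theorem sl2_sylow_exists_central [Finite F] (ℓ : ℕ) [Fact ℓ.Prime] (hℓ2 : ℓ ≠ 2)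
    (S : Sylow ℓ SL2F) (hbot : (S : Subgroup SL2F) ≠ ⊥) :
    ∃ z : SL2F, z ∈ S ∧ z ≠ 1 ∧ (∀ y ∈ S, y * z = z * y) ∧ z ∉ Subgroup.center SL2F ∧
      ∃ k : ℕ, k ≠ 0 ∧ orderOf z = ℓ ^ k := by
  have hfin : Finite SL2F := by
    have := Fintype.ofFinite F
    infer_instance
  have hnt : Nontrivial (S : Subgroup SL2F) := (Subgroup.nontrivial_iff_ne_bot _).mpr hbot
  have hcn : Nontrivial (Subgroup.center (S : Subgroup SL2F)) := S.isPGroup'.center_nontrivial
  obtain ⟨z, hz1⟩ := exists_ne (1 : Subgroup.center (S : Subgroup SL2F))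
  set z' : SL2F := ((z : (S : Subgroup SL2F)) : SL2F) with hz'
  have hz'S : z' ∈ S := (z : (S : Subgroup SL2F)).2
  have hz'1 : z' ≠ 1 := by
    intro h1
    apply hz1
    apply Subtype.ext
    apply Subtype.ext
    exact h1
  have hcomm : ∀ y ∈ S, y * z' = z' * y := by
    intro y hy
    have := Subgroup.mem_center_iff.mp z.2 ⟨y, hy⟩
    have := congrArg (fun w : (S : Subgroup SL2F) => (w : SL2F)) this
    simpa using this
  obtain ⟨k, hk⟩ := exists_pow_of_mem_sylow S z' hz'S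
  have hk0 : k ≠ 0 := by
    rintro rfl
    rw [pow_zero, orderOf_eq_one_iff] at hk
    exact hz'1 hk
  refine ⟨z', hz'S, hz'1, hcomm, ?_, k, hk0, hk⟩
  intro hc
  have hsq := Cfsg.Agent.Helper37.SL2Q.sq_eq_one_of_mem_center z' hc
  have hd := orderOf_dvd_of_pow_eq_one hsq
  rw [hk] at hd
  have hp2 : ℓ ∣ 2 := Dvd.dvd.trans (dvd_pow_self ℓ hk0) hd
  exact hℓ2 ((Nat.prime_dvd_prime_iff_eq (Fact.out : ℓ.Prime) Nat.prime_two).mp hp2)

/-- The Sylow `ℓ`-subgroups of `SL₂`, `ℓ` odd, are abelian. -/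
theorem sl2_sylow_abelian [Finite F] (ℓ : ℕ) [Fact ℓ.Prime] (hℓ2 : ℓ ≠ 2) (S : Sylow ℓ SL2F) :
    ∀ a ∈ S, ∀ b ∈ S, a * b = b * a := by
  by_cases hbot : (S : Subgroup SL2F) = ⊥
  · intro a ha b hb
    have ha' : a ∈ (S : Subgroup SL2F) := ha
    have hb' : b ∈ (S : Subgroup SL2F) := hb
    rw [hbot, Subgroup.mem_bot] at ha' hb'
    rw [ha', hb']
  · obtain ⟨z, -, -, hcomm, hnc, -⟩ := sl2_sylow_exists_central ℓ hℓ2 S hbot
    intro a ha b hb
    exact sl2_commute_trans z a b hnc (hcomm a ha) (hcomm b hb)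

/-- If `z` is a noncentral element of the Sylow subgroup `S` commuting with all of `S`, then
`N(S) = N(C(z))`. -/
theorem sl2_normalizer_sylow_eq (ℓ : ℕ) [Fact ℓ.Prime] (S : Sylow ℓ SL2F) (z : SL2F)
    (hzS : z ∈ S) (hcomm : ∀ y ∈ S, y * z = z * y) (hnc : z ∉ Subgroup.center SL2F) :
    Subgroup.normalizer ((S : Subgroup SL2F) : Set SL2F) =
      Subgroup.normalizer ((Subgroup.centralizer ({z} : Set SL2F) : Subgroup SL2F) : Set SL2F) := by
  have hconj_nc : ∀ g : SL2F, g * z * g⁻¹ ∉ Subgroup.center SL2F := by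
    intro g hc
    apply hnc
    have h1 : g * z * g⁻¹ * g = g * (g * z * g⁻¹) := (Subgroup.mem_center_iff.mp hc g).symm
    have h2 : g * z = g * (g * z * g⁻¹) := by
      rw [← h1]; group
    have h3 : z = g * z * g⁻¹ := mul_left_cancel h2
    rw [h3]; exact hc
  have hSC : ∀ y ∈ S, y ∈ Subgroup.centralizer ({z} : Set SL2F) := by
    intro y hy
    rw [Subgroup.mem_centralizer_singleton_iff]
    exact hcomm y hy
  have hCab : ∀ a ∈ Subgroup.centralizer ({z} : Set SL2F),
      ∀ b ∈ Subgroup.centralizer ({z} : Set SL2F), a * b = b * a := by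
    intro a ha b hb
    rw [Subgroup.mem_centralizer_singleton_iff] at ha hb
    exact sl2_commute_trans z a b hnc ha hb
  -- `N(S) ≤ N(C)`
  have key1 : ∀ g ∈ Subgroup.normalizer ((S : Subgroup SL2F) : Set SL2F),
      ∀ c ∈ Subgroup.centralizer ({z} : Set SL2F),
        g * c * g⁻¹ ∈ Subgroup.centralizer ({z} : Set SL2F) := by
    intro g hg c hc
    have hz' : g * z * g⁻¹ ∈ (S : Subgroup SL2F) := (Subgroup.mem_normalizer_iff.mp hg z).mp hzS
    rw [Subgroup.mem_centralizer_singleton_iff] at hc ⊢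
    have h1 : g * c * g⁻¹ * (g * z * g⁻¹) = g * z * g⁻¹ * (g * c * g⁻¹) := by
      calc g * c * g⁻¹ * (g * z * g⁻¹) = g * (c * z) * g⁻¹ := by group
        _ = g * (z * c) * g⁻¹ := by rw [hc]
        _ = g * z * g⁻¹ * (g * c * g⁻¹) := by group
    have h2 : z * (g * z * g⁻¹) = g * z * g⁻¹ * z := (hcomm _ hz').symm
    exact sl2_commute_trans (g * z * g⁻¹) (g * c * g⁻¹) z (hconj_nc g) h1 h2
  -- `N(C) ≤ N(S)`
  have key2 : ∀ g ∈ Subgroup.normalizer
      ((Subgroup.centralizer ({z} : Set SL2F) : Subgroup SL2F) : Set SL2F),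
      ∀ h ∈ S, g * h * g⁻¹ ∈ S := by
    intro g hg h hh
    have hC : g * h * g⁻¹ ∈ Subgroup.centralizer ({z} : Set SL2F) :=
      (Subgroup.mem_normalizer_iff.mp hg h).mp (hSC h hh)
    apply mem_sylow_of_mem_normalizer S
    · obtain ⟨k, hk⟩ := exists_pow_of_mem_sylow S h hh
      refine ⟨k, ?_⟩
      rw [← hk, ← MulAut.conj_apply, MulEquiv.orderOf_eq]
    · rw [Subgroup.mem_normalizer_iff]
      intro s
      have hcs : ∀ s ∈ S, g * h * g⁻¹ * s * (g * h * g⁻¹)⁻¹ = s := by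
        intro s hs
        rw [hCab _ hC s (hSC s hs)]
        group
      constructor
      · intro hs
        rw [hcs s hs]; exact hs
      · intro hs
        have h1 := hcs _ hs
        have h2 : s = g * h * g⁻¹ * s * (g * h * g⁻¹)⁻¹ := by
          have h3 : g * h * g⁻¹ * s * (g * h * g⁻¹)⁻¹ ∈
              Subgroup.centralizer ({z} : Set SL2F) := hSC _ hs
          have h4 : s ∈ Subgroup.centralizer ({z} : Set SL2F) := by
            have := Subgroup.mul_mem _ (Subgroup.mul_mem _ (Subgroup.inv_mem _ hC) h3) hC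
            convert this using 1
            group
          rw [hCab _ hC s h4]
          group
        rw [h2]; exact hs
  ext g
  constructor
  · intro hg
    rw [Subgroup.mem_normalizer_iff]
    intro c
    constructor
    · exact key1 g hg c
    · intro hc
      have := key1 g⁻¹ (Subgroup.inv_mem _ hg) _ hc
      convert this using 1
      group
  · intro hg
    show g ∈ Subgroup.normalizer ((S : Subgroup SL2F) : Set SL2F)
    rw [Subgroup.mem_normalizer_iff]
    intro h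
    constructor
    · exact key2 g hg h
    · intro hh
      have := key2 g⁻¹ (Subgroup.inv_mem _ hg) _ hh
      have e : g⁻¹ * (g * h * g⁻¹) * g⁻¹⁻¹ = h := by group
      rw [e] at this
      exact this

/-- The number of classes of `N(S)` for a nontrivial Sylow `ℓ`-subgroup, `ℓ` odd and prime to
`q`. -/
theorem sl2_card_conjClasses_normalizer_sylow_odd [Fintype F] [DecidableEq F]
    (hodd : Odd (Fintype.card F)) (ℓ : ℕ) [Fact ℓ.Prime] (hℓ2 : ℓ ≠ 2)
    (hℓq : ¬ ℓ ∣ Fintype.card F) (S : Sylow ℓ SL2F) (hbot : (S : Subgroup SL2F) ≠ ⊥) :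
    (ℓ ∣ Fintype.card F + 1 ∧
      2 * Nat.card (ConjClasses (Subgroup.normalizer ((S : Subgroup SL2F) : Set SL2F))) =
        Fintype.card F + 7) ∨
    (ℓ ∣ Fintype.card F - 1 ∧
      2 * Nat.card (ConjClasses (Subgroup.normalizer ((S : Subgroup SL2F) : Set SL2F))) =
        Fintype.card F + 5) := by
  have hℓ : ℓ.Prime := Fact.out
  have h2 : (2 : F) ≠ 0 := Cfsg.Agent.Helper37.two_ne_zero_of_odd_card hodd
  have hodd' : Fintype.card F % 2 = 1 := Nat.odd_iff.mp hodd
  obtain ⟨z, hzS, hz1, hcomm, hnc, k, hk0, hk⟩ := sl2_sylow_exists_central ℓ hℓ2 S hbot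
  have ht : (Matrix.trace (z : M2F)) ^ 2 ≠ 4 := by
    intro ht
    have hcp : CharP F (ringChar F) := ringChar.charP F
    have hpp : Fact (ringChar F).Prime := ⟨CharP.char_is_prime F (ringChar F)⟩
    have hc := sl2_pow_char_mem_center (ringChar F) z ht
    have hsq := Cfsg.Agent.Helper37.SL2Q.sq_eq_one_of_mem_center _ hc
    rw [← pow_mul] at hsq
    have hd := orderOf_dvd_of_pow_eq_one hsq
    rw [hk] at hd
    have hℓd : ℓ ∣ ringChar F * 2 := Dvd.dvd.trans (dvd_pow_self ℓ hk0) hd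
    rcases (Nat.Prime.dvd_mul hℓ).mp hℓd with h | h
    · apply hℓq
      obtain ⟨n, -, hn⟩ := FiniteField.card F (ringChar F)
      rw [hn]
      exact Dvd.dvd.trans h (dvd_pow_self _ n.ne_zero)
    · exact hℓ2 ((Nat.prime_dvd_prime_iff_eq hℓ Nat.prime_two).mp h)
  rw [sl2_normalizer_sylow_eq ℓ S z hzS hcomm hnc]
  obtain ⟨w, hw⟩ := sl2_exists_conj_eq_inv hodd' h2 z ht
  have hkN := sl2_card_conjClasses_normalizer_centralizer h2 z w ht hw
  have hC := Cfsg.Agent.S0809.card_centralizer_add_rootCount h2 hodd' z ht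
  have hdvd : ℓ ∣ Nat.card (Subgroup.centralizer ({z} : Set SL2F)) := by
    have hzC : z ∈ Subgroup.centralizer ({z} : Set SL2F) := by
      rw [Subgroup.mem_centralizer_singleton_iff]
    have h1 : orderOf (⟨z, hzC⟩ : Subgroup.centralizer ({z} : Set SL2F)) ∣
        Nat.card (Subgroup.centralizer ({z} : Set SL2F)) := orderOf_dvd_natCard _
    rw [Subgroup.orderOf_mk, hk] at h1
    exact Dvd.dvd.trans (dvd_pow_self ℓ hk0) h1
  by_cases h0 : Cfsg.Agent.Helper42.rootCount (Matrix.trace (z : M2F)) = 0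
  · left
    rw [h0, add_zero] at hC
    rw [hC] at hdvd hkN
    exact ⟨hdvd, by omega⟩
  · right
    have h2' := rootCount_eq_two_of_ne_zero _ ht h0
    rw [h2'] at hC
    have hq1 : 1 ≤ Fintype.card F := Fintype.card_pos
    have hC' : Nat.card (Subgroup.centralizer ({z} : Set SL2F)) = Fintype.card F - 1 := by omega
    rw [hC'] at hdvd hkN
    exact ⟨hdvd, by omega⟩

end rhs

section unip

variable {F : Type*} [Field F]

local notation "SL2F" => Matrix.SpecialLinearGroup (Fin 2) F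
local notation "M2F" => Matrix (Fin 2) (Fin 2) F

theorem sl2_inv_00 (s : SL2F) : ((s⁻¹ : SL2F) : M2F) 0 0 = (s : M2F) 1 1 := by
  rw [Matrix.SpecialLinearGroup.coe_inv, Matrix.adjugate_fin_two]; rfl
theorem sl2_inv_01 (s : SL2F) : ((s⁻¹ : SL2F) : M2F) 0 1 = -(s : M2F) 0 1 := by
  rw [Matrix.SpecialLinearGroup.coe_inv, Matrix.adjugate_fin_two]; rfl
theorem sl2_inv_10 (s : SL2F) : ((s⁻¹ : SL2F) : M2F) 1 0 = -(s : M2F) 1 0 := by
  rw [Matrix.SpecialLinearGroup.coe_inv, Matrix.adjugate_fin_two]; rfl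
theorem sl2_inv_11 (s : SL2F) : ((s⁻¹ : SL2F) : M2F) 1 1 = (s : M2F) 0 0 := by
  rw [Matrix.SpecialLinearGroup.coe_inv, Matrix.adjugate_fin_two]; rfl

/-- The upper unitriangular subgroup of `SL₂(F)`. -/
def unipSL (F : Type*) [Field F] : Subgroup (Matrix.SpecialLinearGroup (Fin 2) F) where
  carrier := {g | (g : Matrix (Fin 2) (Fin 2) F) 0 0 = 1 ∧ (g : Matrix (Fin 2) (Fin 2) F) 1 0 = 0 ∧
    (g : Matrix (Fin 2) (Fin 2) F) 1 1 = 1}
  mul_mem' := by
    rintro a b ⟨ha0, ha1, ha2⟩ ⟨hb0, hb1, hb2⟩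
    refine ⟨?_, ?_, ?_⟩
    · rw [sl2_mul_00, ha0, hb0, hb1]; ring
    · rw [sl2_mul_10, ha1, ha2, hb0, hb1]; ring
    · rw [sl2_mul_11, ha1, ha2, hb2]; ring
  one_mem' := by
    refine ⟨?_, ?_, ?_⟩ <;> simp
  inv_mem' := by
    rintro a ⟨ha0, ha1, ha2⟩
    refine ⟨?_, ?_, ?_⟩
    · rw [sl2_inv_00, ha2]
    · rw [sl2_inv_10, ha1, neg_zero]
    · rw [sl2_inv_11, ha0]

theorem mem_unipSL_iff (g : SL2F) :
    g ∈ unipSL F ↔ (g : M2F) 0 0 = 1 ∧ (g : M2F) 1 0 = 0 ∧ (g : M2F) 1 1 = 1 := Iff.rfl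

theorem uSL_mem_unipSL (x : F) : uSL x ∈ unipSL F := ⟨rfl, rfl, rfl⟩

/-- The unipotent subgroup is parametrised by the field. -/
def unipSLEquiv : F ≃ unipSL F where
  toFun x := ⟨uSL x, uSL_mem_unipSL x⟩
  invFun g := ((g : SL2F) : M2F) 0 1
  left_inv x := rfl
  right_inv g := by
    apply Subtype.ext
    obtain ⟨h0, h1, h2⟩ := g.2
    apply sl2_ext
    · rw [h0]; rfl
    · rfl
    · rw [h1]; rfl
    · rw [h2]; rfl

theorem card_unipSL [Fintype F] : Nat.card (unipSL F) = Fintype.card F := by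
  rw [← Nat.card_congr (unipSLEquiv (F := F)), Nat.card_eq_fintype_card]

/-- The normalizer of the unipotent subgroup is the upper triangular subgroup. -/
theorem normalizer_unipSL :
    Subgroup.normalizer ((unipSL F : Subgroup SL2F) : Set SL2F) = BSL F := by
  ext g
  rw [Subgroup.mem_normalizer_iff, mem_BSL_iff]
  constructor
  · intro hg
    have h := ((hg (uSL 1)).mp (uSL_mem_unipSL 1)).2.1
    rw [sl2_mul_10, sl2_mul_10, sl2_mul_11, sl2_inv_00, sl2_inv_10, uSL_00, uSL_10, uSL_01,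
      uSL_11] at h
    have h2 : ((g : M2F) 1 0) ^ 2 = 0 := by linear_combination -h
    exact pow_eq_zero_iff (two_ne_zero) |>.mp h2
  · intro hg h
    have hdet : (g : M2F) 0 0 * (g : M2F) 1 1 = 1 := by
      have := g.2
      rw [Matrix.det_fin_two, hg, mul_zero, sub_zero] at this
      exact this
    have h11 : (g : M2F) 1 1 ≠ 0 := by
      intro h0
      rw [h0, mul_zero] at hdet
      exact zero_ne_one hdet
    have e00 : ((g * h * g⁻¹ : SL2F) : M2F) 0 0 =
        ((g : M2F) 0 0 * (h : M2F) 0 0 + (g : M2F) 0 1 * (h : M2F) 1 0) * (g : M2F) 1 1 := by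
      rw [sl2_mul_00, sl2_mul_00, sl2_mul_01, sl2_inv_00, sl2_inv_10, hg]; ring
    have e10 : ((g * h * g⁻¹ : SL2F) : M2F) 1 0 = (g : M2F) 1 1 ^ 2 * (h : M2F) 1 0 := by
      rw [sl2_mul_10, sl2_mul_10, sl2_mul_11, sl2_inv_00, sl2_inv_10, hg]; ring
    have e11 : ((g * h * g⁻¹ : SL2F) : M2F) 1 1 =
        -((g : M2F) 1 1 * (h : M2F) 1 0 * (g : M2F) 0 1) +
          (g : M2F) 1 1 * (h : M2F) 1 1 * (g : M2F) 0 0 := by
      rw [sl2_mul_11, sl2_mul_10, sl2_mul_11, sl2_inv_01, sl2_inv_11, hg]; ring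
    rw [mem_unipSL_iff, mem_unipSL_iff, e00, e10, e11]
    constructor
    · rintro ⟨h0, h1, h2⟩
      rw [h0, h1, h2]
      refine ⟨?_, ?_, ?_⟩
      · linear_combination hdet
      · ring
      · linear_combination hdet
    · rintro ⟨h0, h1, h2⟩
      have h1' : (h : M2F) 1 0 = 0 := by
        rcases mul_eq_zero.mp h1 with h | h
        · exact absurd (pow_eq_zero_iff (two_ne_zero) |>.mp h) h11
        · exact h
      rw [h1'] at h0 h2
      refine ⟨?_, h1', ?_⟩
      · linear_combination h0 - (h : M2F) 0 0 * hdet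
      · linear_combination h2 - (h : M2F) 1 1 * hdet

/-- In the defining characteristic, `N(S)` has `q + 3` conjugacy classes. -/
theorem sl2_card_conjClasses_normalizer_sylow_char [Fintype F] [DecidableEq F]
    (hodd : Odd (Fintype.card F)) (ℓ : ℕ) [Fact ℓ.Prime] (hd : ℓ ∣ Fintype.card F)
    (S : Sylow ℓ SL2F) :
    Nat.card (ConjClasses (Subgroup.normalizer ((S : Subgroup SL2F) : Set SL2F))) =
      Fintype.card F + 3 := by
  have hℓ : ℓ.Prime := Fact.out
  have hcp : CharP F (ringChar F) := ringChar.charP F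
  obtain ⟨n, hp, hn⟩ := FiniteField.card F (ringChar F)
  have hℓp : ℓ = ringChar F := by
    rw [hn] at hd
    exact (Nat.prime_dvd_prime_iff_eq hℓ hp).mp (hℓ.dvd_of_dvd_pow hd)
  rw [← hℓp] at hn
  have hcardG : Nat.card SL2F = ℓ ^ (n : ℕ) * (Fintype.card F ^ 2 - 1) := by
    rw [Cfsg.Agent.Helper5.card_SL2, hn]
  have hndvd : ¬ ℓ ∣ Fintype.card F ^ 2 - 1 := by
    intro h
    have h1 : ℓ ∣ Fintype.card F ^ 2 := Dvd.dvd.trans hd (dvd_pow_self _ (by norm_num))
    have hq1 : 1 ≤ Fintype.card F ^ 2 := Nat.one_le_pow _ _ Fintype.card_pos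
    have h2 : Fintype.card F ^ 2 = (Fintype.card F ^ 2 - 1) + 1 := by omega
    rw [h2] at h1
    have := (Nat.dvd_add_right h).mp h1
    exact hℓ.one_lt.ne' (Nat.dvd_one.mp this)
  have hS := card_sylow_of_card_eq ℓ S n (Fintype.card F ^ 2 - 1) hcardG hndvd
  have hU : Nat.card (unipSL F) = ℓ ^ (Nat.card SL2F).factorization ℓ := by
    rw [← S.card_eq_multiplicity, hS, card_unipSL, hn]
  set P0 : Sylow ℓ SL2F := Sylow.ofCard (unipSL F) hU with hP0
  have hP0c : (P0 : Subgroup SL2F) = unipSL F := Sylow.coe_ofCard _ _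
  obtain ⟨g, hg⟩ := MulAction.exists_smul_eq SL2F P0 S
  have e1 : Subgroup.normalizer ((S : Subgroup SL2F) : Set SL2F) ≃* MulAction.stabilizer SL2F S :=
    MulEquiv.subgroupCongr (S.stabilizer_eq_normalizer).symm
  have e2 : MulAction.stabilizer SL2F P0 ≃* MulAction.stabilizer SL2F S :=
    MulAction.stabilizerEquivStabilizer hg.symm
  have e3 : MulAction.stabilizer SL2F P0 ≃* BSL F :=
    MulEquiv.subgroupCongr (by
      rw [P0.stabilizer_eq_normalizer]
      show Subgroup.normalizer (((P0 : Subgroup SL2F)) : Set SL2F) = _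
      rw [hP0c, normalizer_unipSL])
  rw [card_conjClasses_of_mulEquiv (e1.trans (e2.symm.trans e3))]
  exact Cfsg.Agent.S2437.result hodd

end unip


section two

variable {F : Type*} [Field F] [Fintype F] [DecidableEq F]

local notation "SL2F" => Matrix.SpecialLinearGroup (Fin 2) F
local notation "M2F" => Matrix (Fin 2) (Fin 2) F

theorem quaternion_pow_four_of_card {n : ℕ} [NeZero n] (h : Nat.card (QuaternionGroup n) = 8)
    (x : QuaternionGroup n) : x ^ 4 = 1 := by
  rw [Nat.card_eq_fintype_card, QuaternionGroup.card] at h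
  have hn : n = 2 := by omega
  subst hn
  have he : Monoid.exponent (QuaternionGroup 2) = 4 := by
    rw [QuaternionGroup.exponent]
    rfl
  rw [← he]
  exact Monoid.pow_exponent_eq_one x

/-- The order of `SL₂(q)` for `q ≡ ±3 (mod 8)` is `8` times an odd number. -/
theorem sl2_card_of_mod_eight (q : ℕ) (h : q % 8 = 3 ∨ q % 8 = 5) :
    ∃ m : ℕ, ¬ 2 ∣ m ∧ q * (q ^ 2 - 1) = 2 ^ 3 * m := by
  rcases h with h | h
  · obtain ⟨a, rfl⟩ : ∃ a, q = 8 * a + 3 := ⟨q / 8, by omega⟩
    refine ⟨(8 * a + 3) * ((4 * a + 1) * (2 * a + 1)), ?_, ?_⟩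
    · have hm : Odd ((8 * a + 3) * ((4 * a + 1) * (2 * a + 1))) :=
        Odd.mul ⟨4 * a + 1, by ring⟩ (Odd.mul ⟨2 * a, by ring⟩ ⟨a, by ring⟩)
      intro h2
      exact (Nat.not_even_iff_odd.mpr hm) (even_iff_two_dvd.mpr h2)
    · have : (8 * a + 3) ^ 2 - 1 = 8 * ((4 * a + 1) * (2 * a + 1)) := by
        have : (8 * a + 3) ^ 2 = 8 * ((4 * a + 1) * (2 * a + 1)) + 1 := by ring
        rw [this]; simp
      rw [this]; ring
  · obtain ⟨a, rfl⟩ : ∃ a, q = 8 * a + 5 := ⟨q / 8, by omega⟩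
    refine ⟨(8 * a + 5) * ((2 * a + 1) * (4 * a + 3)), ?_, ?_⟩
    · have hm : Odd ((8 * a + 5) * ((2 * a + 1) * (4 * a + 3))) :=
        Odd.mul ⟨4 * a + 2, by ring⟩ (Odd.mul ⟨a, by ring⟩ ⟨2 * a + 1, by ring⟩)
      intro h2
      exact (Nat.not_even_iff_odd.mpr hm) (even_iff_two_dvd.mpr h2)
    · have : (8 * a + 5) ^ 2 - 1 = 8 * ((2 * a + 1) * (4 * a + 3)) := by
        have : (8 * a + 5) ^ 2 = 8 * ((2 * a + 1) * (4 * a + 3)) + 1 := by ring
        rw [this]; simp
      rw [this]; ring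

/-- The normalizer of a Sylow `2`-subgroup of `SL₂(q)`, `q` odd, has exactly four irreducible
characters of odd degree. -/
theorem sl2_card_irr_odd_normalizer (hodd : Odd (Fintype.card F)) (S : Sylow 2 SL2F) :
    Nat.card {ψ : IrrCharacter (Subgroup.normalizer ((S : Subgroup SL2F) : Set SL2F)) //
      ¬ 2 ∣ charDegree (ψ : Subgroup.normalizer ((S : Subgroup SL2F) : Set SL2F) → ℂ)} = 4 := by
  have h2 : (2 : F) ≠ 0 := Cfsg.Agent.Helper37.two_ne_zero_of_odd_card hodd
  obtain ⟨hcent, hN1, hN2⟩ := Cfsg.Agent.S2431.result hodd S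
  obtain ⟨k, hk1, ⟨e⟩⟩ := Cfsg.Agent.Helper37.SL2Q.sylow_two_quaternion hodd S
  have hne : NeZero (2 ^ k) := ⟨by positivity⟩
  have hmod : (Fintype.card F % 8 = 1 ∨ Fintype.card F % 8 = 7) ∨
      (Fintype.card F % 8 = 3 ∨ Fintype.card F % 8 = 5) := by
    have := Nat.odd_iff.mp hodd
    omega
  rcases hmod with hm | hm
  · rw [hN1 hm]
    rw [card_irr_odd_of_two_group S.isPGroup', card_monoidHom_units_congr e,
      Cfsg.Agent.Helper74.card_monoidHom_units_eq_index_commutator, quaternion_commutator_index]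
  · have hcardN := hN2 hm
    obtain ⟨m, hm2, hqm⟩ := sl2_card_of_mod_eight _ hm
    have hS8 : Nat.card (S : Subgroup SL2F) = 8 := by
      have := card_sylow_of_card_eq 2 S 3 m (by rw [Cfsg.Agent.Helper5.card_SL2, hqm]) hm2
      rw [this]; norm_num
    rw [hS8] at hcardN
    have hQ8 : Nat.card (QuaternionGroup (2 ^ k)) = 8 := by
      rw [← Nat.card_congr e.toEquiv]; exact hS8
    have hS4 : ∀ x ∈ (S : Subgroup SL2F), x ^ 4 = 1 := by
      intro x hx
      have h1 := quaternion_pow_four_of_card hQ8 (e ⟨x, hx⟩)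
      rw [← map_pow, MulEquiv.map_eq_one_iff] at h1
      have := congrArg Subtype.val h1
      simpa using this
    set N := Subgroup.normalizer ((S : Subgroup SL2F) : Set SL2F) with hNdef
    have hSN : (S : Subgroup SL2F) ≤ N := Subgroup.le_normalizer
    have hzc : (zSL : SL2F) ∈ Subgroup.center SL2F :=
      Subgroup.mem_center_iff.mpr (fun g => (zSL_comm g).symm)
    have hzN : (zSL : SL2F) ∈ N := Subgroup.center_le_normalizer _ hzc
    have hS'card : Nat.card ((S : Subgroup SL2F).subgroupOf N) = 8 := by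
      rw [card_subgroupOf_of_le hSN, hS8]
    have hcomm := commutator_eq_of_card_24 (N := N) ((S : Subgroup SL2F).subgroupOf N)
      (by rw [hcardN]) hS'card (⟨zSL, hzN⟩ : N)
      (fun g => Subtype.ext (zSL_comm g.1).symm)
      (Subtype.ext (Cfsg.Agent.Helper37.SL2Q.sq_eq_one_of_mem_center zSL hzc))
      (by
        intro x hx
        apply Subtype.ext
        rw [Subgroup.mem_subgroupOf] at hx
        simpa using hS4 x.1 hx)
      (by
        intro x hx hx2
        have hx2' : (x : SL2F) ^ 2 = 1 := by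
          have := congrArg Subtype.val hx2
          simpa using this
        have hc := Cfsg.Agent.Helper41.sl2_mem_center_of_sq_eq_one h2 _ hx2'
        obtain ⟨r, -, hr⟩ := (Cfsg.Agent.Helper41.sl2_mem_center_iff _).1 hc
        rcases eq_one_or_zSL (x : SL2F) (by rw [hr]; simp) (by rw [hr]; simp)
          (by rw [hr]; simp) with h | h
        · left; exact Subtype.ext h
        · right; exact Subtype.ext h)
      (by
        intro y hy
        have hyc : (y : SL2F) ∈ Subgroup.centralizer ((S : Subgroup SL2F) : Set SL2F) := by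
          rw [Subgroup.mem_centralizer_iff]
          intro h hh
          have := hy ⟨h, hSN hh⟩ (by rw [Subgroup.mem_subgroupOf]; exact hh)
          have := congrArg Subtype.val this
          simpa using this.symm
        rw [hcent] at hyc
        apply Subtype.ext
        simpa using Cfsg.Agent.Helper37.SL2Q.sq_eq_one_of_mem_center _ hyc)
    have hidx : (commutator N).index = 3 := by
      rw [hcomm]
      have := ((S : Subgroup SL2F).subgroupOf N).index_mul_card
      rw [hS'card, hcardN] at this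
      omega
    apply card_irr_odd_of_card_24 (by rw [hcardN])
    rw [Cfsg.Agent.Helper74.card_monoidHom_units_eq_index_commutator, hidx]

/-- For `q = 3` the Sylow `2`-subgroup is normal. -/
theorem sl2_normalizer_sylow_two_eq_top (h3 : Fintype.card F = 3) (S : Sylow 2 SL2F) :
    Subgroup.normalizer ((S : Subgroup SL2F) : Set SL2F) = ⊤ := by
  have hodd : Odd (Fintype.card F) := by rw [h3]; exact ⟨1, rfl⟩
  obtain ⟨-, -, hN2⟩ := Cfsg.Agent.S2431.result hodd S
  have hcardN := hN2 (Or.inl (by rw [h3]))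
  obtain ⟨m, hm2, hqm⟩ := sl2_card_of_mod_eight (Fintype.card F) (Or.inl (by rw [h3]))
  have hS8 : Nat.card (S : Subgroup SL2F) = 8 := by
    have := card_sylow_of_card_eq 2 S 3 m (by rw [Cfsg.Agent.Helper5.card_SL2, hqm]) hm2
    rw [this]; norm_num
  rw [hS8] at hcardN
  apply (Subgroup.card_eq_iff_eq_top _).mp
  rw [hcardN, Cfsg.Agent.Helper5.card_SL2, h3]
  norm_num

end two

end Cfsg.Agent.Helper39
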