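import Cfsg.Prelude.Def_OddOrderLocal
import Cfsg.Agent.Helper39.HallNat
import Cfsg.Agent.Helper39.McKaySL2
import Cfsg.Agent.Helper60.Hall
import Cfsg.Agent.Helper46.SubfieldPSL
import Cfsg.Agent.Helper41.PSL2Klein
import Cfsg.Agent.S0799
import Cfsg.Agent.S0802
import Cfsg.Agent.S0803

set_option autoImplicit false

/-!
# Hall `{2, 3}`-subgroups of `PSL₂(q)` (used for S2537)
-/

namespace Cfsg.Agent.Helper39

open Matrix Cfsg

section normalizer

variable {F : Type*} [Field F] [Fintype F] [DecidableEq F]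

local notation "SL2F" => Matrix.SpecialLinearGroup (Fin 2) F
local notation "PSL2F" => Matrix.ProjectiveSpecialLinearGroup (Fin 2) F
local notation "M2F" => Matrix (Fin 2) (Fin 2) F

/-- In the defining characteristic, the normalizer of a Sylow subgroup of `SL₂(q)` has order
`(q - 1) q`. -/
theorem sl2_card_normalizer_sylow_char (ℓ : ℕ) [Fact ℓ.Prime] (hd : ℓ ∣ Fintype.card F)
    (S : Sylow ℓ SL2F) :
    Nat.card (Subgroup.normalizer ((S : Subgroup SL2F) : Set SL2F)) =
      (Fintype.card F - 1) * Fintype.card F := by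
  have hℓ : ℓ.Prime := Fact.out
  have hcp : CharP F (ringChar F) := ringChar.charP F
  obtain ⟨n, hp, hn⟩ := FiniteField.card F (ringChar F)
  have hℓp : ℓ = ringChar F := by
    rw [hn] at hd
    exact (Nat.prime_dvd_prime_iff_eq hℓ hp).mp (hℓ.dvd_of_dvd_pow hd)
  rw [← hℓp] at hn
  have hcardG : Nat.card SL2F = ℓ ^ (n : ℕ) * (Fintype.card F ^ 2 - 1) := by
    rw [Cfsg.Agent.Helper5.card_SL2, hn]
  have hndvd : ¬ ℓ ∣ Fintype.card F ^ 2 - 1 := by
    intro h
    have h1 : ℓ ∣ Fintype.card F ^ 2 := Dvd.dvd.trans hd (dvd_pow_self _ (by norm_num))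
    have hq1 : 1 ≤ Fintype.card F ^ 2 := Nat.one_le_pow _ _ Fintype.card_pos
    have h2 : Fintype.card F ^ 2 = (Fintype.card F ^ 2 - 1) + 1 := by omega
    rw [h2] at h1
    have := (Nat.dvd_add_right h).mp h1
    exact hℓ.one_lt.ne' (Nat.dvd_one.mp this)
  have hS := card_sylow_of_card_eq ℓ S n (Fintype.card F ^ 2 - 1) hcardG hndvd
  have hU : Nat.card (unipSL F) = ℓ ^ (Nat.card SL2F).factorization ℓ := by
    rw [← S.card_eq_multiplicity, hS, card_unipSL, hn]
  set P0 : Sylow ℓ SL2F := Sylow.ofCard (unipSL F) hU with hP0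
  have hP0c : (P0 : Subgroup SL2F) = unipSL F := Sylow.coe_ofCard _ _
  obtain ⟨g, hg⟩ := MulAction.exists_smul_eq SL2F P0 S
  have e1 : Subgroup.normalizer ((S : Subgroup SL2F) : Set SL2F) ≃* MulAction.stabilizer SL2F S :=
    MulEquiv.subgroupCongr (S.stabilizer_eq_normalizer).symm
  have e2 : MulAction.stabilizer SL2F P0 ≃* MulAction.stabilizer SL2F S :=
    MulAction.stabilizerEquivStabilizer hg.symm
  have e3 : MulAction.stabilizer SL2F P0 ≃* BSL F :=
    MulEquiv.subgroupCongr (by
      rw [P0.stabilizer_eq_normalizer]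
      show Subgroup.normalizer (((P0 : Subgroup SL2F)) : Set SL2F) = _
      rw [hP0c, normalizer_unipSL])
  rw [Nat.card_congr (e1.trans (e2.symm.trans e3)).toEquiv, Cfsg.Agent.Helper41.card_BSL',
    Fintype.card_units]

/-- The preimage in `SL₂` of a subgroup of `PSL₂(q)`, `q` odd, has twice its order. -/
theorem card_comap_mk_psl2 (hodd : Odd (Fintype.card F)) (K : Subgroup PSL2F) :
    Nat.card (K.comap (QuotientGroup.mk' (Subgroup.center SL2F))) = 2 * Nat.card K := by
  have h2 : (2 : F) ≠ 0 := Cfsg.Agent.Helper5.two_ne_zero_of_odd_card hodd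
  have hidx : (K.comap (QuotientGroup.mk' (Subgroup.center SL2F))).index = K.index :=
    Subgroup.index_comap_of_surjective K (QuotientGroup.mk'_surjective _)
  have h1 := Subgroup.card_mul_index (K.comap (QuotientGroup.mk' (Subgroup.center SL2F)))
  have h2' := Subgroup.card_mul_index K
  have hi0 : K.index ≠ 0 := Subgroup.index_ne_zero_of_finite
  rw [hidx] at h1
  have : Nat.card (K.comap (QuotientGroup.mk' (Subgroup.center SL2F))) * K.index =
      (2 * Nat.card K) * K.index := by
    rw [h1, mul_assoc, h2']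
    have h4 := Subgroup.card_eq_card_quotient_mul_card_subgroup (Subgroup.center SL2F)
    rw [Cfsg.Agent.Helper5.card_center_SL2_of_two_ne_zero h2] at h4
    rw [h4, mul_comm]
  exact Nat.eq_of_mul_eq_mul_right (Nat.pos_of_ne_zero hi0) this

/-- The normalizer of a Sylow `p`-subgroup of `PSL₂(q)` (`p` the characteristic, odd) has order
dividing `(q - 1) q / 2`. -/
theorem psl2_two_mul_card_normalizer_sylow_dvd (hodd : Odd (Fintype.card F)) (p : ℕ)
    [Fact p.Prime] (hd : p ∣ Fintype.card F) (P : Sylow p PSL2F) :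
    2 * Nat.card (Subgroup.normalizer ((P : Subgroup PSL2F) : Set PSL2F)) ∣
      (Fintype.card F - 1) * Fintype.card F := by
  have hp : p.Prime := Fact.out
  have hsurj : Function.Surjective (QuotientGroup.mk' (Subgroup.center SL2F)) :=
    QuotientGroup.mk'_surjective _
  obtain ⟨S, hS⟩ := Sylow.mapSurjective_surjective hsurj p P
  have hSP : (P : Subgroup PSL2F) =
      (S : Subgroup SL2F).map (QuotientGroup.mk' (Subgroup.center SL2F)) := by
    rw [← hS, Sylow.coe_mapSurjective]
  rw [← card_comap_mk_psl2 hodd, ← sl2_card_normalizer_sylow_char p hd S]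
  apply Subgroup.card_dvd_of_le
  have hp2 : p ≠ 2 := by
    rintro rfl
    exact (Nat.not_even_iff_odd.mpr hodd) (even_iff_two_dvd.mpr hd)
  obtain ⟨k, hk⟩ := IsPGroup.exists_card_eq S.isPGroup'
  have hSodd : Odd (Nat.card (S : Subgroup SL2F)) := by
    rw [hk]; exact (hp.odd_of_ne_two hp2).pow
  have hpow : ∀ s ∈ (S : Subgroup SL2F), s ^ Nat.card (S : Subgroup SL2F) = 1 := by
    intro s hs
    have h1 := pow_card_eq_one' (G := (S : Subgroup SL2F)) (x := ⟨s, hs⟩)
    have h2 := congrArg Subtype.val h1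
    rw [Subgroup.coe_pow, Subgroup.coe_one] at h2
    exact h2
  have key : ∀ x : SL2F, QuotientGroup.mk' (Subgroup.center SL2F) x ∈
      Subgroup.normalizer ((P : Subgroup PSL2F) : Set PSL2F) →
      ∀ s ∈ (S : Subgroup SL2F), x * s * x⁻¹ ∈ (S : Subgroup SL2F) := by
    intro x hx s hs
    have h1 : QuotientGroup.mk' (Subgroup.center SL2F) (x * s * x⁻¹) ∈ (P : Subgroup PSL2F) := by
      rw [map_mul, map_mul, map_inv]
      refine (Subgroup.mem_normalizer_iff.mp hx _).mp ?_
      rw [hSP]
      exact Subgroup.mem_map_of_mem _ hs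
    rw [hSP] at h1
    obtain ⟨s', hs', hs'eq⟩ := Subgroup.mem_map.mp h1
    have hz : s'⁻¹ * (x * s * x⁻¹) ∈ Subgroup.center SL2F := by
      rw [← QuotientGroup.eq]
      exact hs'eq
    have hzsq := Cfsg.Agent.Helper37.SL2Q.sq_eq_one_of_mem_center _ hz
    have hy : x * s * x⁻¹ = s' * (s'⁻¹ * (x * s * x⁻¹)) := by group
    have hym : (x * s * x⁻¹) ^ Nat.card (S : Subgroup SL2F) = 1 := by
      rw [conj_pow, hpow s hs]; group
    have hcomm : Commute s' (s'⁻¹ * (x * s * x⁻¹)) := (Subgroup.mem_center_iff.mp hz s')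
    have hzm : (s'⁻¹ * (x * s * x⁻¹)) ^ Nat.card (S : Subgroup SL2F) = 1 := by
      have h3 := hcomm.mul_pow (Nat.card (S : Subgroup SL2F))
      rw [← hy, hym, hpow s' hs', one_mul] at h3
      exact h3.symm
    have hz1 : s'⁻¹ * (x * s * x⁻¹) = 1 := by
      obtain ⟨j, hj⟩ := hSodd
      rw [hj, pow_succ, pow_mul, hzsq, one_pow, one_mul] at hzm
      exact hzm
    rw [hy, hz1, mul_one]
    exact hs'
  intro x hx
  rw [Subgroup.mem_comap] at hx
  rw [Subgroup.mem_normalizer_iff]
  intro s
  constructor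
  · exact key x hx s
  · intro hs
    have hx' : QuotientGroup.mk' (Subgroup.center SL2F) x⁻¹ ∈
        Subgroup.normalizer ((P : Subgroup PSL2F) : Set PSL2F) := by
      rw [map_inv]; exact Subgroup.inv_mem _ hx
    have h4 := key x⁻¹ hx' _ hs
    have e : x⁻¹ * (x * s * x⁻¹) * x⁻¹⁻¹ = s := by group
    rwa [e] at h4

end normalizer

section hall

variable {F : Type*} [Field F] [Fintype F]

local notation "SL2F" => Matrix.SpecialLinearGroup (Fin 2) F
local notation "PSL2F" => Matrix.ProjectiveSpecialLinearGroup (Fin 2) F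
local notation "M2F" => Matrix (Fin 2) (Fin 2) F

theorem card_sq_sub_one_ne_zero : Fintype.card F ^ 2 - 1 ≠ 0 := by
  have h1 : 1 < Fintype.card F := Fintype.one_lt_card
  have : 1 < Fintype.card F ^ 2 := Nat.one_lt_pow (by norm_num) h1
  omega

/-- A subgroup of `PSL₂(q)`, `q` prime to `6`, is a Hall `{2, 3}`-subgroup iff twice its order is the
`{2, 3}`-part of `q² - 1`. -/
theorem psl2_isPiHall_iff (hodd : Odd (Fintype.card F)) (h3 : ¬ 3 ∣ Fintype.card F)
    (H : Subgroup PSL2F) :
    Cfsg.IsPiHall ({2, 3} : Set ℕ) H ↔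
      2 * Nat.card H = 2 ^ (Fintype.card F ^ 2 - 1).factorization 2 *
        3 ^ (Fintype.card F ^ 2 - 1).factorization 3 := by
  have hG := Cfsg.Agent.Helper41.two_mul_card_PSL2 hodd
  have hHi : Nat.card H * H.index = Nat.card PSL2F := Subgroup.card_mul_index H
  have he : 2 * Nat.card H * H.index = Fintype.card F * (Fintype.card F ^ 2 - 1) := by
    rw [mul_assoc, hHi, hG]
  have hN := card_sq_sub_one_ne_zero (F := F)
  have hq2 : ¬ 2 ∣ Fintype.card F := fun h =>
    (Nat.not_even_iff_odd.mpr hodd) (even_iff_two_dvd.mpr h)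
  constructor
  · rintro ⟨h1, h2⟩
    refine hallNat_forward _ _ _ _ hN hq2 h3 he (fun p hp hd => ?_) (h2 2 Nat.prime_two (by simp))
      (h2 3 Nat.prime_three (by simp))
    have := h1 p hp hd
    simpa using this
  · intro hT
    obtain ⟨h1, h2, h3'⟩ := hallNat_backward _ _ _ _ hN hq2 h3 he hT
    refine ⟨fun p hp hd => ?_, fun p hp hmem => ?_⟩
    · rcases h1 p hp hd with rfl | rfl <;> simp
    · have hmem' : p = 2 ∨ p = 3 := by simpa using hmem
      rcases hmem' with rfl | rfl
      · exact h2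
      · exact h3'

theorem card_alternatingGroup_fin_four : Nat.card (alternatingGroup (Fin 4)) = 12 := by
  rw [nat_card_alternatingGroup, Nat.card_eq_fintype_card, Fintype.card_fin]
  rfl

theorem card_alternatingGroup_fin_five : Nat.card (alternatingGroup (Fin 5)) = 60 := by
  rw [nat_card_alternatingGroup, Nat.card_eq_fintype_card, Fintype.card_fin]
  rfl

theorem card_perm_fin_four : Nat.card (Equiv.Perm (Fin 4)) = 24 := by
  rw [Nat.card_perm, Nat.card_eq_fintype_card, Fintype.card_fin]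
  rfl

theorem prime_le_three_of_dvd_two_pow_mul_three_pow (p a b : ℕ) (hp : p.Prime)
    (h : p ∣ 2 ^ a * 3 ^ b) : p ≤ 3 := by
  rcases (Nat.Prime.dvd_mul hp).mp h with h | h
  · have := Nat.le_of_dvd (by norm_num) (hp.dvd_of_dvd_pow h)
    omega
  · exact Nat.le_of_dvd (by norm_num) (hp.dvd_of_dvd_pow h)

/-- The "only if" direction: a Hall `{2, 3}`-subgroup of `PSL₂(q)` forces the arithmetic
conditions (via Dickson's list). -/
theorem psl2_hall_forward (p : ℕ) [Fact p.Prime] [CharP F p] (hp5 : 5 ≤ p) (H : Subgroup PSL2F)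
    (hT : 2 * Nat.card H = 2 ^ (Fintype.card F ^ 2 - 1).factorization 2 *
        3 ^ (Fintype.card F ^ 2 - 1).factorization 3) :
    (3 ∣ Fintype.card F - 1 ∧ Fintype.card F % 4 = 1) ∨
      (3 ∣ Fintype.card F + 1 ∧ Fintype.card F % 4 = 3) ∨
      2 ^ (Fintype.card F ^ 2 - 1).factorization 2 *
        3 ^ (Fintype.card F ^ 2 - 1).factorization 3 = 24 ∨
      2 ^ (Fintype.card F ^ 2 - 1).factorization 2 *
        3 ^ (Fintype.card F ^ 2 - 1).factorization 3 = 48 := by
  classical
  have hp : p.Prime := Fact.out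
  obtain ⟨n, -, hn⟩ := FiniteField.card F p
  have hpq : p ∣ Fintype.card F := by rw [hn]; exact dvd_pow_self p n.ne_zero
  have hp2 : p ≠ 2 := by omega
  have hodd : Odd (Fintype.card F) := by rw [hn]; exact (hp.odd_of_ne_two hp2).pow
  have hoddm : Fintype.card F % 2 = 1 := Nat.odd_iff.mp hodd
  have hq3 : ¬ 3 ∣ Fintype.card F := by
    intro h
    rw [hn] at h
    have := (Nat.prime_dvd_prime_iff_eq Nat.prime_three hp).mp (Nat.prime_three.dvd_of_dvd_pow h)
    omega
  have hq1 : 1 < Fintype.card F := Fintype.one_lt_card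
  have hN := card_sq_sub_one_ne_zero (F := F)
  have ha := three_le_factorization_two _ hoddm hq1
  have hb := one_le_factorization_three _ hq3 hq1
  have h24 : 24 ∣ 2 * Nat.card H := by
    rw [hT]
    exact Nat.mul_dvd_mul (pow_dvd_pow 2 ha) (pow_dvd_pow 3 hb)
  have h12 : 12 ∣ Nat.card H := by
    obtain ⟨c, hc⟩ := h24
    exact ⟨c, by omega⟩
  rcases Cfsg.Agent.S0799.result (F := F) rfl p H with ⟨k, hk, hH⟩ | ⟨P, K, hK, ⟨e⟩⟩ | ⟨⟨e⟩⟩ |
    ⟨⟨e⟩⟩ | ⟨⟨e⟩⟩ | ⟨K, instK, instFK, m, hm, hH⟩
  · -- cyclic or dihedral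
    have hg : Nat.gcd 2 (Fintype.card F - 1) = 2 :=
      Nat.gcd_eq_left ((Nat.dvd_iff_mod_eq_zero).mpr (by omega))
    rw [hg] at hk
    have hHk : Nat.card H ∣ 2 * k := by
      rcases hH with ⟨-, hc⟩ | ⟨⟨e⟩⟩
      · rw [hc]; exact dvd_mul_left k 2
      · rw [Nat.card_congr e.toEquiv, DihedralGroup.nat_card]
    rcases hk with hk | hk
    · right; left
      have h1 : 2 * k ∣ Fintype.card F + 1 :=
        Nat.mul_dvd_of_dvd_div ((Nat.dvd_iff_mod_eq_zero).mpr (by omega)) hk
      obtain ⟨c, hc⟩ := (h12.trans hHk).trans h1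
      exact ⟨⟨4 * c, by omega⟩, by omega⟩
    · left
      have h1 : 2 * k ∣ Fintype.card F - 1 :=
        Nat.mul_dvd_of_dvd_div ((Nat.dvd_iff_mod_eq_zero).mpr (by omega)) hk
      obtain ⟨c, hc⟩ := (h12.trans hHk).trans h1
      exact ⟨⟨4 * c, by omega⟩, by omega⟩
  · -- inside a Borel subgroup
    exfalso
    have h1 : Nat.card H ∣ Nat.card (Subgroup.normalizer ((P : Subgroup PSL2F) : Set PSL2F)) := by
      rw [Nat.card_congr e.toEquiv]
      exact Subgroup.card_dvd_of_le hK
    have h2 := psl2_two_mul_card_normalizer_sylow_dvd hodd p hpq P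
    have h3 : 2 ^ (Fintype.card F ^ 2 - 1).factorization 2 ∣
        (Fintype.card F - 1) * Fintype.card F := by
      refine Dvd.dvd.trans ?_ ((Nat.mul_dvd_mul_left 2 h1).trans h2)
      rw [hT]
      exact dvd_mul_right _ _
    have hcop : Nat.Coprime (2 ^ (Fintype.card F ^ 2 - 1).factorization 2) (Fintype.card F) :=
      Nat.Coprime.pow_left _ ((Nat.Prime.coprime_iff_not_dvd Nat.prime_two).mpr
        (fun h => (Nat.not_even_iff_odd.mpr hodd) (even_iff_two_dvd.mpr h)))
    have h4 := hcop.dvd_of_dvd_mul_right h3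
    exact Nat.pow_succ_factorization_not_dvd hN Nat.prime_two
      (two_pow_succ_dvd_sq_sub_one _ _ hoddm (Or.inl h4))
  · -- A4
    right; right; left
    rw [← hT, Nat.card_congr e.toEquiv, card_alternatingGroup_fin_four]
  · -- S4
    right; right; right
    rw [← hT, Nat.card_congr e.toEquiv, card_perm_fin_four]
  · -- A5
    exfalso
    rw [Nat.card_congr e.toEquiv, card_alternatingGroup_fin_five] at hT
    have h5 : 5 ∣ 2 ^ (Fintype.card F ^ 2 - 1).factorization 2 *
        3 ^ (Fintype.card F ^ 2 - 1).factorization 3 := by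
      rw [← hT]; norm_num
    have := prime_le_three_of_dvd_two_pow_mul_three_pow 5 _ _ (by norm_num) h5
    omega
  · -- subfield subgroups
    exfalso
    have hm0 : m ≠ 0 := by
      rintro rfl
      rw [pow_zero] at hm
      omega
    have hpK : p ∣ Fintype.card K := by
      rw [← hm] at hpq
      exact hp.dvd_of_dvd_pow hpq
    have hpT : p ∣ 2 * Nat.card H := by
      rcases hH with ⟨⟨e⟩⟩ | ⟨⟨e⟩⟩
      · have hoddK : Odd (Fintype.card K) := by
          rw [← hm] at hodd
          exact (Nat.odd_pow_iff hm0).mp hodd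
        rw [Nat.card_congr e.toEquiv, Cfsg.Agent.Helper41.two_mul_card_PSL2 hoddK]
        exact Dvd.dvd.mul_right hpK _
      · rw [Nat.card_congr e.toEquiv, Cfsg.Agent.Helper46.card_PGL2]
        exact Dvd.dvd.mul_left (Dvd.dvd.mul_right hpK _) 2
    rw [hT] at hpT
    have := prime_le_three_of_dvd_two_pow_mul_three_pow p _ _ hp hpT
    omega

/-- A solvable subgroup of `SL₂` containing the centre and of index prime to `6` yields a Hall
`{2, 3}`-subgroup of `PSL₂`. -/
theorem psl2_exists_hall_of_solvable (N : Subgroup SL2F) [Group.IsSolvable N]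
    (hc : Subgroup.center SL2F ≤ N) (h2 : ¬ 2 ∣ N.index) (h3 : ¬ 3 ∣ N.index) :
    ∃ H : Subgroup PSL2F, Cfsg.IsPiHall ({2, 3} : Set ℕ) H := by
  have hMi : (N.map (QuotientGroup.mk' (Subgroup.center SL2F))).index = N.index :=
    Subgroup.index_map_eq N (QuotientGroup.mk'_surjective _)
      (by rw [QuotientGroup.ker_mk']; exact hc)
  haveI : Group.IsSolvable (N.map (QuotientGroup.mk' (Subgroup.center SL2F))) :=
    Group.isSolvable_of_surjective
      ((QuotientGroup.mk' (Subgroup.center SL2F)).subgroupMap_surjective N)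
  obtain ⟨S, hS1, hS2⟩ := Cfsg.Agent.Helper60.exists_hall (fun l => l = 2 ∨ l = 3)
    (N.map (QuotientGroup.mk' (Subgroup.center SL2F)))
  refine ⟨S.map (N.map (QuotientGroup.mk' (Subgroup.center SL2F))).subtype, ?_, ?_⟩
  · intro l hl hd
    have hcard : Nat.card (S.map (N.map (QuotientGroup.mk' (Subgroup.center SL2F))).subtype) =
        Nat.card S :=
      Nat.card_congr (S.equivMapOfInjective _ (Subgroup.subtype_injective _)).symm.toEquiv
    rw [hcard] at hd
    have := hS1 l hl hd
    simpa using this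
  · intro l hl hmem hd
    rw [Subgroup.index_map_subtype] at hd
    have hmem' : l = 2 ∨ l = 3 := by simpa using hmem
    rcases (Nat.Prime.dvd_mul hl).mp hd with hd | hd
    · exact hS2 l hl hd hmem'
    · rw [hMi] at hd
      rcases hmem' with rfl | rfl
      · exact h2 hd
      · exact h3 hd

/-- The normalizer of the torus containing an element of order three. -/
theorem sl2_exists_torus_normalizer [DecidableEq F] (p : ℕ) [Fact p.Prime] [CharP F p]
    (hp5 : 5 ≤ p) (h3 : 3 ∣ Fintype.card F ^ 2 - 1) :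
    ∃ (N : Subgroup SL2F) (c : ℕ), Group.IsSolvable N ∧ Subgroup.center SL2F ≤ N ∧ 3 ∣ c ∧
      (c = Fintype.card F - 1 ∨ c = Fintype.card F + 1) ∧ Nat.card N = 2 * c := by
  have hp : p.Prime := Fact.out
  obtain ⟨n, -, hn⟩ := FiniteField.card F p
  have hp2 : p ≠ 2 := by omega
  have hodd : Odd (Fintype.card F) := by rw [hn]; exact (hp.odd_of_ne_two hp2).pow
  have hodd' : Fintype.card F % 2 = 1 := Nat.odd_iff.mp hodd
  have h2 : (2 : F) ≠ 0 := Cfsg.Agent.Helper5.two_ne_zero_of_odd_card hodd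
  have h3G : 3 ∣ Nat.card SL2F := by
    rw [Cfsg.Agent.Helper5.card_SL2]
    exact Dvd.dvd.mul_left h3 _
  haveI : Fact (Nat.Prime 3) := ⟨Nat.prime_three⟩
  obtain ⟨z, hz⟩ := exists_prime_orderOf_dvd_card' 3 h3G
  have ht : (Matrix.trace (z : M2F)) ^ 2 ≠ 4 := by
    intro ht
    have hc := Cfsg.Agent.Helper41.sl2_pow_char_mem_center p z ht
    have hsq := Cfsg.Agent.Helper37.SL2Q.sq_eq_one_of_mem_center _ hc
    rw [← pow_mul] at hsq
    have hd := orderOf_dvd_of_pow_eq_one hsq
    rw [hz] at hd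
    rcases (Nat.Prime.dvd_mul Nat.prime_three).mp hd with h | h
    · have := (Nat.prime_dvd_prime_iff_eq Nat.prime_three hp).mp h
      omega
    · have := Nat.le_of_dvd (by norm_num) h
      omega
  have hA := Cfsg.Agent.Helper41.not_scalar_of_trace_sq_ne_four (z : M2F) z.det_coe ht
  obtain ⟨w, hw⟩ := Cfsg.Agent.Helper41.sl2_exists_conj_eq_inv hodd' h2 z ht
  have hcardN := Cfsg.Agent.Helper41.sl2_card_normalizer_centralizer h2 z w ht hw
  have hidx := Cfsg.Agent.Helper41.sl2_index_centralizer_subgroupOf_normalizer h2 z w ht hw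
  have hC := Cfsg.Agent.S0809.card_centralizer_add_rootCount h2 hodd' z ht
  have hdvd : 3 ∣ Nat.card (Subgroup.centralizer ({z} : Set SL2F)) := by
    have hzC : z ∈ Subgroup.centralizer ({z} : Set SL2F) := by
      rw [Subgroup.mem_centralizer_singleton_iff]
    have h1 : orderOf (⟨z, hzC⟩ : Subgroup.centralizer ({z} : Set SL2F)) ∣
        Nat.card (Subgroup.centralizer ({z} : Set SL2F)) := orderOf_dvd_natCard _
    rw [Subgroup.orderOf_mk, hz] at h1
    exact h1
  refine ⟨Subgroup.normalizer ((Subgroup.centralizer ({z} : Set SL2F) : Subgroup SL2F) :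
    Set SL2F), Nat.card (Subgroup.centralizer ({z} : Set SL2F)), ?_, ?_, hdvd, ?_, hcardN⟩
  · -- solvable
    haveI hnorm : ((Subgroup.centralizer ({z} : Set SL2F)).subgroupOf (Subgroup.normalizer
        ((Subgroup.centralizer ({z} : Set SL2F) : Subgroup SL2F) : Set SL2F))).Normal :=
      Subgroup.normal_in_normalizer
    haveI hs1 : Group.IsSolvable ((Subgroup.centralizer ({z} : Set SL2F)).subgroupOf
        (Subgroup.normalizer
          ((Subgroup.centralizer ({z} : Set SL2F) : Subgroup SL2F) : Set SL2F))) := by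
      apply Group.isSolvable_of_comm
      rintro ⟨⟨a, haN⟩, ha⟩ ⟨⟨b, hbN⟩, hb⟩
      apply Subtype.ext
      apply Subtype.ext
      exact Cfsg.Agent.Helper41.sl2_centralizer_comm z a b hA ha hb
    haveI hs2 : Group.IsSolvable (Subgroup.normalizer
        ((Subgroup.centralizer ({z} : Set SL2F) : Subgroup SL2F) : Set SL2F) ⧸
        (Subgroup.centralizer ({z} : Set SL2F)).subgroupOf (Subgroup.normalizer
          ((Subgroup.centralizer ({z} : Set SL2F) : Subgroup SL2F) : Set SL2F))) := by
      have hcard2 : Nat.card (Subgroup.normalizer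
          ((Subgroup.centralizer ({z} : Set SL2F) : Subgroup SL2F) : Set SL2F) ⧸
          (Subgroup.centralizer ({z} : Set SL2F)).subgroupOf (Subgroup.normalizer
            ((Subgroup.centralizer ({z} : Set SL2F) : Subgroup SL2F) : Set SL2F))) = 2 := by
        rw [← Subgroup.index_eq_card, hidx]
      haveI : Fact (Nat.Prime 2) := ⟨Nat.prime_two⟩
      haveI := isCyclic_of_prime_card hcard2
      exact Group.isSolvable_of_comm (fun a b => IsCyclic.commGroup.mul_comm a b)
    exact Group.isSolvable_of_ker_le_range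
      ((Subgroup.centralizer ({z} : Set SL2F)).subgroupOf (Subgroup.normalizer
        ((Subgroup.centralizer ({z} : Set SL2F) : Subgroup SL2F) : Set SL2F))).subtype
      (QuotientGroup.mk' ((Subgroup.centralizer ({z} : Set SL2F)).subgroupOf (Subgroup.normalizer
        ((Subgroup.centralizer ({z} : Set SL2F) : Subgroup SL2F) : Set SL2F))))
      (by rw [QuotientGroup.ker_mk', Subgroup.range_subtype])
  · exact (Subgroup.center_le_centralizer _).trans Subgroup.le_normalizer
  · by_cases h0 : Cfsg.Agent.Helper42.rootCount (Matrix.trace (z : M2F)) = 0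
    · right
      rw [h0, add_zero] at hC
      exact hC
    · left
      have h2' := Cfsg.Agent.Helper41.rootCount_eq_two_of_ne_zero _ ht h0
      rw [h2'] at hC
      omega

/-- The "if" direction, torus cases. -/
theorem psl2_exists_hall_of_three_dvd (p : ℕ) [Fact p.Prime] [CharP F p] (hp5 : 5 ≤ p)
    (h : (3 ∣ Fintype.card F - 1 ∧ Fintype.card F % 4 = 1) ∨
      (3 ∣ Fintype.card F + 1 ∧ Fintype.card F % 4 = 3)) :
    ∃ H : Subgroup PSL2F, Cfsg.IsPiHall ({2, 3} : Set ℕ) H := by
  classical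
  have hq1 : 1 < Fintype.card F := Fintype.one_lt_card
  have hsq := sq_sub_one_eq_mul (Fintype.card F) (by omega)
  have h3 : 3 ∣ Fintype.card F ^ 2 - 1 := by
    rw [hsq]
    rcases h with ⟨h, -⟩ | ⟨h, -⟩
    · exact Dvd.dvd.mul_right h _
    · exact Dvd.dvd.mul_left h _
  obtain ⟨N, c, hsolv, hcen, h3c, hc, hcardN⟩ := sl2_exists_torus_normalizer (F := F) p hp5 h3
  haveI := hsolv
  have hidx := Subgroup.index_mul_card N
  rw [Cfsg.Agent.Helper5.card_SL2, hcardN, hsq] at hidx
  rcases h with ⟨h3', h4⟩ | ⟨h3', h4⟩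
  · have hc' : c = Fintype.card F - 1 := by
      rcases hc with hc | hc
      · exact hc
      · exfalso
        rw [hc] at h3c
        obtain ⟨a, ha⟩ := h3'
        obtain ⟨b, hb⟩ := h3c
        omega
    rw [hc'] at hidx
    have h5 : N.index * 2 * (Fintype.card F - 1) =
        Fintype.card F * (Fintype.card F + 1) * (Fintype.card F - 1) := by
      rw [mul_assoc, hidx]; ring
    have h6 := Nat.eq_of_mul_eq_mul_right (by omega : 0 < Fintype.card F - 1) h5
    obtain ⟨hi2, hi3⟩ := hall_index_arith_minus _ _ h6 h4 h3'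
    exact psl2_exists_hall_of_solvable N hcen hi2 hi3
  · have hc' : c = Fintype.card F + 1 := by
      rcases hc with hc | hc
      · exfalso
        rw [hc] at h3c
        obtain ⟨a, ha⟩ := h3'
        obtain ⟨b, hb⟩ := h3c
        omega
      · exact hc
    rw [hc'] at hidx
    have h5 : N.index * 2 * (Fintype.card F + 1) =
        Fintype.card F * (Fintype.card F - 1) * (Fintype.card F + 1) := by
      rw [mul_assoc, hidx]; ring
    have h6 := Nat.eq_of_mul_eq_mul_right (by omega : 0 < Fintype.card F + 1) h5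
    obtain ⟨hi2, hi3⟩ := hall_index_arith_plus _ _ h6 h4 h3'
    exact psl2_exists_hall_of_solvable N hcen hi2 hi3

end hall

end Cfsg.Agent.Helper39
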