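import Mathlib

set_option autoImplicit false

/-!
# A criterion for a graph to be connected of diameter two (used for S3266)
-/

namespace Cfsg.Agent.Helper39

open SimpleGraph

/-- A graph in which any two distinct non-adjacent vertices have a common neighbour, and which has
two distinct non-adjacent vertices, is connected of diameter `2`. -/
theorem connected_and_diam_eq_two {V : Type*} (G : SimpleGraph V)
    (hA : ∀ x y : V, x ≠ y → ¬ G.Adj x y → ∃ z, G.Adj x z ∧ G.Adj z y)
    (hB : ∃ x y : V, x ≠ y ∧ ¬ G.Adj x y) :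
    G.Connected ∧ G.diam = 2 := by
  have hle : ∀ u v : V, G.edist u v ≤ 2 := by
    intro u v
    by_cases huv : u = v
    · subst huv
      rw [edist_self]
      exact zero_le
    · by_cases hadj : G.Adj u v
      · rw [edist_eq_one_iff_adj.mpr hadj]
        norm_num
      · obtain ⟨z, h1, h2⟩ := hA u v huv hadj
        have := (Walk.cons h1 (Walk.cons h2 Walk.nil)).edist_le
        simpa using this
  have hdiam : G.ediam ≤ 2 := ediam_le_of_edist_le hle
  have hne : G.ediam ≠ ⊤ := by
    intro h
    rw [h] at hdiam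
    exact absurd hdiam (by simp)
  obtain ⟨x, y, hxy, hnadj⟩ := hB
  haveI : Nonempty V := ⟨x⟩
  refine ⟨connected_of_ediam_ne_top hne, ?_⟩
  have h2 : (2 : ℕ∞) ≤ G.edist x y := by
    by_contra hlt
    rw [not_le] at hlt
    have h0 : G.edist x y ≠ 0 := fun h => hxy (edist_eq_zero_iff.mp h)
    have h1 : G.edist x y ≠ 1 := fun h => hnadj (edist_eq_one_iff_adj.mp h)
    have hlt' : G.edist x y < (2 : ℕ) := hlt
    obtain ⟨n, hn⟩ := ENat.ne_top_iff_exists.mp (ne_top_of_lt hlt')
    rw [← hn] at h0 h1 hlt'
    have hn2 : n < 2 := by exact_mod_cast hlt'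
    interval_cases n
    · exact h0 rfl
    · exact h1 rfl
  have he : G.ediam = 2 := le_antisymm hdiam (h2.trans edist_le_ediam)
  unfold SimpleGraph.diam
  rw [he]
  rfl

end Cfsg.Agent.Helper39
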