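import Cfsg.Agent.Helper41.SL2
import Cfsg.Agent.Helper41.SL2Conj
import Cfsg.Agent.Helper41.SL2Char2
import Cfsg.Agent.Helper41.PSL2Klein
import Cfsg.Agent.Helper41.PSL2Prod

set_option autoImplicit false

/-!
# Involutions of `PSL₂(q)` and their lifts to `SL₂(q)` (used for S3266)
-/

namespace Cfsg.Agent.Helper39

open Matrix Cfsg.Agent.Helper41

section basics

variable {F : Type*} [Field F]

local notation "SL2F" => Matrix.SpecialLinearGroup (Fin 2) F
local notation "PSL2F" => Matrix.ProjectiveSpecialLinearGroup (Fin 2) F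
local notation "M2F" => Matrix (Fin 2) (Fin 2) F

/-- A lift of an involution of `PSL₂` has trace zero and is not central. -/
theorem trace_eq_zero_of_orderOf_mk (u : SL2F) (h : orderOf (QuotientGroup.mk u : PSL2F) = 2) :
    Matrix.trace (u : M2F) = 0 ∧ u ∉ Subgroup.center SL2F := by
  have h1 : (QuotientGroup.mk u : PSL2F) ^ 2 = 1 := by
    have := pow_orderOf_eq_one (QuotientGroup.mk u : PSL2F)
    rwa [h] at this
  have hne : (QuotientGroup.mk u : PSL2F) ≠ 1 := by
    intro h0
    rw [h0, orderOf_one] at h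
    omega
  have hc : u ∉ Subgroup.center SL2F := by
    intro hc
    exact hne ((QuotientGroup.eq_one_iff u).mpr hc)
  have h2 : u ^ 2 ∈ Subgroup.center SL2F := by
    rw [← QuotientGroup.eq_one_iff, QuotientGroup.mk_pow]
    exact h1
  exact ⟨sl2_trace_eq_zero_of_sq_mem_center u h2 hc, hc⟩

/-- A trace-zero element of `SL₂` squares to `-1`. -/
theorem sq_mem_center_of_trace_eq_zero (u : SL2F) (htr : Matrix.trace (u : M2F) = 0) :
    u ^ 2 ∈ Subgroup.center SL2F := by
  have hch := sl2_cayley_hamilton u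
  rw [htr, zero_smul, zero_sub] at hch
  apply sl2_mem_center_of_eq_scalar _ (-1) (by ring)
  rw [Matrix.SpecialLinearGroup.coe_pow, pow_two, hch]
  ext i j
  fin_cases i <;> fin_cases j <;> simp

/-- A non-central trace-zero element of `SL₂` maps to an involution of `PSL₂`. -/
theorem orderOf_mk_eq_two (u : SL2F) (htr : Matrix.trace (u : M2F) = 0)
    (hc : u ∉ Subgroup.center SL2F) : orderOf (QuotientGroup.mk u : PSL2F) = 2 := by
  haveI : Fact (Nat.Prime 2) := ⟨Nat.prime_two⟩
  apply orderOf_eq_prime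
  · rw [← QuotientGroup.mk_pow, QuotientGroup.eq_one_iff]
    exact sq_mem_center_of_trace_eq_zero u htr
  · intro h
    exact hc ((QuotientGroup.eq_one_iff u).mp h)

/-- Conjugate elements have the same order (product form). -/
theorem orderOf_conj_mul_conj {G : Type*} [Group G] (h a b : G) :
    orderOf ((h * a * h⁻¹) * (h * b * h⁻¹)) = orderOf (a * b) := by
  have : (h * a * h⁻¹) * (h * b * h⁻¹) = h * (a * b) * h⁻¹ := by group
  rw [this, ← MulAut.conj_apply, MulEquiv.orderOf_eq]

end basics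

section finite

variable {F : Type*} [Field F] [Fintype F]

local notation "SL2F" => Matrix.SpecialLinearGroup (Fin 2) F
local notation "PSL2F" => Matrix.ProjectiveSpecialLinearGroup (Fin 2) F
local notation "M2F" => Matrix (Fin 2) (Fin 2) F

/-- The norm form `α² + β²` is surjective on a finite field. -/
theorem exists_sq_add_sq (e : F) : ∃ α β : F, α ^ 2 + (0 : F) * α * β + β ^ 2 = e := by
  rcases Nat.even_or_odd (Fintype.card F) with heven | hodd
  · have h2 : ringChar F = 2 := by
      have hcp : CharP F (ringChar F) := ringChar.charP F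
      obtain ⟨n, hp, hn⟩ := FiniteField.card F (ringChar F)
      rw [hn] at heven
      have := (Nat.Prime.even_iff hp).mp ((Nat.even_pow.mp heven).1)
      exact this
    obtain ⟨r, hr⟩ := FiniteField.isSquare_of_char_two h2 e
    exact ⟨r, 0, by rw [hr]; ring⟩
  · have h2 : (2 : F) ≠ 0 := Cfsg.Agent.Helper5.two_ne_zero_of_odd_card hodd
    have h4 : (0 : F) ^ 2 ≠ 4 := by
      have : (4 : F) = 2 ^ 2 := by norm_num
      rw [this]
      intro h
      have h0 : (2 : F) ^ 2 = 0 := by rw [← h]; ring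
      exact h2 (pow_eq_zero_iff (two_ne_zero) |>.mp h0)
    exact normForm_surjective_of_odd (Nat.odd_iff.mp hodd) h2 0 h4 e

/-- All non-central trace-zero elements of `SL₂(q)` are conjugate. -/
theorem exists_conj_of_trace_eq_zero (u v : SL2F) (hu : Matrix.trace (u : M2F) = 0)
    (hv : Matrix.trace (v : M2F) = 0) (huc : u ∉ Subgroup.center SL2F)
    (hvc : v ∉ Subgroup.center SL2F) : ∃ g : SL2F, g * u * g⁻¹ = v := by
  obtain ⟨S, hS, hSuv⟩ := exists_sl2_conj_of_trace_eq (u : M2F) (v : M2F) u.det_coe v.det_coe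
    (by rw [hu, hv]) (sl2_not_scalar_of_not_mem_center u huc)
    (sl2_not_scalar_of_not_mem_center v hvc)
    (fun e _ => by rw [hu]; exact exists_sq_add_sq e)
  obtain ⟨g, hg⟩ : ∃ g : SL2F, (g : M2F) = S := ⟨⟨S, hS⟩, rfl⟩
  refine ⟨g, ?_⟩
  rw [mul_inv_eq_iff_eq_mul]
  apply Subtype.ext
  rw [Matrix.SpecialLinearGroup.coe_mul, Matrix.SpecialLinearGroup.coe_mul, hg]
  exact hSuv

/-- All involutions of `PSL₂(q)` are conjugate. -/
theorem isConj_of_orderOf_eq_two (x y : PSL2F) (hx : orderOf x = 2) (hy : orderOf y = 2) :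
    IsConj x y := by
  obtain ⟨u, rfl⟩ := QuotientGroup.mk_surjective x
  obtain ⟨v, rfl⟩ := QuotientGroup.mk_surjective y
  obtain ⟨hu, huc⟩ := trace_eq_zero_of_orderOf_mk u hx
  obtain ⟨hv, hvc⟩ := trace_eq_zero_of_orderOf_mk v hy
  obtain ⟨g, hg⟩ := exists_conj_of_trace_eq_zero u v hu hv huc hvc
  rw [isConj_iff]
  refine ⟨QuotientGroup.mk g, ?_⟩
  rw [← hg]
  simp only [QuotientGroup.mk_mul, QuotientGroup.mk_inv]

/-- An element of `SL₂(q)`, `q` odd, with `tr² = 4` has odd order in `PSL₂(q)`. -/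
theorem odd_orderOf_mk_of_trace_sq_eq_four (hodd : Odd (Fintype.card F)) (A : SL2F)
    (ht : (Matrix.trace (A : M2F)) ^ 2 = 4) : Odd (orderOf (QuotientGroup.mk A : PSL2F)) := by
  have hcp : CharP F (ringChar F) := ringChar.charP F
  obtain ⟨n, hp, hn⟩ := FiniteField.card F (ringChar F)
  haveI : Fact (ringChar F).Prime := ⟨hp⟩
  have hpodd : Odd (ringChar F) := by
    rw [hn] at hodd
    exact (Nat.odd_pow_iff n.ne_zero).mp hodd
  have hc := sl2_pow_char_mem_center (ringChar F) A ht
  have h1 : (QuotientGroup.mk A : PSL2F) ^ ringChar F = 1 := by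
    rw [← QuotientGroup.mk_pow, QuotientGroup.eq_one_iff]
    exact hc
  exact Odd.of_dvd_nat hpodd (orderOf_dvd_of_pow_eq_one h1)

theorem pow_card_sub_one_eq_one_of_root (A : SL2F)
    (ht : (Matrix.trace (A : M2F)) ^ 2 ≠ 4) (a : F)
    (ha : a ^ 2 - Matrix.trace (A : M2F) * a + 1 = 0) : A ^ (Fintype.card F - 1) = 1 := by
  have hq := sl2_pow_card_eq_self A ht a ha
  have h1 : 1 ≤ Fintype.card F := Fintype.card_pos
  have : A ^ (Fintype.card F - 1) * A = 1 * A := by
    rw [← pow_succ, Nat.sub_add_cancel h1, hq, one_mul]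
  exact mul_right_cancel this

/-- For `q ≡ 3 (mod 4)`, an element of `SL₂(q)` with an eigenvalue in `F` has odd order in
`PSL₂(q)` (the Borel subgroup of `PSL₂(q)` has odd order). -/
theorem odd_orderOf_mk_of_root (h3 : Fintype.card F % 4 = 3) (A : SL2F) (a : F)
    (ha : a ^ 2 - Matrix.trace (A : M2F) * a + 1 = 0) :
    Odd (orderOf (QuotientGroup.mk A : PSL2F)) := by
  have hodd : Odd (Fintype.card F) := Nat.odd_iff.mpr (by omega)
  have h2 : (2 : F) ≠ 0 := Cfsg.Agent.Helper5.two_ne_zero_of_odd_card hodd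
  by_cases ht : (Matrix.trace (A : M2F)) ^ 2 = 4
  · exact odd_orderOf_mk_of_trace_sq_eq_four hodd A ht
  · have hA := pow_card_sub_one_eq_one_of_root A ht a ha
    obtain ⟨k, hk⟩ : ∃ k, Fintype.card F - 1 = 2 * k := ⟨(Fintype.card F - 1) / 2, by omega⟩
    have hkodd : Odd k := Nat.odd_iff.mpr (by omega)
    have hsq : (A ^ k) ^ 2 = 1 := by rw [← pow_mul, mul_comm, ← hk, hA]
    have hc := sl2_mem_center_of_sq_eq_one h2 (A ^ k) hsq
    have h1 : (QuotientGroup.mk A : PSL2F) ^ k = 1 := by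
      rw [← QuotientGroup.mk_pow, QuotientGroup.eq_one_iff]
      exact hc
    exact Odd.of_dvd_nat hkodd (orderOf_dvd_of_pow_eq_one h1)

theorem two_eq_zero_of_even_card' (heven : Even (Fintype.card F)) : (2 : F) = 0 :=
  Cfsg.Agent.Helper5.two_eq_zero_of_even_card heven

/-- In characteristic two, an element of `SL₂(q)` with nonzero trace has odd order. -/
theorem odd_orderOf_mk_of_trace_ne_zero (heven : Even (Fintype.card F)) (A : SL2F)
    (ht : Matrix.trace (A : M2F) ≠ 0) : Odd (orderOf (QuotientGroup.mk A : PSL2F)) := by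
  have h2 : (2 : F) = 0 := Cfsg.Agent.Helper5.two_eq_zero_of_even_card heven
  have hcp : CharP F (ringChar F) := ringChar.charP F
  obtain ⟨n, hp, hn⟩ := FiniteField.card F (ringChar F)
  haveI : Fact (ringChar F).Prime := ⟨hp⟩
  have h4 : (Matrix.trace (A : M2F)) ^ 2 ≠ 4 := by
    have : (4 : F) = 0 := by
      have : (4 : F) = 2 * 2 := by norm_num
      rw [this, h2, mul_zero]
    rw [this]
    exact pow_ne_zero 2 ht
  have h1 : 1 ≤ Fintype.card F := Fintype.card_pos
  by_cases hr : ∃ a : F, a ^ 2 - Matrix.trace (A : M2F) * a + 1 = 0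
  · obtain ⟨a, ha⟩ := hr
    have hA := pow_card_sub_one_eq_one_of_root A h4 a ha
    have hk : Odd (Fintype.card F - 1) := by
      obtain ⟨k, hk⟩ := heven
      exact ⟨k - 1, by omega⟩
    have h1 : (QuotientGroup.mk A : PSL2F) ^ (Fintype.card F - 1) = 1 := by
      rw [← QuotientGroup.mk_pow, hA]; rfl
    exact Odd.of_dvd_nat hk (orderOf_dvd_of_pow_eq_one h1)
  · push_neg at hr
    have hA := sl2_pow_card_add_one_eq_one (ringChar F) A hr
    have hk : Odd (Fintype.card F + 1) := by
      obtain ⟨k, hk⟩ := heven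
      exact ⟨k, by omega⟩
    have h1 : (QuotientGroup.mk A : PSL2F) ^ (Fintype.card F + 1) = 1 := by
      rw [← QuotientGroup.mk_pow, hA]; rfl
    exact Odd.of_dvd_nat hk (orderOf_dvd_of_pow_eq_one h1)

end finite

end Cfsg.Agent.Helper39
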