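import Cfsg.Agent.Helper39.InvGraphB

set_option autoImplicit false

/-!
# Common neighbours in the odd-product graph on involutions of `PSL₂(q)` (used for S3266)
-/

namespace Cfsg.Agent.Helper39

open Matrix Cfsg.Agent.Helper41

section defs

variable {F : Type*} [Field F]

local notation "SL2F" => Matrix.SpecialLinearGroup (Fin 2) F
local notation "PSL2F" => Matrix.ProjectiveSpecialLinearGroup (Fin 2) F
local notation "M2F" => Matrix (Fin 2) (Fin 2) F

/-- `u` and `v` (lifts of involutions) have a common neighbour in the odd-product graph. -/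
def HasNbr (u v : SL2F) : Prop :=
  ∃ w : SL2F, Matrix.trace (w : M2F) = 0 ∧ w ∉ Subgroup.center SL2F ∧
    (QuotientGroup.mk w : PSL2F) ≠ QuotientGroup.mk u ∧
    (QuotientGroup.mk w : PSL2F) ≠ QuotientGroup.mk v ∧
    Odd (orderOf ((QuotientGroup.mk u : PSL2F) * QuotientGroup.mk w)) ∧
    Odd (orderOf ((QuotientGroup.mk w : PSL2F) * QuotientGroup.mk v))

theorem sl2_trace_conj' (g A : SL2F) :
    Matrix.trace ((g * A * g⁻¹ : SL2F) : M2F) = Matrix.trace (A : M2F) := by
  rw [Matrix.SpecialLinearGroup.coe_mul, Matrix.trace_mul_comm, ← Matrix.SpecialLinearGroup.coe_mul,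
    inv_mul_cancel_left]

theorem hasNbr_conj (g u v : SL2F) (h : HasNbr u v) : HasNbr (g * u * g⁻¹) (g * v * g⁻¹) := by
  obtain ⟨w, hw, hwc, hwu, hwv, h1, h2⟩ := h
  refine ⟨g * w * g⁻¹, ?_, ?_, ?_, ?_, ?_, ?_⟩
  · rw [sl2_trace_conj', hw]
  · intro hc
    apply hwc
    have : w = g⁻¹ * (g * w * g⁻¹) * g := by group
    rw [this]
    exact (Subgroup.center SL2F).normal_of_characteristic.conj_mem _ hc g⁻¹ |> fun h => by
      simpa using h
  · intro he
    apply hwu
    have h3 : (QuotientGroup.mk g : PSL2F) * QuotientGroup.mk w * (QuotientGroup.mk g)⁻¹ =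
        QuotientGroup.mk g * QuotientGroup.mk u * (QuotientGroup.mk g)⁻¹ := by
      simpa only [QuotientGroup.mk_mul, QuotientGroup.mk_inv] using he
    exact mul_left_cancel (mul_right_cancel h3)
  · intro he
    apply hwv
    have h3 : (QuotientGroup.mk g : PSL2F) * QuotientGroup.mk w * (QuotientGroup.mk g)⁻¹ =
        QuotientGroup.mk g * QuotientGroup.mk v * (QuotientGroup.mk g)⁻¹ := by
      simpa only [QuotientGroup.mk_mul, QuotientGroup.mk_inv] using he
    exact mul_left_cancel (mul_right_cancel h3)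
  · simp only [QuotientGroup.mk_mul, QuotientGroup.mk_inv]
    rw [orderOf_conj_mul_conj]
    exact h1
  · simp only [QuotientGroup.mk_mul, QuotientGroup.mk_inv]
    rw [orderOf_conj_mul_conj]
    exact h2

end defs

section even

variable {F : Type*} [Field F] [Fintype F]

local notation "SL2F" => Matrix.SpecialLinearGroup (Fin 2) F
local notation "PSL2F" => Matrix.ProjectiveSpecialLinearGroup (Fin 2) F
local notation "M2F" => Matrix (Fin 2) (Fin 2) F

theorem trace_mul_self_of_trace_eq_zero (u : SL2F) (hu : Matrix.trace (u : M2F) = 0) :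
    Matrix.trace ((u * u : SL2F) : M2F) = -2 := by
  rw [Matrix.SpecialLinearGroup.coe_mul, sl2_cayley_hamilton, hu, zero_smul, zero_sub,
    Matrix.trace_neg, Matrix.trace_one]
  simp

theorem hasNbr_of_even_aux (heven : Even (Fintype.card F)) (u v w : SL2F)
    (hu : Matrix.trace (u : M2F) = 0) (hv : Matrix.trace (v : M2F) = 0)
    (hw : Matrix.trace (w : M2F) = 0) (hw1 : w ≠ 1)
    (h1 : Matrix.trace ((u * w : SL2F) : M2F) ≠ 0)
    (h2 : Matrix.trace ((w * v : SL2F) : M2F) ≠ 0) : HasNbr u v := by
  have h20 : (2 : F) = 0 := Cfsg.Agent.Helper5.two_eq_zero_of_even_card heven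
  refine ⟨w, hw, ?_, ?_, ?_, ?_, ?_⟩
  · intro hc
    exact hw1 (sl2_eq_one_of_mem_center_of_two_eq_zero h20 w hc)
  · intro he
    have := mk_injective_of_two_eq_zero h20 he
    rw [this, trace_mul_self_of_trace_eq_zero u hu, h20, neg_zero] at h1
    exact h1 rfl
  · intro he
    have := mk_injective_of_two_eq_zero h20 he
    rw [this, trace_mul_self_of_trace_eq_zero v hv, h20, neg_zero] at h2
    exact h2 rfl
  · rw [← QuotientGroup.mk_mul]
    exact odd_orderOf_mk_of_trace_ne_zero heven _ h1
  · rw [← QuotientGroup.mk_mul]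
    exact odd_orderOf_mk_of_trace_ne_zero heven _ h2

/-- In characteristic two any two involutions have a common neighbour. -/
theorem hasNbr_of_even (heven : Even (Fintype.card F)) (u v : SL2F)
    (hu : Matrix.trace (u : M2F) = 0) (hv : Matrix.trace (v : M2F) = 0)
    (huc : u ∉ Subgroup.center SL2F) (hvc : v ∉ Subgroup.center SL2F) : HasNbr u v := by
  have h20 : (2 : F) = 0 := Cfsg.Agent.Helper5.two_eq_zero_of_even_card heven
  have hneg : (-1 : F) = 1 := by linear_combination -h20
  -- the three candidates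
  obtain ⟨w1, hw1⟩ : ∃ w : SL2F, (w : M2F) = !![1, 1; 0, 1] :=
    ⟨⟨!![1, 1; 0, 1], by simp [Matrix.det_fin_two]⟩, rfl⟩
  obtain ⟨w2, hw2⟩ : ∃ w : SL2F, (w : M2F) = !![1, 0; 1, 1] :=
    ⟨⟨!![1, 0; 1, 1], by simp [Matrix.det_fin_two]⟩, rfl⟩
  obtain ⟨w3, hw3⟩ : ∃ w : SL2F, (w : M2F) = !![0, 1; 1, 0] :=
    ⟨⟨!![0, 1; 1, 0], by simp [Matrix.det_fin_two, hneg]⟩, rfl⟩
  have hne : ∀ w : SL2F, (w : M2F) 0 1 ≠ 0 ∨ (w : M2F) 1 0 ≠ 0 → w ≠ 1 := by
    rintro w h rfl
    simp at h
  have offdiag : ∀ a : SL2F, Matrix.trace (a : M2F) = 0 → a ∉ Subgroup.center SL2F →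
      (a : M2F) 0 1 ≠ 0 ∨ (a : M2F) 1 0 ≠ 0 := by
    intro a ha hac
    by_contra hcon
    push_neg at hcon
    apply hac
    have hdet := sl2_det a
    rw [Matrix.trace_fin_two] at ha
    rw [hcon.1, zero_mul, sub_zero] at hdet
    have h11 : (a : M2F) 1 1 = (a : M2F) 0 0 := by linear_combination ha - (a : M2F) 0 0 * h20
    rw [h11] at hdet
    have h00 : (a : M2F) 0 0 = 1 := by
      have h : ((a : M2F) 0 0 - 1) ^ 2 = 0 := by linear_combination hdet - (a : M2F) 0 0 * h20 + h20
      have := pow_eq_zero_iff (two_ne_zero) |>.1 h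
      linear_combination this
    have : a = 1 := by
      apply Subtype.ext
      ext i j
      fin_cases i <;> fin_cases j
      · simpa using h00
      · simpa using hcon.1
      · simpa using hcon.2
      · simpa using h11.trans h00
    rw [this]
    exact Subgroup.one_mem _
  have t1 : ∀ a : SL2F, Matrix.trace (a : M2F) = 0 →
      Matrix.trace ((a * w1 : SL2F) : M2F) = (a : M2F) 1 0 ∧
      Matrix.trace ((w1 * a : SL2F) : M2F) = (a : M2F) 1 0 := by
    intro a ha
    rw [Matrix.trace_fin_two] at ha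
    constructor
    · rw [Matrix.SpecialLinearGroup.coe_mul, hw1, Matrix.trace_fin_two]
      simp [Matrix.mul_apply, Fin.sum_univ_two]
      linear_combination ha
    · rw [Matrix.SpecialLinearGroup.coe_mul, hw1, Matrix.trace_fin_two]
      simp [Matrix.mul_apply, Fin.sum_univ_two]
      linear_combination ha
  have t2 : ∀ a : SL2F, Matrix.trace (a : M2F) = 0 →
      Matrix.trace ((a * w2 : SL2F) : M2F) = (a : M2F) 0 1 ∧
      Matrix.trace ((w2 * a : SL2F) : M2F) = (a : M2F) 0 1 := by
    intro a ha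
    rw [Matrix.trace_fin_two] at ha
    constructor
    · rw [Matrix.SpecialLinearGroup.coe_mul, hw2, Matrix.trace_fin_two]
      simp [Matrix.mul_apply, Fin.sum_univ_two]
      linear_combination ha
    · rw [Matrix.SpecialLinearGroup.coe_mul, hw2, Matrix.trace_fin_two]
      simp [Matrix.mul_apply, Fin.sum_univ_two]
      linear_combination ha
  have t3 : ∀ a : SL2F,
      Matrix.trace ((a * w3 : SL2F) : M2F) = (a : M2F) 0 1 + (a : M2F) 1 0 ∧
      Matrix.trace ((w3 * a : SL2F) : M2F) = (a : M2F) 0 1 + (a : M2F) 1 0 := by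
    intro a
    constructor
    · rw [Matrix.SpecialLinearGroup.coe_mul, hw3, Matrix.trace_fin_two]
      simp [Matrix.mul_apply, Fin.sum_univ_two]
    · rw [Matrix.SpecialLinearGroup.coe_mul, hw3, Matrix.trace_fin_two]
      simp [Matrix.mul_apply, Fin.sum_univ_two]
      ring
  have hw1tr : Matrix.trace (w1 : M2F) = 0 := by
    rw [hw1, Matrix.trace_fin_two]; simp; linear_combination h20
  have hw2tr : Matrix.trace (w2 : M2F) = 0 := by
    rw [hw2, Matrix.trace_fin_two]; simp; linear_combination h20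
  have hw3tr : Matrix.trace (w3 : M2F) = 0 := by
    rw [hw3, Matrix.trace_fin_two]; simp
  have hw1ne : w1 ≠ 1 := hne w1 (Or.inl (by rw [hw1]; simp))
  have hw2ne : w2 ≠ 1 := hne w2 (Or.inr (by rw [hw2]; simp))
  have hw3ne : w3 ≠ 1 := hne w3 (Or.inl (by rw [hw3]; simp))
  have hou := offdiag u hu huc
  have hov := offdiag v hv hvc
  by_cases hu10 : (u : M2F) 1 0 = 0
  · have hu01 : (u : M2F) 0 1 ≠ 0 := by
      rcases hou with h | h
      · exact h
      · exact absurd hu10 h
    by_cases hv01 : (v : M2F) 0 1 = 0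
    · have hv10 : (v : M2F) 1 0 ≠ 0 := by
        rcases hov with h | h
        · exact absurd hv01 h
        · exact h
      apply hasNbr_of_even_aux heven u v w3 hu hv hw3tr hw3ne
      · rw [(t3 u).1, hu10, add_zero]; exact hu01
      · rw [(t3 v).2, hv01, zero_add]; exact hv10
    · apply hasNbr_of_even_aux heven u v w2 hu hv hw2tr hw2ne
      · rw [(t2 u hu).1]; exact hu01
      · rw [(t2 v hv).2]; exact hv01
  · by_cases hv10 : (v : M2F) 1 0 = 0
    · have hv01 : (v : M2F) 0 1 ≠ 0 := by
        rcases hov with h | h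
        · exact h
        · exact absurd hv10 h
      by_cases hu01 : (u : M2F) 0 1 = 0
      · apply hasNbr_of_even_aux heven u v w3 hu hv hw3tr hw3ne
        · rw [(t3 u).1, hu01, zero_add]; exact hu10
        · rw [(t3 v).2, hv10, add_zero]; exact hv01
      · apply hasNbr_of_even_aux heven u v w2 hu hv hw2tr hw2ne
        · rw [(t2 u hu).1]; exact hu01
        · rw [(t2 v hv).2]; exact hv01
    · apply hasNbr_of_even_aux heven u v w1 hu hv hw1tr hw1ne
      · rw [(t1 u hu).1]; exact hu10
      · rw [(t1 v hv).2]; exact hv10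

end even

section odd

variable {F : Type*} [Field F] [Fintype F]

local notation "SL2F" => Matrix.SpecialLinearGroup (Fin 2) F
local notation "PSL2F" => Matrix.ProjectiveSpecialLinearGroup (Fin 2) F
local notation "M2F" => Matrix (Fin 2) (Fin 2) F

theorem not_mem_center_of_trace_eq_zero (h2 : (2 : F) ≠ 0) (w : SL2F)
    (hw : Matrix.trace (w : M2F) = 0) : w ∉ Subgroup.center SL2F := by
  intro hc
  rw [sl2_mem_center_iff] at hc
  obtain ⟨r, hr, hwr⟩ := hc
  rw [hwr, Matrix.trace_fin_two] at hw
  simp [Matrix.scalar_apply] at hw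
  have hr0 : r = 0 := by
    have : 2 * r = 0 := by linear_combination hw
    rcases mul_eq_zero.mp this with h | h
    · exact absurd h h2
    · exact h
  rw [hr0] at hr
  simp at hr

theorem mk_eq_of_coe_eq_neg (A B : SL2F) (h : (B : M2F) = -(A : M2F)) :
    (QuotientGroup.mk B : PSL2F) = QuotientGroup.mk A := by
  have hB : B = sl2NegOne * A := by
    apply Subtype.ext
    rw [Matrix.SpecialLinearGroup.coe_mul, h]
    ext i j
    fin_cases i <;> fin_cases j <;>
      simp [sl2NegOne, Matrix.mul_apply, Fin.sum_univ_two, Matrix.scalar_apply]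
  rw [hB, QuotientGroup.mk_mul, (QuotientGroup.eq_one_iff _).mpr sl2NegOne_mem_center, one_mul]

/-- If `w` and `u` have the same image in `PSL₂` then `tr (w v) ^ 2 = tr (u v) ^ 2`. -/
theorem trace_mul_sq_eq_of_mk_eq (u w v : SL2F)
    (h : (QuotientGroup.mk w : PSL2F) = QuotientGroup.mk u) :
    Matrix.trace ((w * v : SL2F) : M2F) ^ 2 = Matrix.trace ((u * v : SL2F) : M2F) ^ 2 ∧
    Matrix.trace ((v * w : SL2F) : M2F) ^ 2 = Matrix.trace ((v * u : SL2F) : M2F) ^ 2 := by
  obtain ⟨r, hr, hwr⟩ := coe_eq_smul_of_mk_eq u w h.symm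
  have hr2 : r ^ 2 = 1 := by rcases hr with rfl | rfl <;> ring
  constructor
  · rw [Matrix.SpecialLinearGroup.coe_mul, Matrix.SpecialLinearGroup.coe_mul, hwr,
      Matrix.smul_mul, Matrix.trace_smul, smul_eq_mul, mul_pow, hr2, one_mul]
  · rw [Matrix.SpecialLinearGroup.coe_mul, Matrix.SpecialLinearGroup.coe_mul, hwr,
      Matrix.mul_smul, Matrix.trace_smul, smul_eq_mul, mul_pow, hr2, one_mul]

/-- Packaging: a trace-zero `w` whose products with `u` and `v` have traces of square `4`, while
`u v` has not, is a common neighbour (`q` odd). -/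
theorem hasNbr_of_unipotent (hodd : Odd (Fintype.card F)) (u v w : SL2F)
    (hw : Matrix.trace (w : M2F) = 0)
    (huv : Matrix.trace ((u * v : SL2F) : M2F) ^ 2 ≠ 4)
    (h1 : Matrix.trace ((u * w : SL2F) : M2F) ^ 2 = 4)
    (h2 : Matrix.trace ((w * v : SL2F) : M2F) ^ 2 = 4) : HasNbr u v := by
  have h20 : (2 : F) ≠ 0 := Cfsg.Agent.Helper5.two_ne_zero_of_odd_card hodd
  refine ⟨w, hw, not_mem_center_of_trace_eq_zero h20 w hw, ?_, ?_, ?_, ?_⟩
  · intro he
    apply huv
    rw [← (trace_mul_sq_eq_of_mk_eq u w v he).1, h2]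
  · intro he
    apply huv
    rw [← (trace_mul_sq_eq_of_mk_eq v w u he).2, h1]
  · rw [← QuotientGroup.mk_mul]
    exact odd_orderOf_mk_of_trace_sq_eq_four hodd _ h1
  · rw [← QuotientGroup.mk_mul]
    exact odd_orderOf_mk_of_trace_sq_eq_four hodd _ h2

/-- Common neighbour for `q ≡ 1 (mod 4)`, first vertex in standard form. -/
theorem hasNbr_std_of_one_mod_four (h1 : Fintype.card F % 4 = 1) (W v : SL2F)
    (hW : (W : M2F) = !![0, 1; -1, 0]) (hv : Matrix.trace (v : M2F) = 0)
    (hne : (QuotientGroup.mk v : PSL2F) ≠ QuotientGroup.mk W)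
    (hnadj : ¬ Odd (orderOf ((QuotientGroup.mk W : PSL2F) * QuotientGroup.mk v))) :
    HasNbr W v := by
  have hodd : Odd (Fintype.card F) := Nat.odd_iff.mpr (by omega)
  have h20 : (2 : F) ≠ 0 := Cfsg.Agent.Helper5.two_ne_zero_of_odd_card hodd
  obtain ⟨i, hi⟩ : IsSquare (-1 : F) := FiniteField.isSquare_neg_one_iff.mpr (by omega)
  have hi0 : i ≠ 0 := by
    rintro rfl
    simp at hi
  have huv : Matrix.trace ((W * v : SL2F) : M2F) ^ 2 ≠ 4 := by
    intro h
    apply hnadj
    rw [← QuotientGroup.mk_mul]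
    exact odd_orderOf_mk_of_trace_sq_eq_four hodd _ h
  set a := (v : M2F) 0 0 with ha
  set b := (v : M2F) 0 1 with hb
  set c := (v : M2F) 1 0 with hc
  have hd : (v : M2F) 1 1 = -a := by
    rw [Matrix.trace_fin_two] at hv
    linear_combination hv
  have hdet : -a ^ 2 - b * c = 1 := by
    have := sl2_det v
    rw [hd] at this
    linear_combination this
  -- choose the sign of the square root of -1
  obtain ⟨j, hj, hD⟩ : ∃ j : F, j * j = -1 ∧ 2 * a * j + b + c ≠ 0 := by
    by_cases hD : 2 * a * i + b + c = 0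
    · refine ⟨-i, by linear_combination -hi, ?_⟩
      intro hD'
      apply hne
      have ha0 : a = 0 := by
        have : 4 * a * i = 0 := by linear_combination hD - hD'
        have h4 : (4 : F) ≠ 0 := by
          have : (4 : F) = 2 * 2 := by norm_num
          rw [this]; exact mul_ne_zero h20 h20
        rcases mul_eq_zero.mp this with h | h
        · rcases mul_eq_zero.mp h with h | h
          · exact absurd h h4
          · exact h
        · exact absurd h hi0
      have hbc : c = -b := by linear_combination hD - 2 * i * ha0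
      have hb2 : (b - 1) * (b + 1) = 0 := by
        rw [ha0, hbc] at hdet
        linear_combination hdet
      rcases mul_eq_zero.mp hb2 with hb1 | hb1
      · -- v = W
        have : v = W := by
          apply Subtype.ext
          rw [hW]
          ext k l
          fin_cases k <;> fin_cases l
          · simpa using ha0
          · simp; linear_combination hb1
          · simp; linear_combination hbc - hb1
          · simp; rw [hd, ha0, neg_zero]
        rw [this]
      · apply mk_eq_of_coe_eq_neg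
        rw [hW]
        ext k l
        fin_cases k <;> fin_cases l
        · simpa using ha0
        · simp; linear_combination hb1
        · simp; linear_combination hbc - hb1
        · simp; rw [hd, ha0, neg_zero]
    · exact ⟨i, hi.symm, hD⟩
  set z := (2 + 2 * a * j + 2 * c) / (2 * a * j + b + c) with hz
  have hzD : z * (2 * a * j + b + c) = 2 + 2 * a * j + 2 * c := by
    rw [hz]; field_simp
  obtain ⟨w, hw⟩ : ∃ w : SL2F, (w : M2F) = !![j * (z - 1), z - 2; z, -(j * (z - 1))] := by
    refine ⟨⟨!![j * (z - 1), z - 2; z, -(j * (z - 1))], ?_⟩, rfl⟩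
    rw [Matrix.det_fin_two]
    simp
    linear_combination -(z - 1) ^ 2 * hj
  apply hasNbr_of_unipotent hodd W v w
  · rw [hw, Matrix.trace_fin_two]; simp
  · exact huv
  · have : Matrix.trace ((W * w : SL2F) : M2F) = 2 := by
      rw [Matrix.SpecialLinearGroup.coe_mul, hW, hw, Matrix.trace_fin_two]
      simp [Matrix.mul_apply, Fin.sum_univ_two]
    rw [this]; norm_num
  · have : Matrix.trace ((w * v : SL2F) : M2F) = 2 := by
      rw [Matrix.SpecialLinearGroup.coe_mul, hw, Matrix.trace_fin_two]
      simp [Matrix.mul_apply, Fin.sum_univ_two]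
      rw [hd]
      linear_combination hzD
    rw [this]; norm_num

end odd

end Cfsg.Agent.Helper39
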