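import Cfsg.Agent.Helper39.InvGraphC

set_option autoImplicit false

/-!
# Common neighbours for `q ≡ 3 (mod 4)`: the pigeonhole argument (used for S3266)
-/

namespace Cfsg.Agent.Helper39

open Matrix Polynomial Cfsg.Agent.Helper41

section pigeon

variable {F : Type*} [Field F] [Fintype F] [DecidableEq F]

/-- A nonzero quadratic has at most two roots in any finite set. -/
theorem card_filter_quadratic_le (α β γ : F) (h : α ≠ 0 ∨ β ≠ 0 ∨ γ ≠ 0) (s : Finset F) :
    (s.filter (fun m => α * m ^ 2 + β * m + γ = 0)).card ≤ 2 := by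
  set P : F[X] := C α * X ^ 2 + C β * X + C γ with hP
  have hP0 : P ≠ 0 := by
    intro h0
    have h2 : P.coeff 2 = α := by rw [hP]; simp [coeff_X, coeff_C]
    have h1 : P.coeff 1 = β := by rw [hP]; simp [coeff_X, coeff_C, coeff_X_pow]
    have h0' : P.coeff 0 = γ := by rw [hP]; simp [coeff_X, coeff_C]
    rw [h0] at h2 h1 h0'
    simp only [coeff_zero] at h2 h1 h0'
    rcases h with h | h | h
    · exact h h2.symm
    · exact h h1.symm
    · exact h h0'.symm
  have hsub : s.filter (fun m => α * m ^ 2 + β * m + γ = 0) ⊆ P.roots.toFinset := by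
    intro m hm
    rw [Finset.mem_filter] at hm
    rw [Multiset.mem_toFinset, mem_roots hP0, IsRoot.def, hP]
    simp only [eval_add, eval_mul, eval_C, eval_pow, eval_X]
    exact hm.2
  calc (s.filter (fun m => α * m ^ 2 + β * m + γ = 0)).card ≤ P.roots.toFinset.card :=
        Finset.card_le_card hsub
    _ ≤ Multiset.card P.roots := Multiset.toFinset_card_le _
    _ ≤ P.natDegree := card_roots' P
    _ ≤ 2 := natDegree_quadratic_le

/-- The set of traces `λ + λ⁻¹` of split elements is large. -/
theorem exists_good_trace_set (h2 : (2 : F) ≠ 0) :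
    ∃ I : Finset F, (∀ τ ∈ I, ∃ l : F, l ≠ 0 ∧ τ = l + l⁻¹) ∧
      Fintype.card F + 1 ≤ 2 * I.card := by
  have h4 : (4 : F) ≠ 0 := by
    have : (4 : F) = 2 * 2 := by norm_num
    rw [this]; exact mul_ne_zero h2 h2
  set S : Finset F := Finset.univ.filter (fun l => l ≠ 0 ∧ l ≠ 1 ∧ l ≠ -1) with hS
  set J : Finset F := S.image (fun l => l + l⁻¹) with hJ
  have hScard : Fintype.card F ≤ S.card + 3 := by
    have hsub : (Finset.univ : Finset F) ⊆ S ∪ {0, 1, -1} := by
      intro l _
      by_cases h0 : l = 0
      · rw [h0]; simp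
      by_cases h1 : l = 1
      · rw [h1]; simp
      by_cases h1' : l = -1
      · rw [h1']; simp
      · apply Finset.mem_union_left
        rw [hS, Finset.mem_filter]
        exact ⟨Finset.mem_univ _, h0, h1, h1'⟩
    calc Fintype.card F = (Finset.univ : Finset F).card := rfl
      _ ≤ (S ∪ {0, 1, -1}).card := Finset.card_le_card hsub
      _ ≤ S.card + ({0, 1, -1} : Finset F).card := Finset.card_union_le _ _
      _ ≤ S.card + 3 := by
          apply Nat.add_le_add_left
          exact Finset.card_le_three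
  have hfib : S.card ≤ 2 * J.card := by
    apply Finset.card_le_mul_card_image
    intro τ _
    have hsub : S.filter (fun l => l + l⁻¹ = τ) ⊆
        S.filter (fun l => (1 : F) * l ^ 2 + (-τ) * l + 1 = 0) := by
      intro l hl
      rw [Finset.mem_filter] at hl ⊢
      refine ⟨hl.1, ?_⟩
      have hl0 : l ≠ 0 := by
        have := hl.1
        rw [hS, Finset.mem_filter] at this
        exact this.2.1
      rw [← hl.2]
      field_simp
      ring
    exact (Finset.card_le_card hsub).trans
      (card_filter_quadratic_le 1 (-τ) 1 (Or.inl one_ne_zero) S)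
  have h2J : (2 : F) ∉ J := by
    intro h
    rw [hJ, Finset.mem_image] at h
    obtain ⟨l, hl, hl2⟩ := h
    rw [hS, Finset.mem_filter] at hl
    obtain ⟨-, hl0, hl1, -⟩ := hl
    apply hl1
    have : (l - 1) ^ 2 = 0 := by
      field_simp at hl2
      linear_combination hl2
    have := pow_eq_zero_iff (two_ne_zero) |>.mp this
    linear_combination this
  have hm2J : (-2 : F) ∉ J := by
    intro h
    rw [hJ, Finset.mem_image] at h
    obtain ⟨l, hl, hl2⟩ := h
    rw [hS, Finset.mem_filter] at hl
    obtain ⟨-, hl0, -, hl1⟩ := hl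
    apply hl1
    have : (l + 1) ^ 2 = 0 := by
      field_simp at hl2
      linear_combination hl2
    have := pow_eq_zero_iff (two_ne_zero) |>.mp this
    linear_combination this
  have h2ne : (2 : F) ≠ -2 := by
    intro h
    apply h4
    linear_combination h
  refine ⟨insert 2 (insert (-2) J), ?_, ?_⟩
  · intro τ hτ
    rw [Finset.mem_insert, Finset.mem_insert] at hτ
    rcases hτ with rfl | rfl | hτ
    · exact ⟨1, one_ne_zero, by norm_num⟩
    · exact ⟨-1, by norm_num, by norm_num⟩
    · rw [hJ, Finset.mem_image] at hτ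
      obtain ⟨l, hl, rfl⟩ := hτ
      rw [hS, Finset.mem_filter] at hl
      exact ⟨l, hl.2.1, rfl⟩
  · rw [Finset.card_insert_of_notMem, Finset.card_insert_of_notMem hm2J]
    · omega
    · rw [Finset.mem_insert]
      rintro (h | h)
      · exact h2ne h
      · exact h2J h

theorem one_add_sq_ne_zero (h3 : Fintype.card F % 4 = 3) (m : F) : 1 + m ^ 2 ≠ 0 := by
  intro h
  have hsq : IsSquare (-1 : F) := ⟨m, by linear_combination -h⟩
  exact (FiniteField.isSquare_neg_one_iff.mp hsq) h3

/-- The pigeonhole step: a nonconstant degree-two rational parametrisation of a conic meets the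
set of split traces. -/
theorem exists_param_good_trace (h3 : Fintype.card F % 4 = 3) (ρ A B κ : F) (hρ : ρ ≠ 0)
    (hAB : A ≠ 0 ∨ B ≠ 0) :
    ∃ m l : F, l ≠ 0 ∧ ρ * (A * (1 - m ^ 2) + 2 * B * m) / (1 + m ^ 2) + κ = l + l⁻¹ := by
  have hodd : Odd (Fintype.card F) := Nat.odd_iff.mpr (by omega)
  have h2 : (2 : F) ≠ 0 := Cfsg.Agent.Helper5.two_ne_zero_of_odd_card hodd
  set f : F → F := fun m => ρ * (A * (1 - m ^ 2) + 2 * B * m) / (1 + m ^ 2) + κ with hf
  have hI1 : (Finset.univ : Finset F).card ≤ 2 * (Finset.univ.image f).card := by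
    apply Finset.card_le_mul_card_image
    intro τ _
    have hsub : (Finset.univ : Finset F).filter (fun m => f m = τ) ⊆
        (Finset.univ : Finset F).filter
          (fun m => (-(ρ * A) - (τ - κ)) * m ^ 2 + (2 * ρ * B) * m + (ρ * A - (τ - κ)) = 0) := by
      intro m hm
      rw [Finset.mem_filter] at hm ⊢
      refine ⟨hm.1, ?_⟩
      have hn := one_add_sq_ne_zero h3 m
      have h1 := hm.2
      rw [hf] at h1
      simp only at h1
      field_simp at h1
      linear_combination h1
    refine (Finset.card_le_card hsub).trans (card_filter_quadratic_le _ _ _ ?_ _)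
    by_contra hcon
    push_neg at hcon
    obtain ⟨e1, e2, e3⟩ := hcon
    have hB : B = 0 := by
      rcases mul_eq_zero.mp e2 with h | h
      · rcases mul_eq_zero.mp h with h | h
        · exact absurd h h2
        · exact absurd h hρ
      · exact h
    have hA : A = 0 := by
      have : 2 * ρ * A = 0 := by linear_combination e3 - e1
      rcases mul_eq_zero.mp this with h | h
      · rcases mul_eq_zero.mp h with h | h
        · exact absurd h h2
        · exact absurd h hρ
      · exact h
    rcases hAB with h | h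
    · exact h hA
    · exact h hB
  obtain ⟨I2, hI2, hcard⟩ := exists_good_trace_set h2
  by_contra hno
  push_neg at hno
  have hdisj : Disjoint (Finset.univ.image f) I2 := by
    rw [Finset.disjoint_left]
    intro τ h1 h2'
    rw [Finset.mem_image] at h1
    obtain ⟨m, -, rfl⟩ := h1
    obtain ⟨l, hl0, hl⟩ := hI2 _ h2'
    exact hno m l hl0 hl
  have hunion := Finset.card_union_of_disjoint hdisj
  have hle : (Finset.univ.image f ∪ I2).card ≤ Fintype.card F := Finset.card_le_univ _
  have hq : (Finset.univ : Finset F).card = Fintype.card F := rfl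
  omega

end pigeon

section three

variable {F : Type*} [Field F] [Fintype F]

local notation "SL2F" => Matrix.SpecialLinearGroup (Fin 2) F
local notation "PSL2F" => Matrix.ProjectiveSpecialLinearGroup (Fin 2) F
local notation "M2F" => Matrix (Fin 2) (Fin 2) F

theorem root_of_add_inv (l : F) (hl : l ≠ 0) : l ^ 2 - (l + l⁻¹) * l + 1 = 0 := by
  field_simp
  ring

/-- Common neighbour for `q ≡ 3 (mod 4)`, first vertex in standard form. -/
theorem hasNbr_std_of_three_mod_four (h3 : Fintype.card F % 4 = 3) (hq : 4 ≤ Fintype.card F)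
    (W v : SL2F) (hW : (W : M2F) = !![0, 1; -1, 0]) (hv : Matrix.trace (v : M2F) = 0)
    (hnadj : ¬ Odd (orderOf ((QuotientGroup.mk W : PSL2F) * QuotientGroup.mk v))) :
    HasNbr W v := by
  classical
  have hodd : Odd (Fintype.card F) := Nat.odd_iff.mpr (by omega)
  have h2 : (2 : F) ≠ 0 := Cfsg.Agent.Helper5.two_ne_zero_of_odd_card hodd
  have h4 : (4 : F) ≠ 0 := by
    have : (4 : F) = 2 * 2 := by norm_num
    rw [this]; exact mul_ne_zero h2 h2
  set a := (v : M2F) 0 0 with ha
  set b := (v : M2F) 0 1 with hb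
  set c := (v : M2F) 1 0 with hc
  have hd : (v : M2F) 1 1 = -a := by
    rw [Matrix.trace_fin_two] at hv
    linear_combination hv
  have hdet : -a ^ 2 - b * c = 1 := by
    have := sl2_det v
    rw [hd] at this
    linear_combination this
  have htrWv : Matrix.trace ((W * v : SL2F) : M2F) = c - b := by
    rw [Matrix.SpecialLinearGroup.coe_mul, hW, Matrix.trace_fin_two]
    simp [Matrix.mul_apply, Fin.sum_univ_two]
    ring
  -- non-adjacency: `(c - b)^2 - 4` is not a square
  have hN1 : ∀ σ : F, σ ^ 2 ≠ (c - b) ^ 2 - 4 := by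
    intro σ hσ
    apply hnadj
    rw [← QuotientGroup.mk_mul]
    apply odd_orderOf_mk_of_root h3 (W * v) ((c - b + σ) / 2)
    rw [htrWv]
    field_simp
    linear_combination hσ
  have hAB : (2 * a) ≠ 0 ∨ (b + c) ≠ 0 := by
    by_contra hcon
    push_neg at hcon
    apply hN1 0
    have ha0 : a = 0 := by
      rcases mul_eq_zero.mp hcon.1 with h | h
      · exact absurd h h2
      · exact h
    have hbc : c = -b := by linear_combination hcon.2
    rw [ha0, hbc] at hdet
    rw [hbc]
    linear_combination -4 * hdet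
  -- a split trace `s` with `s^2 ≠ 4`
  obtain ⟨l₀, hl0, hl1⟩ : ∃ l : F, l ≠ 0 ∧ l ^ 2 ≠ 1 := by
    by_contra hcon
    push_neg at hcon
    have hsub : (Finset.univ : Finset F) ⊆ {0, 1, -1} := by
      intro l _
      by_cases h0 : l = 0
      · rw [h0]; simp
      · have := hcon l h0
        have h' : (l - 1) * (l + 1) = 0 := by linear_combination this
        rcases mul_eq_zero.mp h' with h | h
        · have : l = 1 := by linear_combination h
          rw [this]; simp
        · have : l = -1 := by linear_combination h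
          rw [this]; simp
    have := Finset.card_le_card hsub
    have h3' : ({0, 1, -1} : Finset F).card ≤ 3 := Finset.card_le_three
    have hq' : (Finset.univ : Finset F).card = Fintype.card F := rfl
    omega
  set s := l₀ + l₀⁻¹ with hs
  set ρ := (l₀ - l₀⁻¹) / 2 with hρdef
  have hρ : ρ ≠ 0 := by
    rw [hρdef]
    intro h
    apply hl1
    field_simp at h
    linear_combination h
  have hρ2 : 4 * ρ ^ 2 = s ^ 2 - 4 := by
    rw [hρdef, hs]
    field_simp
    ring
  obtain ⟨m, l, hl, hml⟩ := exists_param_good_trace h3 ρ (2 * a) (b + c) (s * (b - c) / 2) hρ hAB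
  have hn := one_add_sq_ne_zero h3 m
  set c1 := (1 - m ^ 2) / (1 + m ^ 2) with hc1
  set c2 := 2 * m / (1 + m ^ 2) with hc2
  have hcirc : c1 ^ 2 + c2 ^ 2 = 1 := by
    rw [hc1, hc2]
    field_simp
    ring
  obtain ⟨w, hw⟩ : ∃ w : SL2F,
      (w : M2F) = !![ρ * c1, ρ * c2 - s / 2; ρ * c2 + s / 2, -(ρ * c1)] := by
    refine ⟨⟨!![ρ * c1, ρ * c2 - s / 2; ρ * c2 + s / 2, -(ρ * c1)], ?_⟩, rfl⟩
    rw [Matrix.det_fin_two]
    simp
    field_simp
    linear_combination (-4 * ρ ^ 2) * hcirc - hρ2
  have hwtr : Matrix.trace (w : M2F) = 0 := by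
    rw [hw, Matrix.trace_fin_two]; simp
  have htrWw : Matrix.trace ((W * w : SL2F) : M2F) = s := by
    rw [Matrix.SpecialLinearGroup.coe_mul, hW, hw, Matrix.trace_fin_two]
    simp [Matrix.mul_apply, Fin.sum_univ_two]
    field_simp
    ring
  have htrwv : Matrix.trace ((w * v : SL2F) : M2F) = l + l⁻¹ := by
    rw [← hml, Matrix.SpecialLinearGroup.coe_mul, hw, Matrix.trace_fin_two]
    simp [Matrix.mul_apply, Fin.sum_univ_two]
    rw [hd, hc1, hc2]
    field_simp
    ring
  have htrWW : Matrix.trace ((W * W : SL2F) : M2F) = -2 := by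
    rw [Matrix.SpecialLinearGroup.coe_mul, hW, Matrix.trace_fin_two]
    simp [Matrix.mul_apply, Fin.sum_univ_two]
    norm_num
  refine ⟨w, hwtr, not_mem_center_of_trace_eq_zero h2 w hwtr, ?_, ?_, ?_, ?_⟩
  · intro he
    have := (trace_mul_sq_eq_of_mk_eq W w W he).2
    rw [htrWw, htrWW] at this
    apply hρ
    have h0 : 4 * ρ ^ 2 = 0 := by rw [hρ2, this]; ring
    rcases mul_eq_zero.mp h0 with h | h
    · exact absurd h h4
    · exact pow_eq_zero_iff (two_ne_zero) |>.mp h
  · intro he
    have := (trace_mul_sq_eq_of_mk_eq v w W he).2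
    rw [htrWw, htrWv] at this
    apply hN1 (2 * ρ)
    rw [← this]
    linear_combination hρ2
  · rw [← QuotientGroup.mk_mul]
    apply odd_orderOf_mk_of_root h3 (W * w) l₀
    rw [htrWw, hs]
    exact root_of_add_inv l₀ hl0
  · rw [← QuotientGroup.mk_mul]
    apply odd_orderOf_mk_of_root h3 (w * v) l
    rw [htrwv]
    exact root_of_add_inv l hl

end three

end Cfsg.Agent.Helper39
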