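import Cfsg.Agent.Helper39.InvGraphA
import Cfsg.Agent.Helper39.InvGraphD

set_option autoImplicit false

/-!
# The odd-product graph on the involutions of `PSL₂(q)` (assembly for S3266)
-/

namespace Cfsg.Agent.Helper39

open Matrix Cfsg.Agent.Helper41

section assembly

variable {F : Type*} [Field F] [Fintype F]

local notation "SL2F" => Matrix.SpecialLinearGroup (Fin 2) F
local notation "PSL2F" => Matrix.ProjectiveSpecialLinearGroup (Fin 2) F
local notation "M2F" => Matrix (Fin 2) (Fin 2) F

theorem orderOf_conj' {G : Type*} [Group G] (c a : G) : orderOf (c * a * c⁻¹) = orderOf a := by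
  rw [← MulAut.conj_apply, MulEquiv.orderOf_eq]

theorem orderOf_mul_comm' {G : Type*} [Group G] (x y : G) : orderOf (x * y) = orderOf (y * x) := by
  have : y * x = x⁻¹ * (x * y) * x⁻¹⁻¹ := by group
  rw [this, orderOf_conj']

theorem orderOf_eq_of_isConj' {G : Type*} [Group G] {x y : G} (h : IsConj x y) :
    orderOf y = orderOf x := by
  obtain ⟨c, rfl⟩ := isConj_iff.mp h
  exact orderOf_conj' c x

/-- Common neighbours exist for any two distinct non-adjacent involutions (`q ≥ 4`). -/
theorem hasNbr_of_not_adj (hq : 4 ≤ Fintype.card F) (u v : SL2F)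
    (hu : Matrix.trace (u : M2F) = 0) (hv : Matrix.trace (v : M2F) = 0)
    (huc : u ∉ Subgroup.center SL2F) (hvc : v ∉ Subgroup.center SL2F)
    (hne : (QuotientGroup.mk u : PSL2F) ≠ QuotientGroup.mk v)
    (hnadj : ¬ Odd (orderOf ((QuotientGroup.mk u : PSL2F) * QuotientGroup.mk v))) :
    HasNbr u v := by
  rcases Nat.even_or_odd (Fintype.card F) with heven | hodd
  · exact hasNbr_of_even heven u v hu hv huc hvc
  · have h2 : (2 : F) ≠ 0 := Cfsg.Agent.Helper5.two_ne_zero_of_odd_card hodd
    obtain ⟨W, hW⟩ : ∃ W : SL2F, (W : M2F) = !![0, 1; -1, 0] :=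
      ⟨⟨!![0, 1; -1, 0], by simp [Matrix.det_fin_two]⟩, rfl⟩
    have hWtr : Matrix.trace (W : M2F) = 0 := by
      rw [hW, Matrix.trace_fin_two]; simp
    have hWc := not_mem_center_of_trace_eq_zero h2 W hWtr
    obtain ⟨g, hg⟩ := exists_conj_of_trace_eq_zero W u hWtr hu hWc huc
    set v' := g⁻¹ * v * g with hv'
    have hvg : g * v' * g⁻¹ = v := by rw [hv']; group
    have hv'tr : Matrix.trace (v' : M2F) = 0 := by
      have := sl2_trace_conj' g⁻¹ v
      rw [inv_inv] at this
      rw [hv', this, hv]
    have hord : orderOf ((QuotientGroup.mk W : PSL2F) * QuotientGroup.mk v') =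
        orderOf ((QuotientGroup.mk u : PSL2F) * QuotientGroup.mk v) := by
      rw [← hg, ← hvg]
      simp only [QuotientGroup.mk_mul, QuotientGroup.mk_inv]
      rw [orderOf_conj_mul_conj]
    have hnadj' : ¬ Odd (orderOf ((QuotientGroup.mk W : PSL2F) * QuotientGroup.mk v')) := by
      rw [hord]; exact hnadj
    have hne' : (QuotientGroup.mk v' : PSL2F) ≠ QuotientGroup.mk W := by
      intro he
      apply hne
      rw [← hg, ← hvg]
      simp only [QuotientGroup.mk_mul, QuotientGroup.mk_inv]
      rw [he]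
    have hmod : Fintype.card F % 4 = 1 ∨ Fintype.card F % 4 = 3 := by
      have := Nat.odd_iff.mp hodd
      omega
    have key : HasNbr W v' := by
      rcases hmod with h1 | h3
      · exact hasNbr_std_of_one_mod_four h1 W v' hW hv'tr hne' hnadj'
      · exact hasNbr_std_of_three_mod_four h3 hq W v' hW hv'tr hnadj'
    have := hasNbr_conj g W v' key
    rwa [hg, hvg] at this

/-- Two distinct commuting involutions. -/
theorem exists_commuting_involutions (hq : 4 ≤ Fintype.card F) :
    ∃ u v : SL2F, Matrix.trace (u : M2F) = 0 ∧ Matrix.trace (v : M2F) = 0 ∧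
      u ∉ Subgroup.center SL2F ∧ v ∉ Subgroup.center SL2F ∧
      (QuotientGroup.mk u : PSL2F) ≠ QuotientGroup.mk v ∧
      orderOf ((QuotientGroup.mk u : PSL2F) * QuotientGroup.mk v) = 2 := by
  classical
  rcases Nat.even_or_odd (Fintype.card F) with heven | hodd
  · have h20 : (2 : F) = 0 := Cfsg.Agent.Helper5.two_eq_zero_of_even_card heven
    obtain ⟨e, he0, he1⟩ : ∃ e : F, e ≠ 0 ∧ e ≠ 1 := by
      by_contra hcon
      push_neg at hcon
      have hsub : (Finset.univ : Finset F) ⊆ {0, 1} := by
        intro l _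
        by_cases h0 : l = 0
        · rw [h0]; simp
        · rw [hcon l h0]; simp
      have := Finset.card_le_card hsub
      have h3' : ({0, 1} : Finset F).card ≤ 2 := Finset.card_le_two
      have hq' : (Finset.univ : Finset F).card = Fintype.card F := rfl
      omega
    obtain ⟨u, hu⟩ : ∃ w : SL2F, (w : M2F) = !![1, 1; 0, 1] :=
      ⟨⟨!![1, 1; 0, 1], by simp [Matrix.det_fin_two]⟩, rfl⟩
    obtain ⟨v, hv⟩ : ∃ w : SL2F, (w : M2F) = !![1, e; 0, 1] :=
      ⟨⟨!![1, e; 0, 1], by simp [Matrix.det_fin_two]⟩, rfl⟩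
    have hne1 : ∀ w : SL2F, (w : M2F) 0 1 ≠ 0 → w ∉ Subgroup.center SL2F := by
      intro w h hc
      have := sl2_eq_one_of_mem_center_of_two_eq_zero h20 w hc
      rw [this] at h
      simp at h
    have hutr : Matrix.trace (u : M2F) = 0 := by
      rw [hu, Matrix.trace_fin_two]; simp; linear_combination h20
    have hvtr : Matrix.trace (v : M2F) = 0 := by
      rw [hv, Matrix.trace_fin_two]; simp; linear_combination h20
    refine ⟨u, v, hutr, hvtr, hne1 u (by rw [hu]; simp), hne1 v (by rw [hv]; simpa using he0),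
      ?_, ?_⟩
    · intro he
      have := mk_injective_of_two_eq_zero h20 he
      have h01 := congrArg (fun w : SL2F => (w : M2F) 0 1) this
      simp only [hu, hv] at h01
      simp at h01
      exact he1 h01.symm
    · rw [← QuotientGroup.mk_mul]
      apply orderOf_mk_eq_two
      · rw [Matrix.SpecialLinearGroup.coe_mul, hu, hv, Matrix.trace_fin_two]
        simp [Matrix.mul_apply, Fin.sum_univ_two]
        linear_combination h20
      · apply hne1
        rw [Matrix.SpecialLinearGroup.coe_mul, hu, hv]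
        simp [Matrix.mul_apply, Fin.sum_univ_two]
        intro h
        apply he1
        linear_combination h - h20
  · have h2 : (2 : F) ≠ 0 := Cfsg.Agent.Helper5.two_ne_zero_of_odd_card hodd
    obtain ⟨a, b, hab⟩ := exists_sq_add_sq (-1 : F)
    obtain ⟨W, hW⟩ : ∃ W : SL2F, (W : M2F) = !![0, 1; -1, 0] :=
      ⟨⟨!![0, 1; -1, 0], by simp [Matrix.det_fin_two]⟩, rfl⟩
    obtain ⟨v, hv⟩ : ∃ w : SL2F, (w : M2F) = !![a, b; b, -a] := by
      refine ⟨⟨!![a, b; b, -a], ?_⟩, rfl⟩
      rw [Matrix.det_fin_two]
      simp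
      linear_combination -hab
    have hWtr : Matrix.trace (W : M2F) = 0 := by
      rw [hW, Matrix.trace_fin_two]; simp
    have hvtr : Matrix.trace (v : M2F) = 0 := by
      rw [hv, Matrix.trace_fin_two]; simp
    refine ⟨W, v, hWtr, hvtr, not_mem_center_of_trace_eq_zero h2 W hWtr,
      not_mem_center_of_trace_eq_zero h2 v hvtr, ?_, ?_⟩
    · intro he
      obtain ⟨r, hr, hvr⟩ := coe_eq_smul_of_mk_eq W v he
      rw [hW, hv] at hvr
      have e01 := congrFun (congrFun hvr 0) 1
      have e10 := congrFun (congrFun hvr 1) 0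
      simp at e01 e10
      have : 2 * r = 0 := by linear_combination e10 - e01
      rcases mul_eq_zero.mp this with h | h
      · exact h2 h
      · rcases hr with h1 | h1
        · rw [h1] at h; exact one_ne_zero h
        · rw [h1] at h; exact one_ne_zero (neg_eq_zero.mp h)
    · rw [← QuotientGroup.mk_mul]
      apply orderOf_mk_eq_two
      · rw [Matrix.SpecialLinearGroup.coe_mul, hW, hv, Matrix.trace_fin_two]
        simp [Matrix.mul_apply, Fin.sum_univ_two]
      · apply not_mem_center_of_trace_eq_zero h2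
        rw [Matrix.SpecialLinearGroup.coe_mul, hW, hv, Matrix.trace_fin_two]
        simp [Matrix.mul_apply, Fin.sum_univ_two]

end assembly

end Cfsg.Agent.Helper39
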