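import Cfsg.Agent.Helper20.Fpf
import Cfsg.Agent.Helper31.Fpf7920
import Cfsg.Agent.Helper9.FratIdx
import Cfsg.Agent.Helper39.Ord983.Kit3

/-!
# Piece (S-35) of helper61's S2490 (order 7920, disconnected prime graph => simple)

`index_two_of_35`: in a group of order 7920 without elements of order 6, 10, 33, 55 every proper
non-trivial normal subgroup has order 3960.
-/

set_option autoImplicit false
set_option maxRecDepth 100000

namespace Cfsg.Agent.Helper39.Ord7920

open Subgroup Cfsg.Agent.Helper17 Cfsg.Agent.Helper39.Ord983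

/-- The Frattini/fixed-point-free constraint, as a Boolean. -/
def fratOK (q r n i : ℕ) : Bool :=
  (List.range 5).all fun j => (List.range 5).all fun a =>
    !(decide (q ^ j ∣ i) && decide (r ^ a ∣ n) && !decide (r ^ (a + 1) ∣ n)) ||
      decide (q ^ j ∣ r ^ a - 1)

theorem fratOK_of {G : Type*} [Group G] [Finite G] (N : Subgroup G) [N.Normal] {q r : ℕ}
    [Fact q.Prime] [Fact r.Prime] (hqr : q ≠ r) (hno : ∀ g : G, orderOf g ≠ q * r) :
    fratOK q r (Nat.card N) N.index = true := by
  unfold fratOK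
  rw [List.all_eq_true]
  intro j _
  rw [List.all_eq_true]
  intro a _
  by_cases hA : q ^ j ∣ N.index
  · by_cases hB : r ^ a ∣ Nat.card N
    · by_cases hC : r ^ (a + 1) ∣ Nat.card N
      · simp [hC]
      · obtain ⟨m, hm⟩ := hB
        have hrm : ¬ r ∣ m := by
          rintro ⟨m', rfl⟩
          apply hC
          exact ⟨m', by rw [hm, pow_succ]; ring⟩
        have := Cfsg.Agent.Helper20.Fpf.frat_pow_dvd N hqr hno j hA a m hm hrm
        simp [this]
    · simp [hB]
  · simp [hA]

/-- The numerical check for the two special cases. -/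
def specOK (p s1 s2 ι : ℕ) : Bool :=
  (List.range 7921).all fun M => (List.range p).all fun f =>
    !(decide (M ∣ 7920) && decide (f ∣ p - 1) && decide (f ∣ M) && decide (p ∣ M / f) &&
      !decide (s1 ∣ M / f) && !decide (s2 ∣ M / f) && decide (ι ∣ M) &&
      ((7920 / M) % p == 1)) || (M / ι == p)

/-- The two special cases `|N| = 1584` (`p = 11`) and `|N| = 1980` (`p = 5`). -/
theorem kill_case {G : Type*} [Group G] [Finite G] (hG : Nat.card G = 7920) (N : Subgroup G)
    [N.Normal] (p mp s1 s2 r a m : ℕ) [hp : Fact p.Prime] [hs1' : Fact s1.Prime]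
    [hs2' : Fact s2.Prime] [hr' : Fact r.Prime]
    (hpc : 7920 = p ^ 1 * mp) (hpm : ¬ p ∣ mp) (hpN : p ∣ Nat.card N)
    (hps1 : p ≠ s1) (hps2 : p ≠ s2) (hpr : p ≠ r)
    (hs1 : ∀ g : G, orderOf g ≠ p * s1) (hs2 : ∀ g : G, orderOf g ≠ p * s2)
    (hr : ∀ g : G, orderOf g ≠ p * r)
    (hcard : Nat.card N = r ^ a * m) (hm : ¬ r ∣ m)
    (hdec : specOK p s1 s2 N.index = true) (hnd : ¬ p ∣ r ^ a - 1) : False := by
  obtain ⟨P⟩ : Nonempty (Sylow p G) := inferInstance
  have hcardG : Nat.card G = p ^ 1 * mp := hG.trans hpc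
  have hP : ∀ P : Sylow p G, Nat.card (P : Subgroup G) = p := fun P => by
    simpa using card_sylow_subgroup_of_card_eq hcardG hpm P
  have hPN : (P : Subgroup G) ≤ N :=
    Cfsg.Agent.Helper9.FratIdx.sylow_le_normal N P (by rw [hP P]; exact hpN)
  have hfrat := Cfsg.Agent.Helper9.FratIdx.frattini_index N P hPN
  obtain ⟨h1, h2⟩ := relIndex_dvd_of_card_sylow_prime P (hP P)
  have h3 := card_centralizer_mul_relIndex (P : Subgroup G)
  have h4 := card_normalizer_mul_card_sylow P
  rw [hG] at h4
  set M := Nat.card (normalizer ((P : Subgroup G) : Set G)) with hM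
  set C := Nat.card (centralizer ((P : Subgroup G) : Set G)) with hC
  set f := (centralizer ((P : Subgroup G) : Set G)).relIndex
    (normalizer ((P : Subgroup G) : Set G)) with hf
  set K := Nat.card (normalizer ((P : Subgroup G) : Set G) ⊓ N : Subgroup G) with hK
  have hp2 := hp.out.two_le
  have hMpos : 0 < M := Nat.card_pos
  have hf0 : f ≠ 0 := by
    intro h0
    rw [h0, Nat.mul_zero] at h3
    omega
  have hfp : f < p := by
    have := Nat.le_of_dvd (by omega) h1
    omega
  have hι0 : N.index ≠ 0 := Subgroup.index_ne_zero_of_finite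
  have hCf : M / f = C := by
    rw [← h3]; exact Nat.mul_div_cancel _ (Nat.pos_of_ne_zero hf0)
  have hpC : p ∣ C := by
    have : p * f ∣ C * f := by rw [h3]; exact h2
    exact (Nat.mul_dvd_mul_iff_right (Nat.pos_of_ne_zero hf0)).mp this
  have hnot : ∀ s : ℕ, [Fact s.Prime] → p ≠ s → (∀ g : G, orderOf g ≠ p * s) → ¬ s ∣ C := by
    intro s _ hps hno hsC
    obtain ⟨x, y, hx, hy, hxy⟩ := (dvd_card_centralizer_iff hP P s).mp hsC
    apply hno (x * y)
    rw [hxy.orderOf_mul_eq_mul_orderOf_of_coprime, hx, hy]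
    rw [hx, hy]
    exact (Nat.coprime_primes hp.out (Fact.out : s.Prime)).mpr hps
  have hnp : (7920 / M) % p = 1 := by
    have h5 : 7920 / M = Nat.card (Sylow p G) := by
      rw [← h4]; exact Nat.mul_div_cancel_left _ hMpos
    rw [h5]
    have : Nat.card (Sylow p G) % p = 1 % p := card_sylow_modEq_one p G
    rwa [Nat.mod_eq_of_lt hp.out.one_lt] at this
  have hKp : K = p := by
    unfold specOK at hdec
    rw [List.all_eq_true] at hdec
    have hM7920 : M ∣ 7920 := ⟨_, h4.symm⟩
    have hMle : M ≤ 7920 := Nat.le_of_dvd (by norm_num) hM7920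
    have hd := hdec M (List.mem_range.mpr (by omega))
    rw [List.all_eq_true] at hd
    have hd' := hd f (List.mem_range.mpr hfp)
    have hMK : M / N.index = K := by
      rw [hfrat]; exact Nat.mul_div_cancel_left _ (Nat.pos_of_ne_zero hι0)
    rw [hCf, hMK] at hd'
    have e1 : decide (M ∣ 7920) = true := decide_eq_true hM7920
    have e2 : decide (f ∣ p - 1) = true := decide_eq_true h1
    have e3 : decide (f ∣ M) = true := decide_eq_true ⟨C, by rw [← h3]; ring⟩
    have e4 : decide (p ∣ C) = true := decide_eq_true hpC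
    have e5 : decide (s1 ∣ C) = false := decide_eq_false (hnot s1 hps1 hs1)
    have e6 : decide (s2 ∣ C) = false := decide_eq_false (hnot s2 hps2 hs2)
    have e7 : decide (N.index ∣ M) = true := decide_eq_true ⟨K, hfrat⟩
    rw [e1, e2, e3, e4, e5, e6, e7] at hd'
    simpa [hnp] using hd'
  -- the Sylow `p`-subgroup of `N`
  set P' : Sylow p ↥N := P.subtype hPN with hP'
  have hP'coe : (P' : Subgroup ↥N) = (P : Subgroup G).subgroupOf N := P.coe_subtype hPN
  have hP'card : Nat.card (P' : Subgroup ↥N) = p := by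
    rw [hP'coe, Nat.card_congr (Subgroup.subgroupOfEquivOfLe hPN).toEquiv, hP P]
  have hcomm : ∀ a ∈ (P' : Subgroup ↥N), ∀ b ∈ (P' : Subgroup ↥N), a * b = b * a := by
    haveI : Fact (Nat.card (P' : Subgroup ↥N)).Prime := ⟨hP'card.symm ▸ hp.out⟩
    haveI : IsCyclic (P' : Subgroup ↥N) := isCyclic_of_prime_card rfl
    intro a ha b hb
    have := (IsCyclic.commGroup (α := (P' : Subgroup ↥N))).mul_comm ⟨a, ha⟩ ⟨b, hb⟩
    exact congrArg Subtype.val this
  have hself : Nat.card (normalizer ((P' : Subgroup ↥N) : Set ↥N)) =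
      Nat.card (P' : Subgroup ↥N) := by
    rw [hP'card, hP'coe, ← subgroupOf_normalizer_eq hPN, ← Subgroup.inf_subgroupOf_right,
      Nat.card_congr (Subgroup.subgroupOfEquivOfLe inf_le_right).toEquiv]
    exact hKp
  have hnoN : ∀ g : ↥N, orderOf g ≠ p * r := fun g => by
    rw [← Subgroup.orderOf_coe]; exact hr g
  have := Cfsg.Agent.Helper31.Fpf7920.burnside_fpf hpr hnoN P' hcomm hself a m hcard hm
  rw [hP'card] at this
  exact hnd this

/-- The enumeration of the possible orders of `N`. -/
theorem key_orders : (List.range 7921).all (fun n =>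
    !(decide (n ∣ 7920) && (n != 1) && (n != 7920) &&
      fratOK 2 3 n (7920 / n) && fratOK 3 2 n (7920 / n) &&
      fratOK 2 5 n (7920 / n) && fratOK 5 2 n (7920 / n) &&
      fratOK 3 11 n (7920 / n) && fratOK 11 3 n (7920 / n) &&
      fratOK 5 11 n (7920 / n) && fratOK 11 5 n (7920 / n)) ||
    ((n == 1584) || (n == 1980) || (n == 3960))) = true := by
  decide +kernel

/-- **(S-35)**. -/
theorem index_two_of_35 {G : Type*} [Group G] [Finite G] (hG : Nat.card G = 7920)
    (h6 : ∀ g : G, orderOf g ≠ 6) (h10 : ∀ g : G, orderOf g ≠ 10)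
    (h33 : ∀ g : G, orderOf g ≠ 33) (h55 : ∀ g : G, orderOf g ≠ 55) (N : Subgroup G)
    (hN : N.Normal) (hbot : N ≠ ⊥) (htop : N ≠ ⊤) : Nat.card N = 3960 := by
  haveI := hN
  haveI : Fact (Nat.Prime 2) := ⟨by norm_num⟩
  haveI : Fact (Nat.Prime 3) := ⟨by norm_num⟩
  haveI : Fact (Nat.Prime 5) := ⟨by norm_num⟩
  haveI : Fact (Nat.Prime 11) := ⟨by norm_num⟩
  have hni : Nat.card N * N.index = 7920 := by rw [← hG]; exact N.card_mul_index
  have hn1 : Nat.card N ≠ 1 := fun h => hbot (Subgroup.card_eq_one.mp h)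
  have hn2 : Nat.card N ≠ 7920 := fun h => htop (Subgroup.eq_top_of_card_eq N (h.trans hG.symm))
  have hnpos : 0 < Nat.card N := Nat.card_pos
  have hidx : N.index = 7920 / Nat.card N := by
    rw [← hni]; exact (Nat.mul_div_cancel_left _ hnpos).symm
  have hdvd : Nat.card N ∣ 7920 := ⟨_, hni.symm⟩
  have hle : Nat.card N ≤ 7920 := Nat.le_of_dvd (by norm_num) hdvd
  have f1 := fratOK_of N (q := 2) (r := 3) (by norm_num) (by simpa using h6)
  have f2 := fratOK_of N (q := 3) (r := 2) (by norm_num) (by simpa using h6)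
  have f3 := fratOK_of N (q := 2) (r := 5) (by norm_num) (by simpa using h10)
  have f4 := fratOK_of N (q := 5) (r := 2) (by norm_num) (by simpa using h10)
  have f5 := fratOK_of N (q := 3) (r := 11) (by norm_num) (by simpa using h33)
  have f6 := fratOK_of N (q := 11) (r := 3) (by norm_num) (by simpa using h33)
  have f7 := fratOK_of N (q := 5) (r := 11) (by norm_num) (by simpa using h55)
  have f8 := fratOK_of N (q := 11) (r := 5) (by norm_num) (by simpa using h55)
  rw [hidx] at f1 f2 f3 f4 f5 f6 f7 f8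
  have key := key_orders
  rw [List.all_eq_true] at key
  have hk := key (Nat.card N) (List.mem_range.mpr (by omega))
  rw [f1, f2, f3, f4, f5, f6, f7, f8, decide_eq_true hdvd] at hk
  simp only [Bool.and_true, Bool.true_and, Bool.or_eq_true, Bool.not_eq_true',
    Bool.and_eq_false_iff, bne_eq_false_iff_eq, beq_iff_eq] at hk
  rcases hk with (hk | hk) | hk
  · exact absurd hk hn1
  · exact absurd hk hn2
  rcases hk with (hk | hk) | hk
  · -- |N| = 1584, index 5
    exfalso
    have hi : N.index = 5 := by rw [hidx, hk]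
    exact kill_case hG N 11 720 3 5 3 2 176 (by norm_num) (by norm_num) (by rw [hk]; norm_num)
      (by norm_num) (by norm_num) (by norm_num) (by simpa using h33) (by simpa using h55)
      (by simpa using h33) (by rw [hk]; norm_num) (by norm_num)
      (by rw [hi]; decide +kernel) (by norm_num)
  · -- |N| = 1980, index 4
    exfalso
    have hi : N.index = 4 := by rw [hidx, hk]
    exact kill_case hG N 5 1584 2 11 2 2 495 (by norm_num) (by norm_num) (by rw [hk]; norm_num)
      (by norm_num) (by norm_num) (by norm_num) (by simpa using h10) (by simpa using h55)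
      (by simpa using h10) (by rw [hk]; norm_num) (by norm_num)
      (by rw [hi]; decide +kernel) (by norm_num)
  · exact hk

end Cfsg.Agent.Helper39.Ord7920
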