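import Cfsg.Agent.Helper39.PSL2Steinberg
import Cfsg.Agent.Helper39.HalfCount2

set_option autoImplicit false

/-!
# The central characters of the irreducible characters of `SL₂(F)`, `q` odd
-/

namespace Cfsg.Agent.Helper39

open Matrix Cfsg
open scoped ComplexConjugate

attribute [local instance] mulCharFintype

variable {F : Type*} [Field F] [Fintype F] [DecidableEq F]

theorem sum_image_two_to_one_int {ι κ : Type*} [DecidableEq ι] [DecidableEq κ] (s : Finset ι)
    (f : ι → κ) (σ : ι → ι) (hσ : ∀ i ∈ s, σ i ∈ s ∧ σ i ≠ i)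
    (hf : ∀ i ∈ s, ∀ j ∈ s, f j = f i ↔ (j = i ∨ j = σ i)) (g : κ → ℤ) :
    2 * ∑ k ∈ s.image f, g k = ∑ i ∈ s, g (f i) := by
  rw [Finset.mul_sum]
  apply Finset.sum_image'
  intro i hi
  have hfil : s.filter (fun j => f j = f i) = {i, σ i} := by
    ext j
    simp only [Finset.mem_filter, Finset.mem_insert, Finset.mem_singleton]
    constructor
    · rintro ⟨hj, h⟩
      exact (hf i hi j hj).mp h
    · rintro (rfl | rfl)
      · exact ⟨hi, rfl⟩
      · exact ⟨(hσ i hi).1, (hf i hi _ (hσ i hi).1).mpr (Or.inr rfl)⟩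
  rw [hfil, Finset.sum_pair (hσ i hi).2.symm]
  have h2 : f (σ i) = f i := (hf i hi _ (hσ i hi).1).mpr (Or.inr rfl)
  rw [h2]
  ring

/-! ### The sign of an irreducible character at the central element -/

omit [Fintype F] [DecidableEq F] in
theorem zSL_mul_zSL : (zSL : Matrix.SpecialLinearGroup (Fin 2) F) * zSL = 1 := by
  apply sl2_ext
  · rw [sl2_mul_00, zSL_00, zSL_01, zSL_10]; simp
  · rw [sl2_mul_01, zSL_00, zSL_01, zSL_11]; simp
  · rw [sl2_mul_10, zSL_10, zSL_11, zSL_00]; simp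
  · rw [sl2_mul_11, zSL_10, zSL_11, zSL_01]; simp

omit [DecidableEq F] in
theorem irr_zSL_mul {χ : Matrix.SpecialLinearGroup (Fin 2) F → ℂ}
    (hχ : IsIrrCharacter (Matrix.SpecialLinearGroup (Fin 2) F) χ) :
    (∀ s, χ (zSL * s) = χ s) ∨ (∀ s, χ (zSL * s) = -χ s) := by
  obtain ⟨c, -, hc⟩ := irr_central_mul hχ zSL zSL_comm
  have h1 : χ 1 ≠ 0 := by
    have hpos := Cfsg.Agent.Helper80.IsIrrCharacter.charDegree_pos hχ
    rw [← Cfsg.Agent.Helper74.charDegree_cast (Cfsg.Agent.Helper74.isCharacter_of_isIrr hχ)]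
    exact_mod_cast hpos.ne'
  have hcc : c * c = 1 := by
    have h2 := hc (zSL * 1)
    rw [hc 1, ← mul_assoc, zSL_mul_zSL, one_mul] at h2
    have : (c * c - 1) * χ 1 = 0 := by linear_combination -h2
    rcases mul_eq_zero.mp this with h | h
    · linear_combination h
    · exact absurd h h1
  have hpm : c = 1 ∨ c = -1 := by
    have : (c - 1) * (c + 1) = 0 := by linear_combination hcc
    rcases mul_eq_zero.mp this with h | h
    · left; linear_combination h
    · right; linear_combination h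
  rcases hpm with rfl | rfl
  · left; intro s; rw [hc s, one_mul]
  · right; intro s; rw [hc s]; ring

/-- The sign of a function at the central element. -/
noncomputable def csgn (χ : Matrix.SpecialLinearGroup (Fin 2) F → ℂ) : ℤ :=
  if χ zSL = χ 1 then 1 else -1

omit [Fintype F] [DecidableEq F] in
theorem csgn_cases (χ : Matrix.SpecialLinearGroup (Fin 2) F → ℂ) : csgn χ = 1 ∨ csgn χ = -1 := by
  unfold csgn
  split_ifs
  · left; rfl
  · right; rfl

omit [DecidableEq F] in
theorem csgn_spec {χ : Matrix.SpecialLinearGroup (Fin 2) F → ℂ}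
    (hχ : IsIrrCharacter (Matrix.SpecialLinearGroup (Fin 2) F) χ) :
    χ zSL = (csgn χ : ℂ) * χ 1 := by
  unfold csgn
  split_ifs with h
  · rw [h]; simp
  · rcases irr_zSL_mul hχ with h' | h'
    · exfalso
      apply h
      have := h' 1
      rwa [mul_one] at this
    · have := h' 1
      rw [mul_one] at this
      rw [this]
      simp

omit [Fintype F] [DecidableEq F] in
theorem csgn_eq_one_iff (χ : Matrix.SpecialLinearGroup (Fin 2) F → ℂ) :
    csgn χ = 1 ↔ χ zSL = χ 1 := by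
  unfold csgn
  split_ifs with h
  · simp [h]
  · simp [h]

omit [Fintype F] [DecidableEq F] in
/-- If `χ(z) = c·χ(1)` with `c = ±1` and `χ(1) ≠ 0`, then `csgn χ = c`. -/
theorem csgn_eq_of {χ : Matrix.SpecialLinearGroup (Fin 2) F → ℂ} (c : ℤ) (hc : c = 1 ∨ c = -1)
    (h : χ zSL = (c : ℂ) * χ 1) (h1 : χ 1 ≠ 0) : csgn χ = c := by
  unfold csgn
  rcases hc with rfl | rfl
  · rw [if_pos]
    rw [h]; simp
  · rw [if_neg]
    intro h'
    rw [h] at h'
    apply h1
    have : (2 : ℂ) * χ 1 = 0 := by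
      push_cast at h'
      linear_combination -h'
    rcases mul_eq_zero.mp this with h2 | h2
    · norm_num at h2
    · exact h2

omit [Fintype F] [DecidableEq F] in
theorem zSL_ne_one (h2 : (2 : F) ≠ 0) : (zSL : Matrix.SpecialLinearGroup (Fin 2) F) ≠ 1 := by
  intro h
  have := congrArg
    (fun s : Matrix.SpecialLinearGroup (Fin 2) F => (s : Matrix (Fin 2) (Fin 2) F) 0 0) h
  simp only [zSL_00] at this
  apply h2
  have h1 : ((1 : Matrix.SpecialLinearGroup (Fin 2) F) : Matrix (Fin 2) (Fin 2) F) 0 0 = 1 := by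
    simp
  rw [h1] at this
  linear_combination -this

/-- The signed sum of the squares of the degrees vanishes. -/
theorem sum_csgn_mul_sq (h2 : (2 : F) ≠ 0)
    [Fintype (IrrCharacter (Matrix.SpecialLinearGroup (Fin 2) F))] :
    ∑ χ : IrrCharacter (Matrix.SpecialLinearGroup (Fin 2) F),
      csgn (χ : Matrix.SpecialLinearGroup (Fin 2) F → ℂ) *
        (charDegree (χ : Matrix.SpecialLinearGroup (Fin 2) F → ℂ) : ℤ) ^ 2 = 0 := by
  classical
  have horth := Cfsg.Agent.Helper74.second_orthogonality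
    (1 : Matrix.SpecialLinearGroup (Fin 2) F) zSL
  have hnc : ¬ IsConj (1 : Matrix.SpecialLinearGroup (Fin 2) F) zSL := by
    intro h
    rw [isConj_iff] at h
    obtain ⟨c, hc⟩ := h
    rw [mul_one, mul_inv_cancel] at hc
    exact zSL_ne_one h2 hc.symm
  rw [if_neg hnc] at horth
  have hterm : ∀ χ : IrrCharacter (Matrix.SpecialLinearGroup (Fin 2) F),
      (χ : Matrix.SpecialLinearGroup (Fin 2) F → ℂ) 1 *
        conj ((χ : Matrix.SpecialLinearGroup (Fin 2) F → ℂ) zSL) =
      ((csgn (χ : Matrix.SpecialLinearGroup (Fin 2) F → ℂ) *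
        (charDegree (χ : Matrix.SpecialLinearGroup (Fin 2) F → ℂ) : ℤ) ^ 2 : ℤ) : ℂ) := by
    intro χ
    have hd := Cfsg.Agent.Helper74.charDegree_cast (Cfsg.Agent.Helper74.irr_isCharacter χ)
    rw [csgn_spec χ.2, ← hd, map_mul, Complex.conj_natCast, map_intCast]
    push_cast
    ring
  simp only [hterm] at horth
  have : ((∑ χ : IrrCharacter (Matrix.SpecialLinearGroup (Fin 2) F),
      csgn (χ : Matrix.SpecialLinearGroup (Fin 2) F → ℂ) *
        (charDegree (χ : Matrix.SpecialLinearGroup (Fin 2) F → ℂ) : ℤ) ^ 2 : ℤ) : ℂ) = 0 := by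
    rw [← horth]
    push_cast
    rfl
  exact_mod_cast this

/-! ### The signs of the principal series -/

/-- The value of a principal series character at a central element. -/
theorem PSs_central (γ : MulChar F ℂ) (z : Matrix.SpecialLinearGroup (Fin 2) F)
    (hz : z ∈ Subgroup.center (Matrix.SpecialLinearGroup (Fin 2) F)) :
    Cfsg.Agent.Helper38.PSs γ z =
      γ ((z : Matrix (Fin 2) (Fin 2) F) 0 0) * Cfsg.Agent.Helper38.PSs γ 1 := by
  unfold Cfsg.Agent.Helper38.PSs
  rw [Cfsg.Agent.Helper15.indFun_apply, Cfsg.Agent.Helper15.indFun_apply]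
  obtain ⟨r, hr, hrz⟩ := Matrix.SpecialLinearGroup.mem_center_iff.mp hz
  have hz10 : (z : Matrix (Fin 2) (Fin 2) F) 1 0 = 0 := by
    rw [← hrz]
    simp
  have hzB : z ∈ Cfsg.Agent.Helper38.borelSL F := (Cfsg.Agent.Helper38.mem_borelSL_iff z).mpr hz10
  have hterm : ∀ x : Matrix.SpecialLinearGroup (Fin 2) F,
      extendByZero (Cfsg.Agent.Helper38.borelSL F) (fun b => Cfsg.Agent.Helper38.thetaS γ b)
        (x⁻¹ * z * x) =
      γ ((z : Matrix (Fin 2) (Fin 2) F) 0 0) *
        extendByZero (Cfsg.Agent.Helper38.borelSL F) (fun b => Cfsg.Agent.Helper38.thetaS γ b)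
          (x⁻¹ * 1 * x) := by
    intro x
    have hzx : x⁻¹ * z * x = z := by
      rw [mul_assoc, ← Subgroup.mem_center_iff.mp hz x, inv_mul_cancel_left]
    have h1x : x⁻¹ * 1 * x = 1 := by simp
    rw [hzx, h1x, extendByZero_of_mem _ _ z hzB, extendByZero_of_mem _ _ 1 (Subgroup.one_mem _),
      Cfsg.Agent.Helper38.thetaS_apply, Cfsg.Agent.Helper38.thetaS_apply]
    show γ ((z : Matrix (Fin 2) (Fin 2) F) 0 0) = γ ((z : Matrix (Fin 2) (Fin 2) F) 0 0) *
      γ (((1 : Matrix.SpecialLinearGroup (Fin 2) F) : Matrix (Fin 2) (Fin 2) F) 0 0)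
    simp
  rw [Finset.sum_congr rfl (fun x _ => hterm x), ← Finset.mul_sum]
  ring

omit [Fintype F] [DecidableEq F] in
theorem zSL_mem_center :
    (zSL : Matrix.SpecialLinearGroup (Fin 2) F) ∈
      Subgroup.center (Matrix.SpecialLinearGroup (Fin 2) F) := by
  rw [Subgroup.mem_center_iff]
  intro g
  exact (zSL_comm g).symm

/-- The sign of a multiplicative character at `-1`. -/
noncomputable def msgn (γ : MulChar F ℂ) : ℤ := if γ (-1) = 1 then 1 else -1

omit [Fintype F] [DecidableEq F] in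
theorem msgn_cases (γ : MulChar F ℂ) : msgn γ = 1 ∨ msgn γ = -1 := by
  unfold msgn
  split_ifs
  · left; rfl
  · right; rfl

omit [Fintype F] [DecidableEq F] in
theorem msgn_spec (γ : MulChar F ℂ) : γ (-1) = (msgn γ : ℂ) := by
  have hsq : γ (-1) * γ (-1) = 1 := by
    rw [← map_mul]
    simp
  have hpm : γ (-1) = 1 ∨ γ (-1) = -1 := by
    have : (γ (-1) - 1) * (γ (-1) + 1) = 0 := by linear_combination hsq
    rcases mul_eq_zero.mp this with h | h
    · left; linear_combination h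
    · right; linear_combination h
  unfold msgn
  split_ifs with h
  · rw [h]; simp
  · rcases hpm with h' | h'
    · exact absurd h' h
    · rw [h']; simp

omit [Fintype F] [DecidableEq F] in
theorem msgn_one : msgn (1 : MulChar F ℂ) = 1 := by
  unfold msgn
  rw [if_pos]
  exact MulChar.one_apply (isUnit_one.neg)

theorem csgn_PSs (γ : MulChar F ℂ) : csgn (Cfsg.Agent.Helper38.PSs γ) = msgn γ := by
  apply csgn_eq_of (msgn γ) (msgn_cases γ)
  · rw [PSs_central γ zSL zSL_mem_center, zSL_00, msgn_spec]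
  · rw [Cfsg.Agent.Helper38.PSs_one]
    have : ((Fintype.card F + 1 : ℕ) : ℂ) ≠ 0 := Nat.cast_ne_zero.mpr (Nat.succ_ne_zero _)
    simpa using this

omit [Fintype F] [DecidableEq F] in
theorem csgn_trivS : csgn (Cfsg.Agent.Helper38.trivS (F := F)) = 1 := by
  rw [csgn_eq_one_iff, Cfsg.Agent.Helper38.trivS_apply, Cfsg.Agent.Helper38.trivS_apply]

theorem csgn_Sts : csgn (Cfsg.Agent.Helper38.Sts (F := F)) = 1 := by
  rw [csgn_eq_one_iff]
  exact Sts_central zSL zSL_mem_center

theorem filter_sq_eq_one (hodd : Odd (Fintype.card F)) :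
    Finset.univ.filter (fun γ : MulChar F ℂ => γ ^ 2 = 1) = {1, quadC F} := by
  ext γ
  simp only [Finset.mem_filter, Finset.mem_univ, true_and, Finset.mem_insert,
    Finset.mem_singleton]
  constructor
  · intro h
    by_cases h1 : γ = 1
    · left; exact h1
    · right
      exact mulChar_order_two_unique hodd γ (quadC F) h h1 quadC_sq (quadC_ne_one hodd)
  · rintro (rfl | rfl)
    · exact one_pow 2
    · exact quadC_sq

/-- The sum of the signs over the characters with `γ² ≠ 1`. -/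
theorem sum_msgn (hodd : Odd (Fintype.card F)) :
    ∑ γ ∈ Finset.univ.filter (fun γ : MulChar F ℂ => ¬ γ ^ 2 = 1), msgn γ =
      -1 - msgn (quadC F) := by
  have h2 : (2 : F) ≠ 0 := Ring.two_ne_zero (ringChar_ne_two_of_odd hodd)
  have hne : (-1 : F) ≠ 1 := by
    intro h
    apply h2
    linear_combination -h
  have h0 := sum_mulChar_apply_eq_zero (F := F) hne
  simp only [msgn_spec] at h0
  have h0' : ∑ γ : MulChar F ℂ, msgn γ = 0 := by exact_mod_cast h0
  rw [← Finset.sum_filter_add_sum_filter_not Finset.univ (fun γ : MulChar F ℂ => γ ^ 2 = 1),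
    filter_sq_eq_one hodd, Finset.sum_pair (quadC_ne_one hodd).symm, msgn_one] at h0'
  linarith

/-- For `q = 2j + 1 ≥ 7` there are irreducible characters of `SL₂(F)` of degrees `q - 1` and
`q + 1` which are trivial on the centre. -/
theorem exists_even_chars (j : ℕ) (hq : Fintype.card F = 2 * j + 1) (hj : 3 ≤ j) :
    (∃ χ : Matrix.SpecialLinearGroup (Fin 2) F → ℂ,
      IsIrrCharacter (Matrix.SpecialLinearGroup (Fin 2) F) χ ∧ charDegree χ = 2 * j ∧
        χ zSL = χ 1) ∧
    (∃ χ : Matrix.SpecialLinearGroup (Fin 2) F → ℂ,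
      IsIrrCharacter (Matrix.SpecialLinearGroup (Fin 2) F) χ ∧ charDegree χ = 2 * j + 2 ∧
        χ zSL = χ 1) := by
  classical
  let _ : Fintype (IrrCharacter (Matrix.SpecialLinearGroup (Fin 2) F)) :=
    Cfsg.Agent.Helper74.irrFintype _
  have hodd : Odd (Fintype.card F) := ⟨j, hq⟩
  have h2 : (2 : F) ≠ 0 := Ring.two_ne_zero (ringChar_ne_two_of_odd hodd)
  have hqc : (Fintype.card F : ℂ) = 2 * (j : ℂ) + 1 := by rw [hq]; push_cast; ring
  -- the two characters of degree `(q+1)/2`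
  obtain ⟨χ₁, χ₂, hχ₁, hχ₂, h12, hsum12, hdeg₁, hdeg₂, -⟩ :=
    Cfsg.Agent.S2307.result hodd (quadC F) quadC_sq (quadC_ne_one hodd)
  have hPS0 : Cfsg.Agent.Helper38.PSs (quadC F) = χ₁ + χ₂ := by
    rw [← indFun_theta_eq_PSs]
    exact hsum12
  have hhalf : (Fintype.card F + 1) / 2 = j + 1 := by omega
  rw [hhalf] at hdeg₁ hdeg₂
  -- the principal series
  set iP : {γ : MulChar F ℂ // γ ^ 2 ≠ 1} → IrrCharacter (Matrix.SpecialLinearGroup (Fin 2) F) :=
    fun γ => ⟨Cfsg.Agent.Helper38.PSs γ.1, isIrr_PSs_of_sq_ne_one γ.1 γ.2⟩ with hiPdef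
  set σ : {γ : MulChar F ℂ // γ ^ 2 ≠ 1} → {γ : MulChar F ℂ // γ ^ 2 ≠ 1} :=
    fun γ => ⟨γ.1⁻¹, fun h => γ.2 (by
      have : (γ.1 ^ 2)⁻¹ = 1 := by rw [← inv_pow]; exact h
      exact inv_eq_one.mp this)⟩ with hσdef
  have hσ : ∀ p, σ p ≠ p := by
    intro p h
    have h1 : p.1⁻¹ = p.1 := congrArg Subtype.val h
    apply p.2
    rw [sq]
    nth_rewrite 1 [← h1]
    exact inv_mul_cancel p.1
  have hiP : ∀ p p', iP p' = iP p ↔ p' = p ∨ p' = σ p := by
    intro p p'
    constructor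
    · intro h
      have h1 : Cfsg.Agent.Helper38.PSs p.1 = Cfsg.Agent.Helper38.PSs p'.1 :=
        (congrArg Subtype.val h).symm
      rcases (PSs_eq_iff_odd p.1 p'.1 p.2 p'.2).mp h1 with h2 | h2
      · left; exact Subtype.ext h2
      · right; exact Subtype.ext h2
    · intro h
      apply Subtype.ext
      symm
      apply (PSs_eq_iff_odd p.1 p'.1 p.2 p'.2).mpr
      rcases h with h | h
      · left; rw [h]
      · right; rw [h]
  set P : Finset (IrrCharacter (Matrix.SpecialLinearGroup (Fin 2) F)) :=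
    Finset.univ.image iP with hPdef
  have h2to1 := sum_image_two_to_one_int (Finset.univ : Finset {γ : MulChar F ℂ // γ ^ 2 ≠ 1}) iP σ
    (fun p _ => ⟨Finset.mem_univ _, hσ p⟩) (fun p _ p' _ => hiP p p')
  have cP2 : 2 * (P.card : ℤ) = (Fintype.card {γ : MulChar F ℂ // γ ^ 2 ≠ 1} : ℤ) := by
    have := h2to1 (fun _ => 1)
    simpa using this
  have cMP : Fintype.card {γ : MulChar F ℂ // γ ^ 2 ≠ 1} + 2 = 2 * j := by
    rw [Fintype.card_subtype_compl, Fintype.card_subtype, card_mulChar_sq_eq_one hodd,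
      Cfsg.Agent.Helper38.card_mulChar, hq]
    omega
  have cP : P.card + 1 = j := by omega
  -- the counting data
  have hN : Fintype.card (IrrCharacter (Matrix.SpecialLinearGroup (Fin 2) F)) = 2 * j + 5 := by
    rw [← Nat.card_eq_fintype_card, Cfsg.Agent.Helper74.card_irr_eq_card_conjClasses,
      card_conjClasses_sl2_odd hodd, hq]
  have hT : ∑ χ : IrrCharacter (Matrix.SpecialLinearGroup (Fin 2) F),
      charDegree (χ : Matrix.SpecialLinearGroup (Fin 2) F → ℂ) ^ 2 =
      (2 * j + 1) * ((2 * j) * (2 * j + 2)) := by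
    rw [Cfsg.Agent.Helper38.sum_charDegree_sq_of, Cfsg.Agent.Helper5.card_SL2, hq]
    have : (2 * j + 1) ^ 2 - 1 = (2 * j) * (2 * j + 2) := by
      have : (2 * j + 1) ^ 2 = (2 * j) * (2 * j + 2) + 1 := by ring
      omega
    rw [this]
  -- the signs
  have hδc := msgn_cases (quadC F)
  have hsgn12 : csgn χ₁ = msgn (quadC F) ∧ csgn χ₂ = msgn (quadC F) := by
    have e1 := csgn_spec hχ₁
    have e2 := csgn_spec hχ₂
    have e0 := PSs_central (quadC F) zSL zSL_mem_center
    rw [hPS0, zSL_00, msgn_spec] at e0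
    simp only [Pi.add_apply] at e0
    rw [e1, e2, hdeg₁, hdeg₂] at e0
    have hj1 : ((j + 1 : ℕ) : ℂ) ≠ 0 := Nat.cast_ne_zero.mpr (Nat.succ_ne_zero _)
    have e3 : ((csgn χ₁ + csgn χ₂ - 2 * msgn (quadC F) : ℤ) : ℂ) * ((j + 1 : ℕ) : ℂ) = 0 := by
      push_cast
      push_cast at e0
      linear_combination e0
    have e4 : ((csgn χ₁ + csgn χ₂ - 2 * msgn (quadC F) : ℤ) : ℂ) = 0 :=
      (mul_eq_zero.mp e3).resolve_right hj1
    have e5 : csgn χ₁ + csgn χ₂ - 2 * msgn (quadC F) = 0 := by exact_mod_cast e4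
    rcases csgn_cases χ₁ with h1 | h1 <;> rcases csgn_cases χ₂ with h2' | h2' <;>
      rcases hδc with h3 | h3 <;> rw [h1, h2', h3] at e5 ⊢ <;> omega
  have wP : 2 * ∑ x ∈ P, csgn (x : Matrix.SpecialLinearGroup (Fin 2) F → ℂ) =
      -1 - msgn (quadC F) := by
    rw [hPdef, h2to1 (fun x => csgn (x : Matrix.SpecialLinearGroup (Fin 2) F → ℂ))]
    have : ∀ p : {γ : MulChar F ℂ // γ ^ 2 ≠ 1},
        csgn ((iP p : IrrCharacter (Matrix.SpecialLinearGroup (Fin 2) F)) :
          Matrix.SpecialLinearGroup (Fin 2) F → ℂ) = msgn p.1 := fun p => csgn_PSs p.1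
    rw [Finset.sum_congr rfl (fun p _ => this p), ← sum_msgn hodd]
    symm
    exact Finset.sum_subtype (Finset.univ.filter (fun γ : MulChar F ℂ => ¬ γ ^ 2 = 1))
      (fun γ => by simp) (fun γ => msgn γ)
  have key := odd_signed_count
    (fun χ : IrrCharacter (Matrix.SpecialLinearGroup (Fin 2) F) =>
      charDegree (χ : Matrix.SpecialLinearGroup (Fin 2) F → ℂ))
    (fun χ : IrrCharacter (Matrix.SpecialLinearGroup (Fin 2) F) =>
      csgn (χ : Matrix.SpecialLinearGroup (Fin 2) F → ℂ)) j hj hN hT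
    ⟨Cfsg.Agent.Helper38.trivS, Cfsg.Agent.Helper38.isIrr_trivS⟩
    ⟨Cfsg.Agent.Helper38.Sts, Cfsg.Agent.Helper38.isIrr_Sts⟩ ⟨χ₁, hχ₁⟩ ⟨χ₂, hχ₂⟩ P
    (Cfsg.Agent.Helper38.charDegree_eq_of_one
      (Cfsg.Agent.Helper74.isCharacter_of_isIrr Cfsg.Agent.Helper38.isIrr_trivS) 1
      (by rw [Cfsg.Agent.Helper38.trivS_apply]; simp))
    (Cfsg.Agent.Helper38.charDegree_eq_of_one
      (Cfsg.Agent.Helper74.isCharacter_of_isIrr Cfsg.Agent.Helper38.isIrr_Sts) (2 * j + 1)
      (by rw [Cfsg.Agent.Helper38.Sts_one, hqc]; push_cast; ring))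
    (by
      intro x hx
      obtain ⟨γ, -, rfl⟩ := Finset.mem_image.1 hx
      exact Cfsg.Agent.Helper38.charDegree_eq_of_one
        (Cfsg.Agent.Helper74.isCharacter_of_isIrr (isIrr_PSs_of_sq_ne_one γ.1 γ.2)) (2 * j + 2)
        (by rw [Cfsg.Agent.Helper38.PSs_one, hqc]; push_cast; ring))
    cP
    (Cfsg.Agent.Helper38.charDegree_eq_of_one (Cfsg.Agent.Helper74.isCharacter_of_isIrr hχ₁)
      (j + 1) hdeg₁)
    (Cfsg.Agent.Helper38.charDegree_eq_of_one (Cfsg.Agent.Helper74.isCharacter_of_isIrr hχ₂)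
      (j + 1) hdeg₂)
    (fun h => h12 (congrArg Subtype.val h))
    (by
      intro χ
      rcases sl2_irr_cases hodd χ (quadC F) quadC_sq (quadC_ne_one hodd) with
        h | h | ⟨γ, hγ, h⟩ | h | h
      · left; exact Subtype.ext h
      · right; left; exact Subtype.ext h
      · right; right; left
        exact Finset.mem_image.2 ⟨⟨γ, hγ⟩, Finset.mem_univ _, (Subtype.ext h).symm⟩
      · rw [hPS0, Cfsg.Agent.Helper74.classInner_add_left] at h
        by_cases h1 : classInner χ₁ (χ : Matrix.SpecialLinearGroup (Fin 2) F → ℂ) = 0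
        · rw [h1, zero_add] at h
          right; right; right; right; left
          exact Subtype.ext (eq_of_inner_ne_zero hχ₂ χ.2 h).symm
        · right; right; right; left
          exact Subtype.ext (eq_of_inner_ne_zero hχ₁ χ.2 h1).symm
      · right; right; right; right; right
        rw [hq] at h
        have e : 2 * j + 1 - 1 = 2 * j := by omega
        rw [e] at h
        exact ⟨h, Cfsg.Agent.Helper80.IsIrrCharacter.charDegree_pos χ.2⟩)
    (fun χ => csgn_cases _) (sum_csgn_mul_sq h2) csgn_trivS csgn_Sts (msgn (quadC F)) hδc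
    hsgn12.1 hsgn12.2 wP
  obtain ⟨⟨χ, hd, hs⟩, ⟨χ', hd', hs'⟩⟩ := key
  exact ⟨⟨χ.1, χ.2, hd, (csgn_eq_one_iff _).mp hs⟩, ⟨χ'.1, χ'.2, hd', (csgn_eq_one_iff _).mp hs'⟩⟩

end Cfsg.Agent.Helper39
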