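import Cfsg.Agent.Helper39.GL2Count
import Cfsg.Agent.Helper81.CliffordInd

set_option autoImplicit false

/-!
# Clifford theory for `SL₂(F) ⊴ GL₂(F)`

Every irreducible character of `SL₂(F)` lies under an irreducible character `ψ` of `GL₂(F)`, and
`ψ ∘ toGL = e • ∑ (GL₂-conjugates of χ)`.
-/

namespace Cfsg.Agent.Helper39

open Matrix Cfsg
open scoped ComplexConjugate

variable {F : Type*} [Field F]

/-- `SL₂(F)` as a subgroup of `GL₂(F)`. -/
def slSub (F : Type*) [Field F] : Subgroup (GL (Fin 2) F) :=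
  (Matrix.SpecialLinearGroup.toGL (n := Fin 2) (R := F)).range

theorem mem_slSub_iff (g : GL (Fin 2) F) :
    g ∈ slSub F ↔ (g : Matrix (Fin 2) (Fin 2) F).det = 1 := by
  constructor
  · rintro ⟨s, rfl⟩
    exact s.2
  · intro h
    exact ⟨⟨(g : Matrix (Fin 2) (Fin 2) F), h⟩, Units.ext rfl⟩

theorem slSub_normal (F : Type*) [Field F] : (slSub F).Normal := by
  constructor
  intro n hn g
  rw [mem_slSub_iff] at hn ⊢
  have h1 : ((g * n * g⁻¹ : GL (Fin 2) F) : Matrix (Fin 2) (Fin 2) F).det =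
      Matrix.GeneralLinearGroup.det (g * n * g⁻¹) := rfl
  have h2 : (n : Matrix (Fin 2) (Fin 2) F).det = Matrix.GeneralLinearGroup.det n := rfl
  rw [h1, map_mul, map_mul, map_inv, mul_comm, ← mul_assoc, inv_mul_cancel, one_mul, ← h2, hn]

attribute [local instance] slSub_normal

/-- `SL₂(F)` is isomorphic to its image in `GL₂(F)`. -/
noncomputable def slEquiv (F : Type*) [Field F] :
    Matrix.SpecialLinearGroup (Fin 2) F ≃* slSub F :=
  MonoidHom.ofInjective Matrix.SpecialLinearGroup.toGL_injective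

theorem coe_slEquiv (s : Matrix.SpecialLinearGroup (Fin 2) F) :
    ((slEquiv F s : slSub F) : GL (Fin 2) F) = Matrix.SpecialLinearGroup.toGL s := rfl

variable [Fintype F] [DecidableEq F]

/-- Clifford's theorem for `SL₂ ⊴ GL₂`, transported to `SL₂` itself. -/
theorem sl2_clifford (χ : Matrix.SpecialLinearGroup (Fin 2) F → ℂ)
    (hχ : IsIrrCharacter (Matrix.SpecialLinearGroup (Fin 2) F) χ) :
    ∃ (ψ : GL (Fin 2) F → ℂ) (e : ℕ) (S : Finset (Matrix.SpecialLinearGroup (Fin 2) F → ℂ)),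
      IsIrrCharacter (GL (Fin 2) F) ψ ∧ 0 < e ∧ χ ∈ S ∧
      (∀ φ ∈ S, IsIrrCharacter (Matrix.SpecialLinearGroup (Fin 2) F) φ ∧
        ∃ x : GL (Fin 2) F, ∀ s s' : Matrix.SpecialLinearGroup (Fin 2) F,
          Matrix.SpecialLinearGroup.toGL s' = x * Matrix.SpecialLinearGroup.toGL s * x⁻¹ →
            φ s = χ s') ∧
      (∀ s : Matrix.SpecialLinearGroup (Fin 2) F,
        ψ (Matrix.SpecialLinearGroup.toGL s) = (e : ℂ) * ∑ φ ∈ S, φ s) := by
  classical
  set N := slSub F with hN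
  set θ : N → ℂ := fun n => χ ((slEquiv F).symm n) with hθdef
  have hθ : IsIrrCharacter N θ :=
    Cfsg.Agent.Helper80.IsIrrCharacter.comp_surjective hχ (slEquiv F).symm.toMonoidHom
      (slEquiv F).symm.surjective
  have hθc : IsCharacter N θ := Cfsg.Agent.Helper74.isCharacter_of_isIrr hθ
  have hΨ : IsCharacter (GL (Fin 2) F) (indFun N θ) :=
    Cfsg.Agent.Helper15.isCharacter_indFun N hθc
  have hΨ1 : indFun N θ 1 ≠ 0 := by
    rw [Cfsg.Agent.Helper15.indFun_apply_one]
    apply mul_ne_zero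
    · have : N.index ≠ 0 := Subgroup.index_ne_zero_of_finite
      exact_mod_cast this
    · exact Cfsg.Agent.Helper80.IsIrrCharacter.map_one_ne_zero hθ
  obtain ⟨ψ, hψ⟩ := Cfsg.Agent.Helper81.exists_irr_constituent hΨ hΨ1
  have hψcf : IsClassFunction (GL (Fin 2) F) (ψ : GL (Fin 2) F → ℂ) :=
    Cfsg.Agent.Helper74.irr_isClassFunction ψ
  rw [Cfsg.Agent.Helper15.frobenius_reciprocity N θ _ hψcf] at hψ
  have hψ' : classInner (fun n : N => (ψ : GL (Fin 2) F → ℂ) n) θ ≠ 0 := by
    rw [← Cfsg.Agent.Helper15.classInner_conj_symm]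
    intro h
    apply hψ
    simpa using h
  have hcl := Cfsg.Agent.Helper15.clifford_restrict N ψ.2 hθ hψ'
  have hres : IsCharacter N (fun n : N => (ψ : GL (Fin 2) F → ℂ) n) :=
    Cfsg.Agent.Helper74.isCharacter_restrict N (Cfsg.Agent.Helper74.irr_isCharacter ψ)
  obtain ⟨e, he⟩ := Cfsg.Agent.Helper74.isCharacter_inner_irr_nat hres ⟨θ, hθ⟩
  change classInner (fun n : N => (ψ : GL (Fin 2) F → ℂ) n) θ = e at he
  have he0 : 0 < e := by
    rcases Nat.eq_zero_or_pos e with h | h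
    · exfalso
      apply hψ'
      rw [he, h]
      simp
    · exact h
  have hinj : Function.Injective
      (fun (φ : N → ℂ) => fun s : Matrix.SpecialLinearGroup (Fin 2) F => φ (slEquiv F s)) := by
    intro φ φ' h
    funext n
    have := congrFun h ((slEquiv F).symm n)
    simpa using this
  refine ⟨ψ, e, (Cfsg.Agent.Helper15.conjOrbit N θ).image
    (fun (φ : N → ℂ) => fun s : Matrix.SpecialLinearGroup (Fin 2) F => φ (slEquiv F s)),
    ψ.2, he0, ?_, ?_, ?_⟩
  · rw [Finset.mem_image]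
    refine ⟨θ, Cfsg.Agent.Helper15.self_mem_conjOrbit N θ, ?_⟩
    funext s
    simp [hθdef]
  · intro φ hφ
    obtain ⟨φ', hφ', rfl⟩ := Finset.mem_image.mp hφ
    constructor
    · exact Cfsg.Agent.Helper80.IsIrrCharacter.comp_surjective
        (Cfsg.Agent.Helper15.isIrrCharacter_of_mem_conjOrbit N hθ hφ') (slEquiv F).toMonoidHom
        (slEquiv F).surjective
    · obtain ⟨g, rfl⟩ := (Cfsg.Agent.Helper15.mem_conjOrbit N).mp hφ'
      refine ⟨g, ?_⟩
      intro s s' hs
      simp only [Cfsg.Agent.Helper15.conjFun_apply, hθdef]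
      congr 1
      rw [MulEquiv.symm_apply_eq]
      apply Subtype.ext
      exact hs.symm
  · intro s
    have h1 := congrFun hcl (slEquiv F s)
    rw [he] at h1
    simp only [Pi.smul_apply, Finset.sum_apply, smul_eq_mul] at h1
    rw [Finset.sum_image (fun a _ b _ h => hinj h)]
    exact h1

end Cfsg.Agent.Helper39
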