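import Cfsg.Agent.Helper39.SL2Stable

set_option autoImplicit false

/-!
# The permutation character of `SL₂(F)` on the projective line and Frobenius reciprocity
-/

namespace Cfsg.Agent.Helper39

open Matrix Cfsg
open scoped ComplexConjugate

variable {F : Type*} [Field F] [Fintype F] [DecidableEq F]

/-- The number of fixed points of `s` on the projective line, as the induced character. -/
noncomputable def fixFun (s : Matrix.SpecialLinearGroup (Fin 2) F) : ℂ :=
  Cfsg.Agent.S2306.indVal (1 : MulChar F ℂ) s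

theorem fixFun_eq :
    (fixFun : Matrix.SpecialLinearGroup (Fin 2) F → ℂ) =
      Cfsg.indFun (BSL F) (Cfsg.Agent.S2306.theta (1 : MulChar F ℂ)) := by
  funext s
  rw [Cfsg.Agent.S2306.indFun_theta]
  rfl

omit [Fintype F] [DecidableEq F] in
theorem theta_one_apply (b : BSL F) : Cfsg.Agent.S2306.theta (1 : MulChar F ℂ) b = 1 := by
  unfold Cfsg.Agent.S2306.theta
  have hb : ((b : Matrix.SpecialLinearGroup (Fin 2) F) : Matrix (Fin 2) (Fin 2) F) 1 0 = 0 :=
    (mem_BSL_iff _).mp b.2
  have hdet := (b : Matrix.SpecialLinearGroup (Fin 2) F).2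
  rw [Matrix.det_fin_two, hb, mul_zero, sub_zero] at hdet
  have hu : IsUnit (((b : Matrix.SpecialLinearGroup (Fin 2) F) : Matrix (Fin 2) (Fin 2) F) 0 0) :=
    IsUnit.of_mul_eq_one _ hdet
  exact MulChar.one_apply hu

/-- Frobenius reciprocity for the permutation character on the projective line. -/
theorem frob_fixed (f : Matrix.SpecialLinearGroup (Fin 2) F → ℂ)
    (hf : IsClassFunction (Matrix.SpecialLinearGroup (Fin 2) F) f) :
    ∑ s, fixFun s * f s =
      ((Fintype.card F : ℂ) + 1) * ∑ a : Fˣ, ∑ x : F,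
        f ((Cfsg.Agent.S2306.bElt (a, x) : BSL F) : Matrix.SpecialLinearGroup (Fin 2) F) := by
  classical
  have hcf : IsClassFunction (Matrix.SpecialLinearGroup (Fin 2) F) (fun s => conj (f s)) := by
    intro g h
    simp only
    rw [hf g h]
  have h := Cfsg.Agent.Helper15.frobenius_reciprocity (BSL F)
    (Cfsg.Agent.S2306.theta (1 : MulChar F ℂ)) (fun s => conj (f s)) hcf
  rw [← fixFun_eq, Cfsg.Agent.Helper15.classInner_apply, Cfsg.Agent.Helper15.classInner_apply,
    Cfsg.Agent.Helper5.card_SL2, Cfsg.Agent.S2306.card_BSL] at h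
  simp only [Complex.conj_conj, theta_one_apply, one_mul] at h
  rw [← Equiv.sum_comp (Cfsg.Agent.S2306.bEquiv (F := F)), Fintype.sum_prod_type] at h
  have hq : 2 ≤ Fintype.card F := Fintype.one_lt_card
  obtain ⟨m, hm⟩ : ∃ m : ℕ, Fintype.card F = m + 1 := ⟨Fintype.card F - 1, by omega⟩
  have hm0 : 0 < m := by omega
  have hmC : (m : ℂ) ≠ 0 := by exact_mod_cast hm0.ne'
  have hqC : ((m : ℂ) + 1) ≠ 0 := by exact_mod_cast Nat.succ_ne_zero m
  have hq2C : ((m : ℂ) + 2) ≠ 0 := by exact_mod_cast Nat.succ_ne_zero (m + 1)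
  rw [Fintype.card_units, hm] at h
  have e1 : (((m + 1) * ((m + 1) ^ 2 - 1) : ℕ) : ℂ) = ((m : ℂ) + 1) * ((m : ℂ) * ((m : ℂ) + 2)) := by
    have : (m + 1) ^ 2 - 1 = m * (m + 2) := by
      apply Nat.sub_eq_of_eq_add
      ring
    rw [this]
    push_cast
    ring
  have e2 : (((m + 1 - 1) * (m + 1) : ℕ) : ℂ) = (m : ℂ) * ((m : ℂ) + 1) := by
    rw [Nat.add_sub_cancel]
    push_cast
    ring
  rw [e1, e2] at h
  rw [hm]
  push_cast
  have h' : ∀ A B : ℂ, (((m : ℂ) + 1) * ((m : ℂ) * ((m : ℂ) + 2)))⁻¹ * A =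
      ((m : ℂ) * ((m : ℂ) + 1))⁻¹ * B → A = ((m : ℂ) + 1 + 1) * B := by
    intro A B hAB
    field_simp at hAB
    linear_combination hAB
  exact h' _ _ h

/-- `fixFun` as a count. -/
theorem fixFun_eq_count (s : Matrix.SpecialLinearGroup (Fin 2) F) :
    fixFun s = (if (s : Matrix (Fin 2) (Fin 2) F) 1 0 = 0 then 1 else 0) +
      ∑ c : F, if (s : Matrix (Fin 2) (Fin 2) F) 0 0 * c + (s : Matrix (Fin 2) (Fin 2) F) 0 1 -
        c * ((s : Matrix (Fin 2) (Fin 2) F) 1 0 * c + (s : Matrix (Fin 2) (Fin 2) F) 1 1) = 0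
        then 1 else 0 := by
  unfold fixFun Cfsg.Agent.S2306.indVal
  have hdet : (s : Matrix (Fin 2) (Fin 2) F) 0 0 * (s : Matrix (Fin 2) (Fin 2) F) 1 1 -
      (s : Matrix (Fin 2) (Fin 2) F) 0 1 * (s : Matrix (Fin 2) (Fin 2) F) 1 0 = 1 := by
    have := s.2
    rwa [Matrix.det_fin_two] at this
  congr 1
  · by_cases h10 : (s : Matrix (Fin 2) (Fin 2) F) 1 0 = 0
    · rw [if_pos h10, if_pos h10]
      apply MulChar.one_apply
      rw [h10, mul_zero, sub_zero] at hdet
      exact IsUnit.of_mul_eq_one _ hdet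
    · rw [if_neg h10, if_neg h10]
  · apply Finset.sum_congr rfl
    intro c _
    by_cases hc : (s : Matrix (Fin 2) (Fin 2) F) 0 0 * c + (s : Matrix (Fin 2) (Fin 2) F) 0 1 -
        c * ((s : Matrix (Fin 2) (Fin 2) F) 1 0 * c + (s : Matrix (Fin 2) (Fin 2) F) 1 1) = 0
    · rw [if_pos hc, if_pos hc]
      apply MulChar.one_apply
      apply IsUnit.of_mul_eq_one ((s : Matrix (Fin 2) (Fin 2) F) 0 0 -
        c * (s : Matrix (Fin 2) (Fin 2) F) 1 0)
      linear_combination hdet + (s : Matrix (Fin 2) (Fin 2) F) 1 0 * hc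
    · rw [if_neg hc, if_neg hc]

/-- An element without eigenvectors has no fixed points. -/
theorem fixFun_of_elliptic (s : Matrix.SpecialLinearGroup (Fin 2) F)
    (h : ∀ (c : F) (v : Fin 2 → F), v ≠ 0 → (s : Matrix (Fin 2) (Fin 2) F).mulVec v ≠ c • v) :
    fixFun s = 0 := by
  rw [fixFun_eq_count]
  have h10 : (s : Matrix (Fin 2) (Fin 2) F) 1 0 ≠ 0 := by
    intro h0
    apply h ((s : Matrix (Fin 2) (Fin 2) F) 0 0) ![1, 0]
    · intro hv
      have := congrFun hv 0
      simp at this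
    · ext i
      fin_cases i <;> simp [Matrix.mulVec, dotProduct, Fin.sum_univ_two, h0]
  rw [if_neg h10, zero_add]
  apply Finset.sum_eq_zero
  intro c _
  rw [if_neg]
  intro hc
  apply h ((s : Matrix (Fin 2) (Fin 2) F) 1 0 * c + (s : Matrix (Fin 2) (Fin 2) F) 1 1) ![c, 1]
  · intro hv
    have := congrFun hv 1
    simp at this
  · ext i
    fin_cases i
    · simp [Matrix.mulVec, dotProduct, Fin.sum_univ_two]
      linear_combination hc
    · simp [Matrix.mulVec, dotProduct, Fin.sum_univ_two]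

/-- A non-scalar element with `tr² = 4` has exactly one fixed point (odd characteristic). -/
theorem fixFun_of_parabolic (h2 : (2 : F) ≠ 0) (s : Matrix.SpecialLinearGroup (Fin 2) F)
    (ht : (s : Matrix (Fin 2) (Fin 2) F).trace ^ 2 = 4)
    (hns : ¬ ((s : Matrix (Fin 2) (Fin 2) F) 0 1 = 0 ∧ (s : Matrix (Fin 2) (Fin 2) F) 1 0 = 0)) :
    fixFun s = 1 := by
  rw [fixFun_eq_count]
  have hdet : (s : Matrix (Fin 2) (Fin 2) F) 0 0 * (s : Matrix (Fin 2) (Fin 2) F) 1 1 -
      (s : Matrix (Fin 2) (Fin 2) F) 0 1 * (s : Matrix (Fin 2) (Fin 2) F) 1 0 = 1 := by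
    have := s.2
    rwa [Matrix.det_fin_two] at this
  rw [Matrix.trace_fin_two] at ht
  generalize (s : Matrix (Fin 2) (Fin 2) F) 0 0 = a at *
  generalize (s : Matrix (Fin 2) (Fin 2) F) 0 1 = b at *
  generalize (s : Matrix (Fin 2) (Fin 2) F) 1 0 = c at *
  generalize (s : Matrix (Fin 2) (Fin 2) F) 1 1 = d at *
  by_cases hc : c = 0
  · rw [if_pos hc]
    have hb : b ≠ 0 := fun hb => hns ⟨hb, hc⟩
    have had : a = d := by
      have h1 : (a - d) ^ 2 = 0 := by
        rw [hc] at hdet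
        linear_combination ht - 4 * hdet
      exact sub_eq_zero.mp (pow_eq_zero_iff (two_ne_zero)|>.mp h1)
    have : ∀ x : F, ¬ (a * x + b - x * (c * x + d) = 0) := by
      intro x hx
      apply hb
      rw [hc, had] at hx
      linear_combination hx
    simp only [this, if_false, Finset.sum_const_zero, add_zero]
  · rw [if_neg hc, zero_add]
    have h2c : 2 * c ≠ 0 := mul_ne_zero h2 hc
    have : ∀ x : F, (a * x + b - x * (c * x + d) = 0) ↔ x = (a - d) / (2 * c) := by
      intro x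
      have hid : 4 * c * (a * x + b - x * (c * x + d)) = -(2 * c * x - (a - d)) ^ 2 := by
        linear_combination ht - 4 * hdet
      constructor
      · intro hx
        rw [hx, mul_zero] at hid
        have h3 : 2 * c * x - (a - d) = 0 := by
          have : (2 * c * x - (a - d)) ^ 2 = 0 := by linear_combination hid
          exact pow_eq_zero_iff (two_ne_zero) |>.mp this
        field_simp
        linear_combination h3
      · rintro rfl
        have h4 : 4 * c ≠ 0 := by
          have : (4 : F) = 2 * 2 := by norm_num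
          rw [this]
          exact mul_ne_zero (mul_ne_zero h2 h2) hc
        have h5 : 4 * c * (a * ((a - d) / (2 * c)) + b - (a - d) / (2 * c) * (c * ((a - d) / (2 * c)) + d)) = 0 := by
          rw [hid]
          field_simp
          ring
        exact (mul_eq_zero.mp h5).resolve_left h4
    simp only [this]
    rw [Finset.sum_ite_eq' Finset.univ]
    simp

/-- The elements `±1` fix every point. -/
theorem fixFun_of_scalar (s : Matrix.SpecialLinearGroup (Fin 2) F)
    (h01 : (s : Matrix (Fin 2) (Fin 2) F) 0 1 = 0) (h10 : (s : Matrix (Fin 2) (Fin 2) F) 1 0 = 0)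
    (heq : (s : Matrix (Fin 2) (Fin 2) F) 0 0 = (s : Matrix (Fin 2) (Fin 2) F) 1 1) :
    fixFun s = (Fintype.card F : ℂ) + 1 := by
  rw [fixFun_eq_count, if_pos h10]
  have : ∀ c : F, (s : Matrix (Fin 2) (Fin 2) F) 0 0 * c + (s : Matrix (Fin 2) (Fin 2) F) 0 1 -
        c * ((s : Matrix (Fin 2) (Fin 2) F) 1 0 * c + (s : Matrix (Fin 2) (Fin 2) F) 1 1) = 0 := by
    intro c
    rw [h01, h10, heq]
    ring
  simp only [this, if_true, Finset.sum_const, Finset.card_univ, nsmul_eq_mul, mul_one]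
  ring

end Cfsg.Agent.Helper39
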