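import Cfsg.Agent.Helper39.SL2Three

set_option autoImplicit false

/-!
# The characters of `SL₂(F)` of degree `(q ± 1)/2`, `q` odd
-/

namespace Cfsg.Agent.Helper39

open Matrix Cfsg
open scoped ComplexConjugate

variable {F : Type*} [Field F] [Fintype F] [DecidableEq F]

theorem ringChar_ne_two_of_odd (hodd : Odd (Fintype.card F)) : ringChar F ≠ 2 := by
  intro h
  have := FiniteField.even_card_of_char_two h
  rw [Nat.odd_iff] at hodd
  omega

/-- The quotient of two non-squares is a square. -/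
theorem exists_sq_of_not_isSquare (hodd : Odd (Fintype.card F)) {a b : Fˣ}
    (ha : ¬ IsSquare (a : F)) (hb : ¬ IsSquare (b : F)) : ∃ c : Fˣ, b = a * (c * c) := by
  have h1 : quadraticChar F ((a : F) * (b : F)) = 1 := by
    rw [map_mul, quadraticChar_neg_one_iff_not_isSquare.mpr ha,
      quadraticChar_neg_one_iff_not_isSquare.mpr hb]
    norm_num
  have hab : (a : F) * (b : F) ≠ 0 := mul_ne_zero a.ne_zero b.ne_zero
  obtain ⟨c, hc⟩ := (quadraticChar_one_iff_isSquare hab).mp h1
  have hc0 : c ≠ 0 := by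
    rintro rfl
    rw [mul_zero] at hc
    exact hab hc
  refine ⟨Units.mk0 c hc0 * a⁻¹, ?_⟩
  apply Units.ext
  simp only [Units.val_mul, Units.val_mk0, Units.val_inv_eq_inv_val]
  have ha0 : (a : F) ≠ 0 := a.ne_zero
  field_simp
  linear_combination hc

/-- A square unit is the square of a unit. -/
theorem exists_unit_sq_of_isSquare {a : Fˣ} (ha : IsSquare (a : F)) : ∃ c : Fˣ, a = c * c := by
  obtain ⟨c, hc⟩ := ha
  have hc0 : c ≠ 0 := by
    rintro rfl
    rw [mul_zero] at hc
    exact a.ne_zero hc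
  exact ⟨Units.mk0 c hc0, Units.ext (by simpa using hc)⟩

/-- The values of a multiplicative character of order two. -/
theorem mulChar_order_two_apply (hodd : Odd (Fintype.card F)) (γ : MulChar F ℂ) (h2 : γ ^ 2 = 1)
    (h1 : γ ≠ 1) (a : Fˣ) : γ a = if IsSquare (a : F) then 1 else -1 := by
  classical
  have hsq : ∀ b : Fˣ, γ b * γ b = 1 := by
    intro b
    have := congrArg (fun χ : MulChar F ℂ => χ b) h2
    simp only [MulChar.pow_apply_coe, MulChar.one_apply_coe] at this
    rw [← sq]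
    exact this
  have hpm : ∀ b : Fˣ, γ b = 1 ∨ γ b = -1 := by
    intro b
    have : (γ b - 1) * (γ b + 1) = 0 := by linear_combination hsq b
    rcases mul_eq_zero.mp this with h | h
    · left; exact sub_eq_zero.mp h
    · right; exact eq_neg_of_add_eq_zero_left h
  have hsquare : ∀ b : Fˣ, IsSquare (b : F) → γ b = 1 := by
    intro b hb
    obtain ⟨c, rfl⟩ := exists_unit_sq_of_isSquare hb
    rw [Units.val_mul, map_mul]
    exact hsq c
  -- a unit where `γ` is not `1`
  obtain ⟨a₀, ha₀⟩ : ∃ a₀ : Fˣ, γ a₀ ≠ 1 := by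
    by_contra hcon
    push Not at hcon
    apply h1
    ext b
    rw [hcon b, MulChar.one_apply_coe]
  have ha₀' : γ a₀ = -1 := (hpm a₀).resolve_left ha₀
  have ha₀ns : ¬ IsSquare (a₀ : F) := fun h => ha₀ (hsquare a₀ h)
  split_ifs with ha
  · exact hsquare a ha
  · obtain ⟨c, rfl⟩ := exists_sq_of_not_isSquare hodd ha₀ns ha
    rw [Units.val_mul, map_mul, ha₀', Units.val_mul, map_mul, hsq c]
    ring

/-- The multiplicative character of order two is unique. -/
theorem mulChar_order_two_unique (hodd : Odd (Fintype.card F)) (γ γ' : MulChar F ℂ)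
    (h2 : γ ^ 2 = 1) (h1 : γ ≠ 1) (h2' : γ' ^ 2 = 1) (h1' : γ' ≠ 1) : γ = γ' := by
  ext a
  rw [mulChar_order_two_apply hodd γ h2 h1 a, mulChar_order_two_apply hodd γ' h2' h1' a]

/-! ### The twisted character -/

/-- The conjugate of a function on `SL₂(F)` by `diag(d, 1)`. -/
def twC (d : Fˣ) (χ : Matrix.SpecialLinearGroup (Fin 2) F → ℂ) :
    Matrix.SpecialLinearGroup (Fin 2) F → ℂ := fun s => χ (twistFun d s)

omit [Fintype F] [DecidableEq F] in
theorem twC_apply (d : Fˣ) (χ : Matrix.SpecialLinearGroup (Fin 2) F → ℂ)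
    (s : Matrix.SpecialLinearGroup (Fin 2) F) : twC d χ s = χ (twistFun d s) := rfl

omit [Fintype F] [DecidableEq F] in
theorem isIrrCharacter_twC (d : Fˣ) {χ : Matrix.SpecialLinearGroup (Fin 2) F → ℂ}
    (hχ : IsIrrCharacter (Matrix.SpecialLinearGroup (Fin 2) F) χ) :
    IsIrrCharacter (Matrix.SpecialLinearGroup (Fin 2) F) (twC d χ) :=
  Cfsg.Agent.Helper80.IsIrrCharacter.comp_surjective hχ (twistHom d) (twistHom_surjective d)

omit [Fintype F] [DecidableEq F] in
theorem twC_sq (c : Fˣ) {χ : Matrix.SpecialLinearGroup (Fin 2) F → ℂ}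
    (hχ : IsClassFunction (Matrix.SpecialLinearGroup (Fin 2) F) χ) : twC (c * c) χ = χ := by
  funext s
  exact apply_twistFun_sq hχ s c

theorem twC_of_isSquare {d : Fˣ} (hd : IsSquare (d : F))
    {χ : Matrix.SpecialLinearGroup (Fin 2) F → ℂ}
    (hχ : IsClassFunction (Matrix.SpecialLinearGroup (Fin 2) F) χ) : twC d χ = χ := by
  obtain ⟨c, rfl⟩ := exists_unit_sq_of_isSquare hd
  exact twC_sq c hχ

omit [Fintype F] [DecidableEq F] in
theorem twC_twC (d d' : Fˣ) (χ : Matrix.SpecialLinearGroup (Fin 2) F → ℂ) :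
    twC d (twC d' χ) = twC (d' * d) χ := by
  funext s
  rw [twC_apply, twC_apply, twC_apply, twistFun_twistFun]

omit [Fintype F] [DecidableEq F] in
theorem isClassFunction_twC (d : Fˣ) {χ : Matrix.SpecialLinearGroup (Fin 2) F → ℂ}
    (hχ : IsClassFunction (Matrix.SpecialLinearGroup (Fin 2) F) χ) :
    IsClassFunction (Matrix.SpecialLinearGroup (Fin 2) F) (twC d χ) := by
  intro s n
  rw [twC_apply, twC_apply, twistFun_mul, twistFun_mul]
  have : twistFun d n⁻¹ = (twistFun d n)⁻¹ := (twistHom d).map_inv n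
  rw [this]
  exact hχ _ _

/-- All twists by non-squares agree on class functions. -/
theorem twC_eq_of_not_isSquare (hodd : Odd (Fintype.card F)) {ν d : Fˣ}
    (hν : ¬ IsSquare (ν : F)) (hd : ¬ IsSquare (d : F))
    {χ : Matrix.SpecialLinearGroup (Fin 2) F → ℂ}
    (hχ : IsClassFunction (Matrix.SpecialLinearGroup (Fin 2) F) χ) : twC d χ = twC ν χ := by
  obtain ⟨c, rfl⟩ := exists_sq_of_not_isSquare hodd hν hd
  rw [← twC_twC, twC_sq c (isClassFunction_twC ν hχ)]

/-- The product of two non-squares is a square. -/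
theorem isSquare_mul_of_not_isSquare {a b : Fˣ}
    (ha : ¬ IsSquare (a : F)) (hb : ¬ IsSquare (b : F)) : IsSquare ((a * b : Fˣ) : F) := by
  have h1 : quadraticChar F ((a : F) * (b : F)) = 1 := by
    rw [map_mul, quadraticChar_neg_one_iff_not_isSquare.mpr ha,
      quadraticChar_neg_one_iff_not_isSquare.mpr hb]
    norm_num
  have hab : (a : F) * (b : F) ≠ 0 := mul_ne_zero a.ne_zero b.ne_zero
  rw [Units.val_mul]
  exact (quadraticChar_one_iff_isSquare hab).mp h1

theorem twC_twC_self {ν : Fˣ} (hν : ¬ IsSquare (ν : F))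
    {χ : Matrix.SpecialLinearGroup (Fin 2) F → ℂ}
    (hχ : IsClassFunction (Matrix.SpecialLinearGroup (Fin 2) F) χ) : twC ν (twC ν χ) = χ := by
  rw [twC_twC]
  exact twC_sq ν hχ

/-- The behaviour of `χ - χ^ν` under the twists. -/
theorem diff_twist (hodd : Odd (Fintype.card F)) {ν : Fˣ} (hν : ¬ IsSquare (ν : F))
    {χ : Matrix.SpecialLinearGroup (Fin 2) F → ℂ}
    (hχ : IsClassFunction (Matrix.SpecialLinearGroup (Fin 2) F) χ) (d : Fˣ)
    (s : Matrix.SpecialLinearGroup (Fin 2) F) :
    χ (twistFun d s) - twC ν χ (twistFun d s) =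
      if IsSquare (d : F) then χ s - twC ν χ s else -(χ s - twC ν χ s) := by
  have h1 : χ (twistFun d s) = twC d χ s := rfl
  have h2 : twC ν χ (twistFun d s) = twC d (twC ν χ) s := rfl
  rw [h1, h2]
  split_ifs with hd
  · rw [twC_of_isSquare hd hχ, twC_of_isSquare hd (isClassFunction_twC ν hχ)]
  · rw [twC_eq_of_not_isSquare hodd hν hd hχ,
      twC_eq_of_not_isSquare hodd hν hd (isClassFunction_twC ν hχ), twC_twC_self hν hχ]
    ring

/-! ### The value of `χ - χ^ν` at the transvection -/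

omit [Fintype F] [DecidableEq F] in
theorem uSL_zero : uSL (0 : F) = 1 := by
  apply sl2_ext <;> rfl

omit [Fintype F] [DecidableEq F] in
theorem isStableClass_zSL_mul_one : IsStableClass (1 : Matrix.SpecialLinearGroup (Fin 2) F) :=
  isStableClass_one

/-- `|χ(u) - χ^ν(u)|² = q` for an irreducible character `χ` of `SL₂(F)` with `χ^ν ≠ χ`. -/
theorem normSq_diff (hodd : Odd (Fintype.card F)) {ν : Fˣ} (hν : ¬ IsSquare (ν : F))
    {χ : Matrix.SpecialLinearGroup (Fin 2) F → ℂ}
    (hχ : IsIrrCharacter (Matrix.SpecialLinearGroup (Fin 2) F) χ) (hne : twC ν χ ≠ χ) :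
    (χ (uSL 1) - twC ν χ (uSL 1)) * conj (χ (uSL 1) - twC ν χ (uSL 1)) =
      (Fintype.card F : ℂ) := by
  classical
  have h2 : (2 : F) ≠ 0 := Ring.two_ne_zero (ringChar_ne_two_of_odd hodd)
  have hχcf : IsClassFunction (Matrix.SpecialLinearGroup (Fin 2) F) χ :=
    Cfsg.Agent.Helper74.isClassFunction_of_isCharacter (Cfsg.Agent.Helper74.isCharacter_of_isIrr hχ)
  have hσ : IsIrrCharacter (Matrix.SpecialLinearGroup (Fin 2) F) (twC ν χ) := isIrrCharacter_twC ν hχ
  have hσcf : IsClassFunction (Matrix.SpecialLinearGroup (Fin 2) F) (twC ν χ) :=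
    isClassFunction_twC ν hχcf
  set D : Matrix.SpecialLinearGroup (Fin 2) F → ℂ := fun s => χ s - twC ν χ s with hDdef
  set f : Matrix.SpecialLinearGroup (Fin 2) F → ℂ := fun s => D s * conj (D s) with hfdef
  have hDcf : IsClassFunction (Matrix.SpecialLinearGroup (Fin 2) F) D := by
    intro s n
    simp only [hDdef]
    rw [hχcf s n, hσcf s n]
  have hfcf : IsClassFunction (Matrix.SpecialLinearGroup (Fin 2) F) f := by
    intro s n
    simp only [hfdef]
    rw [hDcf s n]
  -- (H1) the norm of `D`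
  have hnorm : classInner D D = 2 := by
    have hD : D = χ - twC ν χ := rfl
    have e1 := Cfsg.Agent.Helper74.irr_inner_self
      (⟨χ, hχ⟩ : IrrCharacter (Matrix.SpecialLinearGroup (Fin 2) F))
    have e2 := Cfsg.Agent.Helper74.irr_inner_self
      (⟨twC ν χ, hσ⟩ : IrrCharacter (Matrix.SpecialLinearGroup (Fin 2) F))
    have hne' : (⟨χ, hχ⟩ : IrrCharacter (Matrix.SpecialLinearGroup (Fin 2) F)) ≠ ⟨twC ν χ, hσ⟩ := by
      intro h
      exact hne (congrArg Subtype.val h).symm
    have e3 := Cfsg.Agent.Helper74.irr_inner_ne hne'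
    have e4 := Cfsg.Agent.Helper74.irr_inner_ne hne'.symm
    simp only at e1 e2 e3 e4
    rw [hD, Cfsg.Agent.Helper74.classInner_sub_left, Cfsg.Agent.Helper74.classInner_sub_right,
      Cfsg.Agent.Helper74.classInner_sub_right, e1, e2, e3, e4]
    norm_num
  have hq : 2 ≤ Fintype.card F := Fintype.one_lt_card
  obtain ⟨m, hm⟩ : ∃ m : ℕ, Fintype.card F = m + 1 := ⟨Fintype.card F - 1, by omega⟩
  have hm0 : 0 < m := by omega
  have hcardSL : (Nat.card (Matrix.SpecialLinearGroup (Fin 2) F) : ℂ) =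
      ((m : ℂ) + 1) * ((m : ℂ) * ((m : ℂ) + 2)) := by
    rw [Cfsg.Agent.Helper5.card_SL2, hm]
    have : (m + 1) ^ 2 - 1 = m * (m + 2) := by
      apply Nat.sub_eq_of_eq_add
      ring
    rw [this]
    push_cast
    ring
  have hmC : (m : ℂ) ≠ 0 := by exact_mod_cast hm0.ne'
  have hqC : ((m : ℂ) + 1) ≠ 0 := by exact_mod_cast Nat.succ_ne_zero m
  have hq2C : ((m : ℂ) + 2) ≠ 0 := by exact_mod_cast Nat.succ_ne_zero (m + 1)
  have hS1 : ∑ s, f s = 2 * (((m : ℂ) + 1) * ((m : ℂ) * ((m : ℂ) + 2))) := by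
    rw [Cfsg.Agent.Helper74.classInner_def, hcardSL] at hnorm
    have h' : (((m : ℂ) + 1) * ((m : ℂ) * ((m : ℂ) + 2)))⁻¹ * ∑ s, f s = 2 := hnorm
    field_simp at h'
    linear_combination h'
  -- (H2) vanishing on stable classes
  have hstab : ∀ s, IsStableClass s → D s = 0 := by
    intro s hs
    simp only [hDdef, twC_apply]
    rw [apply_twistFun_of_stable hχcf s hs ν, sub_self]
  -- (H3)
  have hfix : ∀ s, fixFun s * f s = f s := by
    intro s
    by_cases hD : D s = 0
    · simp only [hfdef, hD]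
      simp
    · have ht : (s : Matrix (Fin 2) (Fin 2) F).trace ^ 2 = 4 := by
        by_contra ht
        exact hD (hstab s (isStableClass_of_trace hodd s ht))
      have hns : ¬ ((s : Matrix (Fin 2) (Fin 2) F) 0 1 = 0 ∧ (s : Matrix (Fin 2) (Fin 2) F) 1 0 = 0) := by
        intro h
        exact hD (hstab s (isStableClass_of_diag s h.1 h.2))
      rw [fixFun_of_parabolic h2 s ht hns, one_mul]
  -- (H4)
  have hfrob := frob_fixed f hfcf
  simp only [hfix] at hfrob
  -- central character
  obtain ⟨c, hc1, hc⟩ := irr_central_mul hχ zSL zSL_comm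
  have hcc : c * conj c = 1 := by
    rw [Complex.mul_conj, Complex.normSq_eq_norm_sq, hc1]
    simp
  have hfz : ∀ s, f (zSL * s) = f s := by
    intro s
    have hD : D (zSL * s) = c * D s := by
      simp only [hDdef, twC_apply]
      rw [twistFun_mul, twistFun_zSL, hc s, hc (twistFun ν s)]
      ring
    simp only [hfdef]
    rw [hD, map_mul]
    linear_combination (D s * conj (D s)) * hcc
  have hfu : ∀ x : F, x ≠ 0 → f (uSL x) = f (uSL 1) := by
    intro x hx
    have hxu : uSL x = twistFun (Units.mk0 x hx) (uSL 1) := by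
      rw [twistFun_uSL, Units.val_mk0, mul_one]
    have hD : D (uSL x) = if IsSquare ((Units.mk0 x hx : Fˣ) : F) then D (uSL 1) else -D (uSL 1) := by
      rw [hxu]
      exact diff_twist hodd hν hχcf (Units.mk0 x hx) (uSL 1)
    simp only [hfdef]
    rw [hD]
    split_ifs
    · rfl
    · rw [map_neg]
      ring
  have hf0 : f 1 = 0 := by
    simp only [hfdef]
    rw [hstab 1 isStableClass_one]
    simp
  have hneg1 : (1 : Fˣ) ≠ -1 := by
    intro h
    have := congrArg (fun u : Fˣ => (u : F)) h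
    simp only [Units.val_one, Units.val_neg] at this
    apply h2
    linear_combination this
  have hB : ∀ (a : Fˣ) (x : F),
      f ((Cfsg.Agent.S2306.bElt (a, x) : BSL F) : Matrix.SpecialLinearGroup (Fin 2) F) =
        (if a = 1 then (if x = 0 then 0 else f (uSL 1)) else 0) +
        (if a = -1 then (if x = 0 then 0 else f (uSL 1)) else 0) := by
    intro a x
    by_cases ha1 : a = 1
    · subst ha1
      rw [if_pos rfl, if_neg hneg1, add_zero, bElt_one]
      split_ifs with hx
      · rw [hx, uSL_zero]; exact hf0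
      · exact hfu x hx
    · by_cases ha2 : a = -1
      · subst ha2
        rw [if_neg ha1, if_pos rfl, zero_add, bElt_neg_one, hfz]
        split_ifs with hx
        · rw [hx, neg_zero, uSL_zero]; exact hf0
        · exact hfu (-x) (neg_ne_zero.mpr hx)
      · rw [if_neg ha1, if_neg ha2, add_zero]
        have hasq : (a : F) ^ 2 ≠ 1 := by
          intro h
          have hfac : ((a : F) - 1) * ((a : F) + 1) = 0 := by linear_combination h
          rcases mul_eq_zero.mp hfac with h' | h'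
          · exact ha1 (Units.ext (sub_eq_zero.mp h'))
          · apply ha2
            apply Units.ext
            rw [Units.val_neg, Units.val_one]
            exact eq_neg_of_add_eq_zero_left h'
        have ht : ((Cfsg.Agent.S2306.bElt (a, x) : BSL F) :
            Matrix.SpecialLinearGroup (Fin 2) F).1.trace ^ 2 ≠ 4 := by
          rw [Matrix.trace_fin_two]
          have e0 : ((Cfsg.Agent.S2306.bElt (a, x) : BSL F) :
            Matrix.SpecialLinearGroup (Fin 2) F).1 0 0 = a := rfl
          have e1 : ((Cfsg.Agent.S2306.bElt (a, x) : BSL F) :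
            Matrix.SpecialLinearGroup (Fin 2) F).1 1 1 = ((a⁻¹ : Fˣ) : F) := rfl
          rw [e0, e1]
          intro h
          apply hasq
          have hd := units_mul_inv_val a
          have h0 : ((a : F) - ((a⁻¹ : Fˣ) : F)) ^ 2 = 0 := by linear_combination h - 4 * hd
          have h1 : (a : F) = ((a⁻¹ : Fˣ) : F) := sub_eq_zero.mp (pow_eq_zero_iff two_ne_zero |>.mp h0)
          rw [sq]
          nth_rewrite 2 [h1]
          exact hd
        simp only [hfdef]
        rw [hstab _ (isStableClass_of_trace hodd _ ht)]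
        simp
  simp only [hB] at hfrob
  have hsumx : ∑ x : F, (if x = 0 then (0 : ℂ) else f (uSL 1)) = (m : ℂ) * f (uSL 1) := by
    have : ∀ x : F, (if x = 0 then (0 : ℂ) else f (uSL 1)) =
        f (uSL 1) - (if x = 0 then f (uSL 1) else 0) := by
      intro x
      split_ifs <;> ring
    simp only [this]
    rw [Finset.sum_sub_distrib, Finset.sum_ite_eq' Finset.univ, Finset.sum_const, Finset.card_univ,
      hm]
    simp
    ring
  have hsumB : ∑ a : Fˣ, ∑ x : F,
      ((if a = 1 then (if x = 0 then (0 : ℂ) else f (uSL 1)) else 0) +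
        (if a = -1 then (if x = 0 then (0 : ℂ) else f (uSL 1)) else 0)) =
      2 * ((m : ℂ) * f (uSL 1)) := by
    have : ∀ a : Fˣ, ∑ x : F,
        ((if a = 1 then (if x = 0 then (0 : ℂ) else f (uSL 1)) else 0) +
          (if a = -1 then (if x = 0 then (0 : ℂ) else f (uSL 1)) else 0)) =
        (if a = 1 then (m : ℂ) * f (uSL 1) else 0) + (if a = -1 then (m : ℂ) * f (uSL 1) else 0) := by
      intro a
      rw [Finset.sum_add_distrib]
      congr 1
      · split_ifs
        · exact hsumx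
        · simp
      · split_ifs
        · exact hsumx
        · simp
    simp only [this]
    rw [Finset.sum_add_distrib, Finset.sum_ite_eq' Finset.univ, Finset.sum_ite_eq' Finset.univ]
    simp
    ring
  rw [hsumB, hS1, hm] at hfrob
  push_cast at hfrob
  have hfinal : f (uSL 1) = (m : ℂ) + 1 := by
    have h3 : 2 * ((m : ℂ) * ((m : ℂ) + 2)) * (((m : ℂ) + 1) - f (uSL 1)) = 0 := by
      linear_combination hfrob
    have h4 : 2 * ((m : ℂ) * ((m : ℂ) + 2)) ≠ 0 := mul_ne_zero two_ne_zero (mul_ne_zero hmC hq2C)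
    have := (mul_eq_zero.mp h3).resolve_left h4
    linear_combination -this
  rw [hm]
  push_cast
  exact hfinal

omit [Fintype F] [DecidableEq F] in
theorem uSL_inv : (uSL (1 : F))⁻¹ = uSL (-1) := by
  rw [inv_eq_iff_eq_inv, eq_inv_iff_mul_eq_one]
  apply sl2_ext
  · rw [sl2_mul_00, uSL_00, uSL_01, uSL_10, uSL_00]; simp
  · rw [sl2_mul_01, uSL_00, uSL_01, uSL_01, uSL_11]; simp
  · rw [sl2_mul_10, uSL_10, uSL_11, uSL_00, uSL_10]; simp
  · rw [sl2_mul_11, uSL_10, uSL_11, uSL_01, uSL_11]; simp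

/-- `(χ(u) - χ^ν(u))² = (-1)^((q-1)/2) q`. -/
theorem diff_sq (hodd : Odd (Fintype.card F)) {ν : Fˣ} (hν : ¬ IsSquare (ν : F))
    {χ : Matrix.SpecialLinearGroup (Fin 2) F → ℂ}
    (hχ : IsIrrCharacter (Matrix.SpecialLinearGroup (Fin 2) F) χ) (hne : twC ν χ ≠ χ) :
    (χ (uSL 1) - twC ν χ (uSL 1)) ^ 2 =
      (-1 : ℂ) ^ ((Fintype.card F - 1) / 2) * (Fintype.card F : ℂ) := by
  have hχc : IsCharacter (Matrix.SpecialLinearGroup (Fin 2) F) χ :=
    Cfsg.Agent.Helper74.isCharacter_of_isIrr hχ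
  have hχcf : IsClassFunction (Matrix.SpecialLinearGroup (Fin 2) F) χ :=
    Cfsg.Agent.Helper74.isClassFunction_of_isCharacter hχc
  have hσc : IsCharacter (Matrix.SpecialLinearGroup (Fin 2) F) (twC ν χ) :=
    Cfsg.Agent.Helper74.isCharacter_of_isIrr (isIrrCharacter_twC ν hχ)
  have hnorm := normSq_diff hodd hν hχ hne
  have hconj : conj (χ (uSL 1) - twC ν χ (uSL 1)) =
      χ (uSL (-1)) - twC ν χ (uSL (-1)) := by
    rw [map_sub, ← Cfsg.Agent.Helper74.char_inv hχc, ← Cfsg.Agent.Helper74.char_inv hσc, uSL_inv]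
  have htw : uSL (-1 : F) = twistFun (-1 : Fˣ) (uSL 1) := by
    rw [twistFun_uSL]
    simp
  rw [htw] at hconj
  have hd := diff_twist hodd hν hχcf (-1 : Fˣ) (uSL 1)
  rw [hd] at hconj
  have hsqiff := FiniteField.isSquare_neg_one_iff (F := F)
  have hval : ((-1 : Fˣ) : F) = -1 := by simp
  rw [hval] at hconj
  obtain ⟨j, hj⟩ := hodd
  by_cases hsq : IsSquare (-1 : F)
  · rw [if_pos hsq] at hconj
    have h4 : Fintype.card F % 4 = 1 := by
      have := hsqiff.mp hsq
      omega
    have heven : Even ((Fintype.card F - 1) / 2) := by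
      rw [Nat.even_iff]
      omega
    rw [heven.neg_one_pow, one_mul, ← hnorm, hconj]
    ring
  · rw [if_neg hsq] at hconj
    have h4 : Fintype.card F % 4 = 3 := by
      by_contra h
      exact hsq (hsqiff.mpr h)
    have hoddn : Odd ((Fintype.card F - 1) / 2) := by
      rw [Nat.odd_iff]
      omega
    rw [hoddn.neg_one_pow, ← hnorm, hconj]
    ring

/-! ### The refined structure of the restriction -/

theorem sl2_lying_under2 (χ : Matrix.SpecialLinearGroup (Fin 2) F → ℂ)
    (hχ : IsIrrCharacter (Matrix.SpecialLinearGroup (Fin 2) F) χ) :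
    ∃ (ψ : GL (Fin 2) F → ℂ) (k : ℕ), IsIrrCharacter (GL (Fin 2) F) ψ ∧ 0 < k ∧
      ψ 1 = (k : ℂ) * χ 1 ∧
      (∀ α β : MulChar F ℂ, ψ = piFun α β → k ≤ 2) ∧
      (k = 2 → (∀ s, ψ (Matrix.SpecialLinearGroup.toGL s) = 2 * χ s) ∨
        (∃ d : Fˣ, twC d χ ≠ χ ∧
          ∀ s, ψ (Matrix.SpecialLinearGroup.toGL s) = χ s + twC d χ s)) := by
  classical
  obtain ⟨ψ, e, S, hψ, he, hχS, hS, hsum⟩ := sl2_clifford χ hχ
  have hχcf : IsClassFunction (Matrix.SpecialLinearGroup (Fin 2) F) χ :=
    Cfsg.Agent.Helper74.isClassFunction_of_isCharacter (Cfsg.Agent.Helper74.isCharacter_of_isIrr hχ)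
  have hcard : 0 < S.card := Finset.card_pos.mpr ⟨χ, hχS⟩
  have hdeg1 : ∀ φ ∈ S, φ 1 = χ 1 := by
    intro φ hφ
    obtain ⟨x, hx⟩ := (hS φ hφ).2
    apply hx 1 1
    simp
  refine ⟨ψ, e * S.card, hψ, Nat.mul_pos he hcard, ?_, ?_, ?_⟩
  · have := hsum 1
    rw [map_one, Finset.sum_congr rfl hdeg1, Finset.sum_const, nsmul_eq_mul] at this
    rw [this]
    push_cast
    ring
  · rintro α β rfl
    have hn := norm_piFun_toGL α β
    have hfun : (fun s : Matrix.SpecialLinearGroup (Fin 2) F =>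
        piFun α β (Matrix.SpecialLinearGroup.toGL s)) = fun s => (e : ℂ) * ∑ φ ∈ S, φ s := by
      funext s
      exact hsum s
    rw [hfun, inner_smul_sum_irr e S (fun φ hφ => (hS φ hφ).1)] at hn
    have hle : e * e * S.card ≤ 2 := by
      have h2 : ((e * e * S.card : ℕ) : ℂ) = ((1 + (if (α * β⁻¹) ^ 2 = 1 then 1 else 0) : ℕ) : ℂ) := by
        rw [hn]
        split_ifs
        · simp; norm_num
        · simp
      have h3 : e * e * S.card = 1 + (if (α * β⁻¹) ^ 2 = 1 then 1 else 0) := by exact_mod_cast h2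
      rw [h3]
      split_ifs <;> omega
    calc e * S.card = 1 * (e * S.card) := (one_mul _).symm
      _ ≤ e * (e * S.card) := Nat.mul_le_mul_right _ he
      _ = e * e * S.card := (mul_assoc _ _ _).symm
      _ ≤ 2 := hle
  · intro hk
    have hcases : (e = 2 ∧ S.card = 1) ∨ (e = 1 ∧ S.card = 2) := by
      have he2 : e ≤ 2 := by
        by_contra h
        have : 3 * S.card ≤ e * S.card := Nat.mul_le_mul_right _ (by omega)
        omega
      interval_cases e <;> omega
    rcases hcases with ⟨he2, hS1⟩ | ⟨he1, hS2⟩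
    · left
      intro s
      obtain ⟨a, ha⟩ := Finset.card_eq_one.mp hS1
      have hχa : χ = a := by
        rw [ha] at hχS
        exact Finset.mem_singleton.mp hχS
      rw [hsum s, he2, ha, Finset.sum_singleton, ← hχa]
      norm_num
    · right
      obtain ⟨χ', hχ'S, hχ'ne, hSeq⟩ : ∃ χ', χ' ∈ S ∧ χ ≠ χ' ∧ S = {χ, χ'} := by
        obtain ⟨a, b, hab, hSab⟩ := Finset.card_eq_two.mp hS2
        rw [hSab] at hχS ⊢
        rcases Finset.mem_insert.mp hχS with h | h
        · refine ⟨b, by simp, by rw [h]; exact hab, by rw [h]⟩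
        · rw [Finset.mem_singleton] at h
          refine ⟨a, by simp, by rw [h]; exact hab.symm, ?_⟩
          rw [h]
          exact Finset.pair_comm a b
      obtain ⟨x, hx⟩ := (hS χ' hχ'S).2
      have hχ'eq : χ' = twC (Matrix.GeneralLinearGroup.det x) χ := by
        funext s
        have hmem : x * Matrix.SpecialLinearGroup.toGL s * x⁻¹ ∈ slSub F :=
          (slSub_normal F).conj_mem _ ⟨s, rfl⟩ x
        obtain ⟨s', hs'⟩ := hmem
        obtain ⟨n, hn⟩ := exists_conj_twist x s s' hs'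
        rw [hx s s' hs', hn, twC_apply]
        exact hχcf _ n
      refine ⟨Matrix.GeneralLinearGroup.det x, ?_, ?_⟩
      · rw [← hχ'eq]
        exact hχ'ne.symm
      · intro s
        rw [hsum s, he1, hSeq, Finset.sum_pair hχ'ne, ← hχ'eq]
        simp

end Cfsg.Agent.Helper39
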