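import Cfsg.Agent.Helper39.SL2Table

set_option autoImplicit false

/-!
# Restriction of the principal series of `GL₂(F)` to `SL₂(F)`, and Clifford theory for a given
character of `GL₂(F)`.
-/

namespace Cfsg.Agent.Helper39

open Matrix Cfsg
open scoped ComplexConjugate

variable {F : Type*} [Field F] [Fintype F] [DecidableEq F]

attribute [local instance] slSub_normal

theorem indVal_eq_aux (α β : MulChar F ℂ) (a b c d : F) (hdet : a * d - b * c = 1) :
    ((if c = 0 then α a * β d else 0) +
      ∑ x : F, if a * x + b - x * (c * x + d) = 0 then α (c * x + d) * β (a - x * c) else 0) =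
    ((if c = 0 then (α * β⁻¹) a else 0) +
      ∑ x : F, if a * x + b - x * (c * x + d) = 0 then (α * β⁻¹) (c * x + d) else 0) := by
  have hmul : ∀ u v : F, u * v = 1 → α u * β v = (α * β⁻¹) u := by
    intro u v huv
    have hv : v = u⁻¹ := eq_inv_of_mul_eq_one_right huv
    rw [MulChar.mul_apply, MulChar.inv_apply', hv]
  congr 1
  · by_cases h10 : c = 0
    · rw [if_pos h10, if_pos h10]
      apply hmul
      rw [h10, mul_zero, sub_zero] at hdet
      exact hdet
    · rw [if_neg h10, if_neg h10]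
  · apply Finset.sum_congr rfl
    intro x _
    by_cases hc : a * x + b - x * (c * x + d) = 0
    · rw [if_pos hc, if_pos hc]
      apply hmul
      linear_combination hdet + c * hc
    · rw [if_neg hc, if_neg hc]

/-- The restriction of the principal series character `π(α, β)` to `SL₂(F)` is the character
induced from `α β⁻¹` on the upper triangular subgroup of `SL₂(F)`. -/
theorem piFun_toGL (α β : MulChar F ℂ) (s : Matrix.SpecialLinearGroup (Fin 2) F) :
    piFun α β (Matrix.SpecialLinearGroup.toGL s) = Cfsg.Agent.S2306.indVal (α * β⁻¹) s := by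
  rw [piFun_apply]
  have hdet : (s : Matrix (Fin 2) (Fin 2) F) 0 0 * (s : Matrix (Fin 2) (Fin 2) F) 1 1 -
      (s : Matrix (Fin 2) (Fin 2) F) 0 1 * (s : Matrix (Fin 2) (Fin 2) F) 1 0 = 1 := by
    have := s.2
    rwa [Matrix.det_fin_two] at this
  exact indVal_eq_aux α β _ _ _ _ hdet

theorem piFun_toGL_eq_indFun (α β : MulChar F ℂ) :
    (fun s : Matrix.SpecialLinearGroup (Fin 2) F => piFun α β (Matrix.SpecialLinearGroup.toGL s)) =
      Cfsg.indFun (BSL F) (Cfsg.Agent.S2306.theta (α * β⁻¹)) := by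
  funext s
  rw [piFun_toGL, Cfsg.Agent.S2306.indFun_theta]

/-- Clifford's theorem for a given irreducible character `ψ` of `GL₂(F)` and an irreducible
constituent `χ` of its restriction to `SL₂(F)`. -/
theorem sl2_clifford_of (ψ : GL (Fin 2) F → ℂ) (hψi : IsIrrCharacter (GL (Fin 2) F) ψ)
    (χ : Matrix.SpecialLinearGroup (Fin 2) F → ℂ)
    (hχ : IsIrrCharacter (Matrix.SpecialLinearGroup (Fin 2) F) χ)
    (hne : classInner (fun s => ψ (Matrix.SpecialLinearGroup.toGL s)) χ ≠ 0) :
    ∃ (e : ℕ) (S : Finset (Matrix.SpecialLinearGroup (Fin 2) F → ℂ)),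
      0 < e ∧ χ ∈ S ∧
      (∀ φ ∈ S, IsIrrCharacter (Matrix.SpecialLinearGroup (Fin 2) F) φ ∧
        ∃ x : GL (Fin 2) F, ∀ s s' : Matrix.SpecialLinearGroup (Fin 2) F,
          Matrix.SpecialLinearGroup.toGL s' = x * Matrix.SpecialLinearGroup.toGL s * x⁻¹ →
            φ s = χ s') ∧
      (∀ s : Matrix.SpecialLinearGroup (Fin 2) F,
        ψ (Matrix.SpecialLinearGroup.toGL s) = (e : ℂ) * ∑ φ ∈ S, φ s) := by
  classical
  set N := slSub F with hN
  set θ : N → ℂ := fun n => χ ((slEquiv F).symm n) with hθdef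
  have hθ : IsIrrCharacter N θ :=
    Cfsg.Agent.Helper80.IsIrrCharacter.comp_surjective hχ (slEquiv F).symm.toMonoidHom
      (slEquiv F).symm.surjective
  have hψ' : classInner (fun n : N => ψ n) θ ≠ 0 := by
    have h1 := Cfsg.Agent.Helper15.classInner_comp_mulEquiv (slEquiv F) (fun n : N => ψ n) θ
    have h2 : (fun a => θ (slEquiv F a)) = χ := by
      funext a
      simp [hθdef]
    rw [h2] at h1
    rw [← h1]
    exact hne
  have hcl := Cfsg.Agent.Helper15.clifford_restrict N hψi hθ hψ'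
  have hres : IsCharacter N (fun n : N => ψ n) :=
    Cfsg.Agent.Helper74.isCharacter_restrict N (Cfsg.Agent.Helper74.isCharacter_of_isIrr hψi)
  obtain ⟨e, he⟩ := Cfsg.Agent.Helper74.isCharacter_inner_irr_nat hres ⟨θ, hθ⟩
  change classInner (fun n : N => ψ n) θ = e at he
  have he0 : 0 < e := by
    rcases Nat.eq_zero_or_pos e with h | h
    · exfalso
      apply hψ'
      rw [he, h]
      simp
    · exact h
  have hinj : Function.Injective
      (fun (φ : N → ℂ) => fun s : Matrix.SpecialLinearGroup (Fin 2) F => φ (slEquiv F s)) := by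
    intro φ φ' h
    funext n
    have := congrFun h ((slEquiv F).symm n)
    simpa using this
  refine ⟨e, (Cfsg.Agent.Helper15.conjOrbit N θ).image
    (fun (φ : N → ℂ) => fun s : Matrix.SpecialLinearGroup (Fin 2) F => φ (slEquiv F s)),
    he0, ?_, ?_, ?_⟩
  · rw [Finset.mem_image]
    refine ⟨θ, Cfsg.Agent.Helper15.self_mem_conjOrbit N θ, ?_⟩
    funext s
    simp [hθdef]
  · intro φ hφ
    obtain ⟨φ', hφ', rfl⟩ := Finset.mem_image.mp hφ
    constructor
    · exact Cfsg.Agent.Helper80.IsIrrCharacter.comp_surjective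
        (Cfsg.Agent.Helper15.isIrrCharacter_of_mem_conjOrbit N hθ hφ') (slEquiv F).toMonoidHom
        (slEquiv F).surjective
    · obtain ⟨g, rfl⟩ := (Cfsg.Agent.Helper15.mem_conjOrbit N).mp hφ'
      refine ⟨g, ?_⟩
      intro s s' hs
      simp only [Cfsg.Agent.Helper15.conjFun_apply, hθdef]
      congr 1
      rw [MulEquiv.symm_apply_eq]
      apply Subtype.ext
      exact hs.symm
  · intro s
    have h1 := congrFun hcl (slEquiv F s)
    rw [he] at h1
    simp only [Pi.smul_apply, Finset.sum_apply, smul_eq_mul] at h1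
    rw [Finset.sum_image (fun a _ b _ h => hinj h)]
    exact h1

/-- The norm of `e • ∑ φ ∈ S, φ` for a set `S` of irreducible characters. -/
theorem inner_smul_sum_irr {G : Type*} [Group G] [Fintype G] (e : ℕ) (S : Finset (G → ℂ))
    (hS : ∀ φ ∈ S, IsIrrCharacter G φ) :
    classInner (fun g => (e : ℂ) * ∑ φ ∈ S, φ g) (fun g => (e : ℂ) * ∑ φ ∈ S, φ g) =
      ((e * e * S.card : ℕ) : ℂ) := by
  classical
  have h1 : (fun g => (e : ℂ) * ∑ φ ∈ S, φ g) = (e : ℂ) • ∑ φ ∈ S, φ := by
    funext g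
    simp [Finset.sum_apply]
  rw [h1, Cfsg.Agent.Helper74.classInner_smul_left, Cfsg.Agent.Helper74.classInner_smul_right,
    Cfsg.Agent.Helper74.classInner_sum_left]
  have h2 : ∀ φ ∈ S, classInner φ (∑ φ' ∈ S, φ') = 1 := by
    intro φ hφ
    rw [Cfsg.Agent.Helper74.classInner_sum_right]
    have h3 : ∀ φ' ∈ S, classInner φ φ' = if φ = φ' then 1 else 0 := by
      intro φ' hφ'
      have := Cfsg.Agent.Helper74.irr_orthonormal (⟨φ, hS φ hφ⟩ : IrrCharacter G) ⟨φ', hS φ' hφ'⟩
      rw [this]
      simp only [Subtype.mk.injEq]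
    rw [Finset.sum_congr rfl h3, Finset.sum_ite_eq S φ, if_pos hφ]
  rw [Finset.sum_congr rfl h2, Finset.sum_const, nsmul_eq_mul]
  simp
  ring

end Cfsg.Agent.Helper39
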