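import Cfsg.Agent.Helper39.SL2Half
import Cfsg.Agent.S2307
import Cfsg.Agent.Helper80.Integrality

set_option autoImplicit false

/-!
# The characters of `SL₂(F)` of degree `(q ± 1)/2`: values at the transvection
-/

namespace Cfsg.Agent.Helper39

open Matrix Cfsg
open scoped ComplexConjugate

variable {F : Type*} [Field F] [Fintype F] [DecidableEq F]

/-- Half of an odd integer is not an algebraic integer. -/
theorem not_isIntegral_half {x : ℂ} (hx : IsIntegral ℤ x) (h : 2 * x = 1 ∨ 2 * x = -1) : False := by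
  have key : ∀ y : ℂ, IsIntegral ℤ y → 2 * y = 1 → False := by
    intro y hy h2
    have hy' : y = ((1 : ℕ) : ℂ) / ((2 : ℕ) : ℂ) := by
      push_cast
      field_simp
      linear_combination h2
    rw [hy'] at hy
    have := Cfsg.Agent.Helper80.dvd_of_isIntegral_div (by norm_num) hy
    omega
  rcases h with h | h
  · exact key x hx h
  · exact key (-x) hx.neg (by linear_combination -h)

omit [Fintype F] [DecidableEq F] in
theorem toGL_uSL_one : Matrix.SpecialLinearGroup.toGL (uSL (1 : F)) = uElt F := toGL_uSL 1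

theorem piFun_uElt (α β : MulChar F ℂ) : piFun α β (uElt F) = 1 := by
  rw [← toGL_uSL_one]
  apply piFun_of_unipotent
  · rw [toGL_apply, uSL_00]
  · rw [toGL_apply, uSL_01]
  · rw [toGL_apply, uSL_10]
  · rw [toGL_apply, uSL_11]

/-- The degree of a character of `GL₂` above `χ`, as a natural number. -/
theorem deg_key {χ : Matrix.SpecialLinearGroup (Fin 2) F → ℂ} {ψ : GL (Fin 2) F → ℂ} {k : ℕ}
    (hdeg : ψ 1 = (k : ℂ) * χ 1) (A B : ℕ) (hA : χ 1 = (A : ℂ)) (hB : ψ 1 = (B : ℂ)) :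
    k * A = B := by
  rw [hA, hB] at hdeg
  have : ((k * A : ℕ) : ℂ) = (B : ℂ) := by push_cast; exact hdeg.symm
  exact_mod_cast this

/-- An irreducible character of `SL₂(F)` of degree `(q+1)/2` is half of the restriction of a
principal series character. -/
theorem half_plus (hodd : Odd (Fintype.card F)) (hq : 5 ≤ Fintype.card F)
    {χ : Matrix.SpecialLinearGroup (Fin 2) F → ℂ}
    (hχ : IsIrrCharacter (Matrix.SpecialLinearGroup (Fin 2) F) χ)
    (h1 : χ 1 = (((Fintype.card F + 1) / 2 : ℕ) : ℂ)) :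
    ∃ α β : MulChar F ℂ, α ≠ β ∧ ∃ d : Fˣ, twC d χ ≠ χ ∧
      ∀ s, piFun α β (Matrix.SpecialLinearGroup.toGL s) = χ s + twC d χ s := by
  classical
  obtain ⟨ψ, k, hψ, hk, hdeg, hpi, hk2⟩ := sl2_lying_under2 χ hχ
  obtain ⟨j, hj⟩ := hodd
  have hj2 : 2 ≤ j := by omega
  have hχ1 : χ 1 = ((j + 1 : ℕ) : ℂ) := by
    rw [h1]
    congr 1
    omega
  have hqC : (Fintype.card F : ℂ) = 2 * (j : ℂ) + 1 := by rw [hj]; push_cast; ring
  have hχc : IsCharacter (Matrix.SpecialLinearGroup (Fin 2) F) χ :=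
    Cfsg.Agent.Helper74.isCharacter_of_isIrr hχ
  rcases classification ψ hψ with ⟨μ, rfl⟩ | ⟨μ, rfl⟩ | ⟨α, β, hαβ, rfl⟩ | ⟨hd, hval, -⟩
  · exfalso
    have hB : detFun μ 1 = ((1 : ℕ) : ℂ) := by rw [detFun_one]; simp
    have := mul_eq_cases _ _ _ hk (deg_key hdeg _ _ hχ1 hB)
    omega
  · exfalso
    have hB : stFun μ 1 = ((2 * j + 1 : ℕ) : ℂ) := by rw [stFun_one, hqC]; push_cast; ring
    have := mul_eq_cases _ _ _ hk (deg_key hdeg _ _ hχ1 hB)
    omega
  · have hB : piFun α β 1 = ((2 * j + 2 : ℕ) : ℂ) := by rw [piFun_one, hqC]; push_cast; ring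
    have hkj := deg_key hdeg _ _ hχ1 hB
    have hk2' : k = 2 := by
      have : k * (j + 1) = 2 * (j + 1) := by rw [hkj]; ring
      exact Nat.eq_of_mul_eq_mul_right (by omega) this
    refine ⟨α, β, hαβ, ?_⟩
    rcases hk2 hk2' with h | h
    · exfalso
      have h' := h (uSL 1)
      rw [toGL_uSL_one, piFun_uElt] at h'
      exact not_isIntegral_half (Cfsg.Agent.Helper80.IsCharacter.isIntegral hχc (uSL 1))
        (Or.inl h'.symm)
    · exact h
  · exfalso
    have hB : ψ 1 = ((2 * j : ℕ) : ℂ) := by rw [hd, hqC]; push_cast; ring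
    have := mul_eq_cases _ _ _ hk (deg_key hdeg _ _ hχ1 hB)
    omega

/-- An irreducible character of `SL₂(F)` of degree `(q-1)/2` is half of the restriction of a
cuspidal character. -/
theorem half_minus (hodd : Odd (Fintype.card F)) (hq : 5 ≤ Fintype.card F)
    {χ : Matrix.SpecialLinearGroup (Fin 2) F → ℂ}
    (hχ : IsIrrCharacter (Matrix.SpecialLinearGroup (Fin 2) F) χ)
    (h1 : χ 1 = (((Fintype.card F - 1) / 2 : ℕ) : ℂ)) :
    ∃ d : Fˣ, twC d χ ≠ χ ∧ χ (uSL 1) + twC d χ (uSL 1) = -1 := by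
  classical
  obtain ⟨ψ, k, hψ, hk, hdeg, hpi, hk2⟩ := sl2_lying_under2 χ hχ
  obtain ⟨j, hj⟩ := hodd
  have hj2 : 2 ≤ j := by omega
  have hχ1 : χ 1 = ((j : ℕ) : ℂ) := by
    rw [h1]
    congr 1
    omega
  have hqC : (Fintype.card F : ℂ) = 2 * (j : ℂ) + 1 := by rw [hj]; push_cast; ring
  have hχc : IsCharacter (Matrix.SpecialLinearGroup (Fin 2) F) χ :=
    Cfsg.Agent.Helper74.isCharacter_of_isIrr hχ
  rcases classification ψ hψ with ⟨μ, rfl⟩ | ⟨μ, rfl⟩ | ⟨α, β, hαβ, rfl⟩ | ⟨hd, hval, -⟩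
  · exfalso
    have hB : detFun μ 1 = ((1 : ℕ) : ℂ) := by rw [detFun_one]; simp
    have := mul_eq_cases _ _ _ hk (deg_key hdeg _ _ hχ1 hB)
    omega
  · exfalso
    have hB : stFun μ 1 = ((2 * j + 1 : ℕ) : ℂ) := by rw [stFun_one, hqC]; push_cast; ring
    have hkj := deg_key hdeg _ _ hχ1 hB
    rcases Nat.lt_or_ge 2 k with h | h
    · have : 3 * j ≤ k * j := Nat.mul_le_mul_right j h
      omega
    · have : k * j ≤ 2 * j := Nat.mul_le_mul_right j h
      omega
  · exfalso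
    have hB : piFun α β 1 = ((2 * j + 2 : ℕ) : ℂ) := by rw [piFun_one, hqC]; push_cast; ring
    have hkj := deg_key hdeg _ _ hχ1 hB
    have h := hpi α β rfl
    have : k * j ≤ 2 * j := Nat.mul_le_mul_right j h
    omega
  · have hB : ψ 1 = ((2 * j : ℕ) : ℂ) := by rw [hd, hqC]; push_cast; ring
    have hkj := deg_key hdeg _ _ hχ1 hB
    have hk2' : k = 2 := Nat.eq_of_mul_eq_mul_right (by omega : 0 < j) hkj
    rcases hk2 hk2' with h | ⟨d, hd1, hd2⟩
    · exfalso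
      have h' := h (uSL 1)
      rw [toGL_uSL_one, hval] at h'
      exact not_isIntegral_half (Cfsg.Agent.Helper80.IsCharacter.isIntegral hχc (uSL 1))
        (Or.inr h'.symm)
    · refine ⟨d, hd1, ?_⟩
      rw [← hd2 (uSL 1), toGL_uSL_one, hval]

/-! ### Uniqueness of the pair of degree `(q+1)/2` -/

theorem inner_irr_eq {G : Type*} [Group G] [Fintype G] {χ χ' : G → ℂ}
    (hχ : IsIrrCharacter G χ) (hχ' : IsIrrCharacter G χ') [Decidable (χ = χ')] :
    classInner χ χ' = if χ = χ' then 1 else 0 := by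
  split_ifs with h
  · subst h
    exact Cfsg.Agent.Helper74.irr_inner_self (⟨χ, hχ⟩ : IrrCharacter G)
  · exact Cfsg.Agent.Helper74.irr_inner_ne (χ := (⟨χ, hχ⟩ : IrrCharacter G))
      (ψ := (⟨χ', hχ'⟩ : IrrCharacter G)) (fun h' => h (congrArg Subtype.val h'))

theorem sq_eq_one_of_res {α β : MulChar F ℂ} {χ χ' : Matrix.SpecialLinearGroup (Fin 2) F → ℂ}
    (hχ : IsIrrCharacter (Matrix.SpecialLinearGroup (Fin 2) F) χ)
    (hχ' : IsIrrCharacter (Matrix.SpecialLinearGroup (Fin 2) F) χ') (hne : χ' ≠ χ)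
    (hres : ∀ s, piFun α β (Matrix.SpecialLinearGroup.toGL s) = χ s + χ' s) :
    (α * β⁻¹) ^ 2 = 1 := by
  classical
  have hn := norm_piFun_toGL α β
  have hfun : (fun s : Matrix.SpecialLinearGroup (Fin 2) F =>
      piFun α β (Matrix.SpecialLinearGroup.toGL s)) = χ + χ' := funext hres
  rw [hfun, Cfsg.Agent.Helper74.classInner_add_left, Cfsg.Agent.Helper74.classInner_add_right,
    Cfsg.Agent.Helper74.classInner_add_right, inner_irr_eq hχ hχ, inner_irr_eq hχ hχ',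
    inner_irr_eq hχ' hχ, inner_irr_eq hχ' hχ', if_pos rfl, if_pos rfl, if_neg hne,
    if_neg (Ne.symm hne)] at hn
  by_contra h
  rw [if_neg h] at hn
  norm_num at hn

/-- Two different irreducible characters of degree `(q+1)/2` are twists of each other. -/
theorem half_plus_pair (hodd : Odd (Fintype.card F)) (hq : 5 ≤ Fintype.card F)
    {χ₁ χ₂ : Matrix.SpecialLinearGroup (Fin 2) F → ℂ}
    (hχ₁ : IsIrrCharacter (Matrix.SpecialLinearGroup (Fin 2) F) χ₁)
    (hχ₂ : IsIrrCharacter (Matrix.SpecialLinearGroup (Fin 2) F) χ₂) (hne : χ₁ ≠ χ₂)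
    (h1 : χ₁ 1 = (((Fintype.card F + 1) / 2 : ℕ) : ℂ))
    (h2 : χ₂ 1 = (((Fintype.card F + 1) / 2 : ℕ) : ℂ)) :
    χ₁ (uSL 1) + χ₂ (uSL 1) = 1 := by
  classical
  obtain ⟨α₁, β₁, hne₁, d₁, hd₁, hres₁⟩ := half_plus hodd hq hχ₁ h1
  obtain ⟨α₂, β₂, hne₂, d₂, hd₂, hres₂⟩ := half_plus hodd hq hχ₂ h2
  have hσ₁ := isIrrCharacter_twC d₁ hχ₁
  have hσ₂ := isIrrCharacter_twC d₂ hχ₂
  have hγ₁ := sq_eq_one_of_res hχ₁ hσ₁ hd₁ hres₁
  have hγ₂ := sq_eq_one_of_res hχ₂ hσ₂ hd₂ hres₂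
  have hγ₁' : α₁ * β₁⁻¹ ≠ 1 := fun h => hne₁ (mul_inv_eq_one.mp h)
  have hγ₂' : α₂ * β₂⁻¹ ≠ 1 := fun h => hne₂ (mul_inv_eq_one.mp h)
  have hγ := mulChar_order_two_unique hodd _ _ hγ₁ hγ₁' hγ₂ hγ₂'
  have hfun : χ₁ + twC d₁ χ₁ = χ₂ + twC d₂ χ₂ := by
    have e1 : (fun s : Matrix.SpecialLinearGroup (Fin 2) F =>
        piFun α₁ β₁ (Matrix.SpecialLinearGroup.toGL s)) = χ₁ + twC d₁ χ₁ := funext hres₁
    have e2 : (fun s : Matrix.SpecialLinearGroup (Fin 2) F =>
        piFun α₂ β₂ (Matrix.SpecialLinearGroup.toGL s)) = χ₂ + twC d₂ χ₂ := funext hres₂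
    rw [← e1, ← e2, piFun_toGL_eq_indFun, piFun_toGL_eq_indFun, hγ]
  have hinner := congrArg (fun f => classInner f χ₂) hfun
  rw [Cfsg.Agent.Helper74.classInner_add_left, Cfsg.Agent.Helper74.classInner_add_left,
    inner_irr_eq hχ₁ hχ₂, inner_irr_eq hσ₁ hχ₂, inner_irr_eq hχ₂ hχ₂, inner_irr_eq hσ₂ hχ₂,
    if_neg hne, if_pos rfl, if_neg hd₂] at hinner
  have hσeq : twC d₁ χ₁ = χ₂ := by
    by_contra h
    rw [if_neg h] at hinner
    norm_num at hinner
  rw [← hσeq, ← hres₁ (uSL 1), toGL_uSL_one, piFun_uElt]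

/-! ### Counting the characters that are not stable -/

omit [Fintype F] [DecidableEq F] in
theorem not_isConj_uSL {ν : Fˣ} (hν : ¬ IsSquare (ν : F)) :
    ¬ IsConj (uSL (1 : F)) (uSL (ν : F)) := by
  intro h
  obtain ⟨c, hc⟩ := isConj_iff.mp h
  have hc' : c * uSL 1 = uSL (ν : F) * c := by
    rw [← hc]
    group
  have e00 := congrArg
    (fun s : Matrix.SpecialLinearGroup (Fin 2) F => (s : Matrix (Fin 2) (Fin 2) F) 0 0) hc'
  have e01 := congrArg
    (fun s : Matrix.SpecialLinearGroup (Fin 2) F => (s : Matrix (Fin 2) (Fin 2) F) 0 1) hc'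
  simp only [sl2_mul_00, sl2_mul_01, uSL_00, uSL_01, uSL_10, uSL_11] at e00 e01
  have hdet : (c : Matrix (Fin 2) (Fin 2) F) 0 0 * (c : Matrix (Fin 2) (Fin 2) F) 1 1 -
      (c : Matrix (Fin 2) (Fin 2) F) 0 1 * (c : Matrix (Fin 2) (Fin 2) F) 1 0 = 1 := by
    have := c.2
    rwa [Matrix.det_fin_two] at this
  generalize (c : Matrix (Fin 2) (Fin 2) F) 0 0 = a at *
  generalize (c : Matrix (Fin 2) (Fin 2) F) 0 1 = b at *
  generalize (c : Matrix (Fin 2) (Fin 2) F) 1 0 = c' at *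
  generalize (c : Matrix (Fin 2) (Fin 2) F) 1 1 = d at *
  have hc10 : c' = 0 := by
    have : (ν : F) * c' = 0 := by linear_combination -e00
    exact (mul_eq_zero.mp this).resolve_left ν.ne_zero
  subst hc10
  apply hν
  refine ⟨a, ?_⟩
  linear_combination (-(ν : F)) * hdet - a * e01

theorem card_centralizer_uSL (hodd : Odd (Fintype.card F)) {x : F} (hx : x ≠ 0) :
    Nat.card (Subgroup.centralizer ({uSL x} : Set (Matrix.SpecialLinearGroup (Fin 2) F))) =
      2 * Fintype.card F := by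
  classical
  have h2 : (2 : F) ≠ 0 := Ring.two_ne_zero (ringChar_ne_two_of_odd hodd)
  have hns : Cfsg.Agent.Helper42.IsNonScalarMat (uSL x : Matrix (Fin 2) (Fin 2) F) := by
    intro h
    exact hx h.1
  rw [Cfsg.Agent.Helper42.card_centralizer _ hns]
  have htr : (uSL x : Matrix (Fin 2) (Fin 2) F).trace = 2 := by
    rw [Matrix.trace_fin_two, uSL_00, uSL_11]
    norm_num
  rw [htr, ← Cfsg.Agent.Helper42.card_normOne_of_sq_eq_four h2 2 (by norm_num)]
  have : Cfsg.Agent.Helper42.normOneSet (2 : F) =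
      ↑(Finset.univ.filter (fun p : F × F => Cfsg.Agent.Helper42.qform 2 p = 1)) := by
    ext p
    simp only [Finset.coe_filter, Finset.mem_univ, true_and, Set.mem_setOf_eq]
    rfl
  rw [this, Nat.card_coe_set_eq, Set.ncard_coe_finset]

/-- The sum of `|χ(u) - χ^ν(u)|²` over the irreducible characters. -/
theorem sum_normSq_diff (hodd : Odd (Fintype.card F)) {ν : Fˣ} (hν : ¬ IsSquare (ν : F))
    [Fintype (IrrCharacter (Matrix.SpecialLinearGroup (Fin 2) F))] :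
    ∑ χ : IrrCharacter (Matrix.SpecialLinearGroup (Fin 2) F),
      ((χ : Matrix.SpecialLinearGroup (Fin 2) F → ℂ) (uSL 1) -
        twC ν (χ : Matrix.SpecialLinearGroup (Fin 2) F → ℂ) (uSL 1)) *
      conj ((χ : Matrix.SpecialLinearGroup (Fin 2) F → ℂ) (uSL 1) -
        twC ν (χ : Matrix.SpecialLinearGroup (Fin 2) F → ℂ) (uSL 1)) =
      4 * (Fintype.card F : ℂ) := by
  classical
  have hu : ∀ χ : Matrix.SpecialLinearGroup (Fin 2) F → ℂ,
      twC ν χ (uSL 1) = χ (uSL (ν : F)) := by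
    intro χ
    rw [twC_apply, twistFun_uSL, mul_one]
  simp only [hu]
  have hexp : ∀ χ : IrrCharacter (Matrix.SpecialLinearGroup (Fin 2) F),
      ((χ : Matrix.SpecialLinearGroup (Fin 2) F → ℂ) (uSL 1) -
        (χ : Matrix.SpecialLinearGroup (Fin 2) F → ℂ) (uSL (ν : F))) *
      conj ((χ : Matrix.SpecialLinearGroup (Fin 2) F → ℂ) (uSL 1) -
        (χ : Matrix.SpecialLinearGroup (Fin 2) F → ℂ) (uSL (ν : F))) =
      (χ : Matrix.SpecialLinearGroup (Fin 2) F → ℂ) (uSL 1) *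
          conj ((χ : Matrix.SpecialLinearGroup (Fin 2) F → ℂ) (uSL 1)) -
        (χ : Matrix.SpecialLinearGroup (Fin 2) F → ℂ) (uSL 1) *
          conj ((χ : Matrix.SpecialLinearGroup (Fin 2) F → ℂ) (uSL (ν : F))) -
        (χ : Matrix.SpecialLinearGroup (Fin 2) F → ℂ) (uSL (ν : F)) *
          conj ((χ : Matrix.SpecialLinearGroup (Fin 2) F → ℂ) (uSL 1)) +
        (χ : Matrix.SpecialLinearGroup (Fin 2) F → ℂ) (uSL (ν : F)) *
          conj ((χ : Matrix.SpecialLinearGroup (Fin 2) F → ℂ) (uSL (ν : F))) := by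
    intro χ
    rw [map_sub]
    ring
  simp only [hexp, Finset.sum_add_distrib, Finset.sum_sub_distrib]
  have hnc := not_isConj_uSL hν
  have hnc' : ¬ IsConj (uSL (ν : F)) (uSL (1 : F)) := fun h => hnc h.symm
  rw [Cfsg.Agent.Helper74.second_orthogonality (uSL (1 : F)) (uSL 1),
    Cfsg.Agent.Helper74.second_orthogonality (uSL (1 : F)) (uSL (ν : F)),
    Cfsg.Agent.Helper74.second_orthogonality (uSL (ν : F)) (uSL 1),
    Cfsg.Agent.Helper74.second_orthogonality (uSL (ν : F)) (uSL (ν : F)),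
    if_pos (IsConj.refl _), if_neg hnc, if_neg hnc', if_pos (IsConj.refl _),
    card_centralizer_uSL hodd one_ne_zero, card_centralizer_uSL hodd ν.ne_zero]
  push_cast
  ring

/-- Exactly four irreducible characters of `SL₂(F)` are not stable under the twist. -/
theorem card_nonstable (hodd : Odd (Fintype.card F)) {ν : Fˣ} (hν : ¬ IsSquare (ν : F))
    [Fintype (IrrCharacter (Matrix.SpecialLinearGroup (Fin 2) F))]
    [DecidablePred (fun χ : IrrCharacter (Matrix.SpecialLinearGroup (Fin 2) F) =>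
      twC ν (χ : Matrix.SpecialLinearGroup (Fin 2) F → ℂ) ≠ χ)] :
    (Finset.univ.filter (fun χ : IrrCharacter (Matrix.SpecialLinearGroup (Fin 2) F) =>
      twC ν (χ : Matrix.SpecialLinearGroup (Fin 2) F → ℂ) ≠ χ)).card = 4 := by
  have hsum := sum_normSq_diff hodd hν
  have hterm : ∀ χ : IrrCharacter (Matrix.SpecialLinearGroup (Fin 2) F),
      ((χ : Matrix.SpecialLinearGroup (Fin 2) F → ℂ) (uSL 1) -
        twC ν (χ : Matrix.SpecialLinearGroup (Fin 2) F → ℂ) (uSL 1)) *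
      conj ((χ : Matrix.SpecialLinearGroup (Fin 2) F → ℂ) (uSL 1) -
        twC ν (χ : Matrix.SpecialLinearGroup (Fin 2) F → ℂ) (uSL 1)) =
      if twC ν (χ : Matrix.SpecialLinearGroup (Fin 2) F → ℂ) ≠ χ then (Fintype.card F : ℂ)
        else 0 := by
    intro χ
    split_ifs with h
    · exact normSq_diff hodd hν χ.2 h
    · rw [not_not] at h
      rw [h, sub_self, zero_mul]
  simp only [hterm] at hsum
  rw [Finset.sum_ite, Finset.sum_const, Finset.sum_const_zero, add_zero, nsmul_eq_mul] at hsum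
  have hq0 : (Fintype.card F : ℂ) ≠ 0 := by
    exact_mod_cast Fintype.card_ne_zero
  have := mul_right_cancel₀ hq0 hsum
  exact_mod_cast this

theorem five_le_card {ι : Type*} [DecidableEq ι] (s : Finset ι) (a b c d e : ι)
    (ha : a ∈ s) (hb : b ∈ s) (hc : c ∈ s) (hd : d ∈ s) (he : e ∈ s)
    (hab : a ≠ b) (hac : a ≠ c) (had : a ≠ d) (hae : a ≠ e) (hbc : b ≠ c) (hbd : b ≠ d)
    (hbe : b ≠ e) (hcd : c ≠ d) (hce : c ≠ e) (hde : d ≠ e) : 5 ≤ s.card := by
  have hsub : ({a, b, c, d, e} : Finset ι) ⊆ s := by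
    intro x hx
    simp only [Finset.mem_insert, Finset.mem_singleton] at hx
    rcases hx with rfl | rfl | rfl | rfl | rfl <;> assumption
  have hcard : ({a, b, c, d, e} : Finset ι).card = 5 := by
    rw [Finset.card_insert_of_notMem, Finset.card_insert_of_notMem,
      Finset.card_insert_of_notMem, Finset.card_insert_of_notMem, Finset.card_singleton]
    · simp [hde]
    · simp [hcd, hce]
    · simp [hbc, hbd, hbe]
    · simp [hab, hac, had, hae]
  calc 5 = ({a, b, c, d, e} : Finset ι).card := hcard.symm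
    _ ≤ s.card := Finset.card_le_card hsub

omit [Fintype F] [DecidableEq F] in
theorem twC_one (d : Fˣ) (χ : Matrix.SpecialLinearGroup (Fin 2) F → ℂ) : twC d χ 1 = χ 1 := by
  rw [twC_apply]
  congr 1
  exact (twistHom d).map_one

/-- Two different irreducible characters of degree `(q-1)/2` are twists of each other. -/
theorem half_minus_pair (hodd : Odd (Fintype.card F)) (hq : 5 ≤ Fintype.card F)
    {χ₁ χ₂ : Matrix.SpecialLinearGroup (Fin 2) F → ℂ}
    (hχ₁ : IsIrrCharacter (Matrix.SpecialLinearGroup (Fin 2) F) χ₁)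
    (hχ₂ : IsIrrCharacter (Matrix.SpecialLinearGroup (Fin 2) F) χ₂) (hne : χ₁ ≠ χ₂)
    (h1 : χ₁ 1 = (((Fintype.card F - 1) / 2 : ℕ) : ℂ))
    (h2 : χ₂ 1 = (((Fintype.card F - 1) / 2 : ℕ) : ℂ)) :
    χ₁ (uSL 1) + χ₂ (uSL 1) = -1 := by
  classical
  letI := Cfsg.Agent.Helper74.irrFintype (Matrix.SpecialLinearGroup (Fin 2) F)
  have cf : ∀ {χ : Matrix.SpecialLinearGroup (Fin 2) F → ℂ},
      IsIrrCharacter (Matrix.SpecialLinearGroup (Fin 2) F) χ →
      IsClassFunction (Matrix.SpecialLinearGroup (Fin 2) F) χ := fun h =>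
    Cfsg.Agent.Helper74.isClassFunction_of_isCharacter (Cfsg.Agent.Helper74.isCharacter_of_isIrr h)
  obtain ⟨ν, hν₁, hval₁⟩ := half_minus hodd hq hχ₁ h1
  obtain ⟨d₂, hd₂, -⟩ := half_minus hodd hq hχ₂ h2
  have hν : ¬ IsSquare (ν : F) := fun h => hν₁ (twC_of_isSquare h (cf hχ₁))
  have hd₂ns : ¬ IsSquare (d₂ : F) := fun h => hd₂ (twC_of_isSquare h (cf hχ₂))
  have hν₂ : twC ν χ₂ ≠ χ₂ := by
    rw [← twC_eq_of_not_isSquare hodd hν hd₂ns (cf hχ₂)]
    exact hd₂
  -- a character of degree `(q+1)/2`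
  set α : MulChar F ℂ := (quadraticChar F).ringHomComp (Int.castRingHom ℂ) with hαdef
  have hα2 : α ^ 2 = 1 :=
    (MulChar.IsQuadratic.comp (quadraticChar_isQuadratic F) (Int.castRingHom ℂ)).sq_eq_one
  have hα1 : α ≠ 1 :=
    (MulChar.ringHomComp_ne_one_iff Int.cast_injective).mpr
      (quadraticChar_ne_one (ringChar_ne_two_of_odd hodd))
  obtain ⟨χa, χb, hχa, hχb, hab, -, hdega, hdegb, -⟩ := Cfsg.Agent.S2307.result hodd α hα2 hα1
  obtain ⟨αa, βa, -, da, hda, -⟩ := half_plus hodd hq hχa hdega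
  have hdans : ¬ IsSquare (da : F) := fun h => hda (twC_of_isSquare h (cf hχa))
  have hνa : twC ν χa ≠ χa := by
    rw [← twC_eq_of_not_isSquare hodd hν hdans (cf hχa)]
    exact hda
  -- the main claim
  have hclaim : χ₂ = twC ν χ₁ := by
    by_contra hcon
    have hcard := card_nonstable hodd hν
    have h5 := five_le_card
      (Finset.univ.filter (fun χ : IrrCharacter (Matrix.SpecialLinearGroup (Fin 2) F) =>
        twC ν (χ : Matrix.SpecialLinearGroup (Fin 2) F → ℂ) ≠ χ))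
      ⟨χa, hχa⟩ ⟨twC ν χa, isIrrCharacter_twC ν hχa⟩ ⟨χ₁, hχ₁⟩
      ⟨twC ν χ₁, isIrrCharacter_twC ν hχ₁⟩ ⟨χ₂, hχ₂⟩
    rw [hcard] at h5
    have hdegne : ∀ x y : IrrCharacter (Matrix.SpecialLinearGroup (Fin 2) F),
        (x : Matrix.SpecialLinearGroup (Fin 2) F → ℂ) 1 = (((Fintype.card F + 1) / 2 : ℕ) : ℂ) →
        (y : Matrix.SpecialLinearGroup (Fin 2) F → ℂ) 1 = (((Fintype.card F - 1) / 2 : ℕ) : ℂ) →
        x ≠ y := by
      intro x y hx hy hxy
      rw [hxy, hy] at hx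
      have : (Fintype.card F - 1) / 2 = (Fintype.card F + 1) / 2 := by exact_mod_cast hx
      obtain ⟨j, hj⟩ := hodd
      omega
    have hmem : ∀ {χ : Matrix.SpecialLinearGroup (Fin 2) F → ℂ}
        (hχ : IsIrrCharacter (Matrix.SpecialLinearGroup (Fin 2) F) χ), twC ν χ ≠ χ →
        (⟨χ, hχ⟩ : IrrCharacter (Matrix.SpecialLinearGroup (Fin 2) F)) ∈
          Finset.univ.filter (fun χ : IrrCharacter (Matrix.SpecialLinearGroup (Fin 2) F) =>
            twC ν (χ : Matrix.SpecialLinearGroup (Fin 2) F → ℂ) ≠ χ) := by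
      intro χ hχ h
      rw [Finset.mem_filter]
      exact ⟨Finset.mem_univ _, h⟩
    have hmem' : ∀ {χ : Matrix.SpecialLinearGroup (Fin 2) F → ℂ}
        (hχ : IsIrrCharacter (Matrix.SpecialLinearGroup (Fin 2) F) χ), twC ν χ ≠ χ →
        (⟨twC ν χ, isIrrCharacter_twC ν hχ⟩ :
          IrrCharacter (Matrix.SpecialLinearGroup (Fin 2) F)) ∈
          Finset.univ.filter (fun χ : IrrCharacter (Matrix.SpecialLinearGroup (Fin 2) F) =>
            twC ν (χ : Matrix.SpecialLinearGroup (Fin 2) F → ℂ) ≠ χ) := by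
      intro χ hχ h
      apply hmem
      rw [twC_twC_self hν (cf hχ)]
      exact Ne.symm h
    have hsub : ∀ {χ χ' : Matrix.SpecialLinearGroup (Fin 2) F → ℂ}
        (hχ : IsIrrCharacter (Matrix.SpecialLinearGroup (Fin 2) F) χ)
        (hχ' : IsIrrCharacter (Matrix.SpecialLinearGroup (Fin 2) F) χ'), χ ≠ χ' →
        (⟨χ, hχ⟩ : IrrCharacter (Matrix.SpecialLinearGroup (Fin 2) F)) ≠ ⟨χ', hχ'⟩ := by
      intro χ χ' hχ hχ' h h'
      exact h (congrArg Subtype.val h')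
    have := h5 (hmem hχa hνa) (hmem' hχa hνa) (hmem hχ₁ hν₁) (hmem' hχ₁ hν₁) (hmem hχ₂ hν₂)
      (hsub _ _ (Ne.symm hνa))
      (hdegne _ _ hdega h1)
      (hdegne _ _ hdega ((twC_one ν χ₁).trans h1))
      (hdegne _ _ hdega h2)
      (hdegne _ _ ((twC_one ν χa).trans hdega) h1)
      (hdegne _ _ ((twC_one ν χa).trans hdega) ((twC_one ν χ₁).trans h1))
      (hdegne _ _ ((twC_one ν χa).trans hdega) h2)
      (hsub _ _ (Ne.symm hν₁))
      (hsub _ _ hne)
      (hsub _ _ (Ne.symm hcon))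
    omega
  rw [hclaim]
  exact hval₁

end Cfsg.Agent.Helper39
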