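import Cfsg.Agent.Helper39.SL2Central

set_option autoImplicit false

/-!
# `p`-regular elements of `SL₂(F)` commuting with a nontrivial `p`-element are central
-/

namespace Cfsg.Agent.Helper39

open Matrix Cfsg

section mat

variable {F : Type*} [Field F]

/-- If `Y` commutes with a nonzero `N` of trace and determinant `0`, the discriminant of `Y`
vanishes. -/
theorem disc_zero_of_commute (N Y : Matrix (Fin 2) (Fin 2) F) (hN : N ≠ 0)
    (htr : N 0 0 + N 1 1 = 0) (hdet : N 0 0 * N 1 1 - N 0 1 * N 1 0 = 0)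
    (hc : N * Y = Y * N) :
    (Y 0 0 - Y 1 1) ^ 2 + 4 * Y 0 1 * Y 1 0 = 0 := by
  have e00 := congrFun (congrFun hc 0) 0
  have e01 := congrFun (congrFun hc 0) 1
  have e10 := congrFun (congrFun hc 1) 0
  simp only [Matrix.mul_apply, Fin.sum_univ_two] at e00 e01 e10
  have hN' : ¬ (N 0 0 = 0 ∧ N 0 1 = 0 ∧ N 1 0 = 0 ∧ N 1 1 = 0) := by
    rintro ⟨h1, h2, h3, h4⟩
    apply hN
    ext i j
    fin_cases i <;> fin_cases j <;> simp [h1, h2, h3, h4]
  clear hN hc
  generalize N 0 0 = a at *
  generalize N 0 1 = b at *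
  generalize N 1 0 = c at *
  generalize N 1 1 = d at *
  generalize Y 0 0 = e at *
  generalize Y 0 1 = f at *
  generalize Y 1 0 = g at *
  generalize Y 1 1 = h at *
  have hd : d = -a := by linear_combination htr
  subst hd
  have hbc : a ^ 2 + b * c = 0 := by linear_combination -hdet
  by_cases hb : b = 0
  · subst hb
    have ha : a = 0 := by
      have : a ^ 2 = 0 := by linear_combination hbc
      exact pow_eq_zero_iff two_ne_zero |>.mp this
    subst ha
    by_cases hc0 : c = 0
    · subst hc0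
      exfalso
      apply hN'
      simp
    · have hf : f = 0 := by
        have : c * f = 0 := by linear_combination -e00
        exact (mul_eq_zero.mp this).resolve_left hc0
      have heh : e = h := by
        have : c * (e - h) = 0 := by linear_combination e10
        exact sub_eq_zero.mp ((mul_eq_zero.mp this).resolve_left hc0)
      rw [hf, heh]
      ring
  · have h1 : b * (e - h) = 2 * a * f := by linear_combination -e01
    have h2 : b * g = f * c := by linear_combination e00
    have : b ^ 2 * ((e - h) ^ 2 + 4 * f * g) = 0 := by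
      have : b ^ 2 * ((e - h) ^ 2 + 4 * f * g) = (b * (e - h)) ^ 2 + 4 * f * b * (b * g) := by ring
      rw [this, h1, h2]
      linear_combination 4 * f ^ 2 * hbc
    rcases mul_eq_zero.mp this with h3 | h3
    · exact absurd (pow_eq_zero_iff two_ne_zero |>.mp h3) hb
    · exact h3

/-- A matrix of determinant `1` with vanishing discriminant is `μ + K` with `μ² = 1`, `K² = 0`. -/
theorem exists_unipotent_form (h2 : (2 : F) ≠ 0) (Y : Matrix (Fin 2) (Fin 2) F)
    (hdet : Y 0 0 * Y 1 1 - Y 0 1 * Y 1 0 = 1)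
    (hdisc : (Y 0 0 - Y 1 1) ^ 2 + 4 * Y 0 1 * Y 1 0 = 0) :
    ∃ μ : F, μ ^ 2 = 1 ∧ (Y - μ • (1 : Matrix (Fin 2) (Fin 2) F)) ^ 2 = 0 := by
  refine ⟨(Y 0 0 + Y 1 1) / 2, ?_, ?_⟩
  · field_simp
    linear_combination hdisc + 4 * hdet
  · rw [sq]
    have key : ∀ e f g h : F, e * h - f * g = 1 → (e - h) ^ 2 + 4 * f * g = 0 →
        (e - (e + h) / 2) * (e - (e + h) / 2) + f * g = 0 ∧
        (e - (e + h) / 2) * f + f * (h - (e + h) / 2) = 0 ∧
        g * (e - (e + h) / 2) + (h - (e + h) / 2) * g = 0 ∧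
        g * f + (h - (e + h) / 2) * (h - (e + h) / 2) = 0 := by
      intro e f g h _ hdisc
      refine ⟨?_, ?_, ?_, ?_⟩
      · field_simp
        linear_combination hdisc
      · field_simp
        ring
      · field_simp
        ring
      · field_simp
        linear_combination hdisc
    obtain ⟨k1, k2, k3, k4⟩ := key _ _ _ _ hdet hdisc
    ext i j
    fin_cases i <;> fin_cases j
    · simpa [Matrix.mul_apply, Fin.sum_univ_two] using k1
    · simpa [Matrix.mul_apply, Fin.sum_univ_two] using k2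
    · simpa [Matrix.mul_apply, Fin.sum_univ_two] using k3
    · simpa [Matrix.mul_apply, Fin.sum_univ_two] using k4

end mat

section grp

variable {F : Type*} [Field F]

/-- In `SL₂(F)`, `char F = p` odd: a `p`-regular element commuting with a nontrivial element of
order `p` is `±1`. -/
theorem central_of_commute_pElement (p : ℕ) [Fact p.Prime] [CharP F p] (hp2 : p ≠ 2)
    (u y : Matrix.SpecialLinearGroup (Fin 2) F) (hu : u ^ p = 1) (hu1 : u ≠ 1)
    (hc : Commute u y) (hy : ¬ p ∣ orderOf y) : y = 1 ∨ y = zSL := by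
  have hp : p.Prime := Fact.out
  have h2 : (2 : F) ≠ 0 := by
    intro h
    have h2' : ((2 : ℕ) : F) = 0 := by exact_mod_cast h
    have := (CharP.cast_eq_zero_iff F p 2).mp h2'
    exact hp2 ((Nat.prime_dvd_prime_iff_eq hp Nat.prime_two).mp this)
  set U : Matrix (Fin 2) (Fin 2) F := (u : Matrix (Fin 2) (Fin 2) F) with hU
  set Y : Matrix (Fin 2) (Fin 2) F := (y : Matrix (Fin 2) (Fin 2) F) with hY
  have hUp : U ^ p = 1 := by
    rw [hU, ← Matrix.SpecialLinearGroup.coe_pow, hu]; rfl
  set N := U - 1 with hNdef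
  have hNp : N ^ p = 0 := by
    rw [hNdef, sub_pow_char_of_commute p (Commute.one_right U), hUp, one_pow, sub_self]
  have htr : N 0 0 + N 1 1 = 0 := by
    have := (Matrix.isNilpotent_trace_of_isNilpotent ⟨p, hNp⟩ : IsNilpotent N.trace).eq_zero
    rwa [Matrix.trace_fin_two] at this
  have hdet : N 0 0 * N 1 1 - N 0 1 * N 1 0 = 0 := by
    have h1 : N.det ^ p = 0 := by
      rw [← Matrix.det_pow, hNp, Matrix.det_zero]
    have := pow_eq_zero_iff hp.ne_zero |>.mp h1
    rwa [Matrix.det_fin_two] at this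
  have hN0 : N ≠ 0 := by
    intro h
    apply hu1
    apply Matrix.SpecialLinearGroup.ext
    intro i j
    have : U = 1 := sub_eq_zero.mp h
    rw [← hU, this]
    rfl
  have hUY : U * Y = Y * U := by
    have := congrArg (fun s : Matrix.SpecialLinearGroup (Fin 2) F =>
      (s : Matrix (Fin 2) (Fin 2) F)) hc.eq
    simpa using this
  have hcN : N * Y = Y * N := by
    rw [hNdef, sub_mul, mul_sub, hUY, one_mul, mul_one]
  have hdisc := disc_zero_of_commute N Y hN0 htr hdet hcN
  have hdetY : Y 0 0 * Y 1 1 - Y 0 1 * Y 1 0 = 1 := by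
    have := y.2
    rwa [Matrix.det_fin_two] at this
  obtain ⟨μ, hμ, hK⟩ := exists_unipotent_form h2 Y hdetY hdisc
  set K := Y - μ • (1 : Matrix (Fin 2) (Fin 2) F) with hKdef
  have hYK : Y = μ • (1 : Matrix (Fin 2) (Fin 2) F) + K := by rw [hKdef]; abel
  have hY2 : Y ^ 2 = 1 + (2 * μ) • K := by
    rw [hYK, sq, add_mul, mul_add, mul_add, ← sq K, hK]
    simp only [Matrix.smul_mul, Matrix.mul_smul, one_mul, mul_one, smul_smul, add_zero]
    rw [← sq, hμ, one_smul, two_mul, add_smul]
    abel
  have hKp : ((2 * μ) • K) ^ p = 0 := by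
    obtain ⟨k, hk⟩ : ∃ k, p = 2 + k := ⟨p - 2, by have := hp.two_le; omega⟩
    rw [smul_pow, hk, pow_add K, hK, zero_mul, smul_zero]
  have hY2p : Y ^ (2 * p) = 1 := by
    rw [pow_mul, hY2, add_pow_char_of_commute p (Commute.one_left _), one_pow, hKp, add_zero]
  have hy2p : y ^ (2 * p) = 1 := by
    apply Matrix.SpecialLinearGroup.ext
    intro i j
    rw [Matrix.SpecialLinearGroup.coe_pow, ← hY, hY2p]
    rfl
  have hord : orderOf y ∣ 2 := by
    have h1 : orderOf y ∣ 2 * p := orderOf_dvd_of_pow_eq_one hy2p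
    have hcop : Nat.Coprime (orderOf y) p := ((Nat.Prime.coprime_iff_not_dvd hp).mpr hy).symm
    exact hcop.dvd_of_dvd_mul_right h1
  have hy2 : y ^ 2 = 1 := orderOf_dvd_iff_pow_eq_one.mp hord
  have hY21 : Y ^ 2 = 1 := by
    rw [hY, ← Matrix.SpecialLinearGroup.coe_pow, hy2]; rfl
  have hK0 : K = 0 := by
    rw [hY2] at hY21
    have h1 : (2 * μ) • K = 0 := by
      have := congrArg (fun M => M - 1) hY21
      simpa using this
    have hμ0 : (2 * μ) ≠ 0 := by
      apply mul_ne_zero h2
      intro h0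
      rw [h0] at hμ
      norm_num at hμ
    exact (smul_eq_zero.mp h1).resolve_left hμ0
  have hYμ : Y = μ • (1 : Matrix (Fin 2) (Fin 2) F) := by rw [hYK, hK0, add_zero]
  apply eq_one_or_zSL y
  · show Y 0 1 = 0
    rw [hYμ]; simp
  · show Y 1 0 = 0
    rw [hYμ]; simp
  · show Y 0 0 = Y 1 1
    rw [hYμ]; simp

variable [Fintype F]

/-- The centralizer of a noncentral `p`-regular element of `SL₂(F)` has order prime to `p`. -/
theorem not_dvd_card_centralizer (p : ℕ) [Fact p.Prime] [CharP F p] (hp2 : p ≠ 2)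
    (y : Matrix.SpecialLinearGroup (Fin 2) F) (hy : ¬ p ∣ orderOf y)
    (hnc : ¬ (y = 1 ∨ y = zSL)) :
    ¬ p ∣ Nat.card (Subgroup.centralizer ({y} : Set (Matrix.SpecialLinearGroup (Fin 2) F))) := by
  classical
  intro hdvd
  obtain ⟨x, hx⟩ := exists_prime_orderOf_dvd_card' p hdvd
  have hp : p.Prime := Fact.out
  have hxu : orderOf (x : Matrix.SpecialLinearGroup (Fin 2) F) = p := by
    rw [Subgroup.orderOf_coe]; exact hx
  apply hnc
  apply central_of_commute_pElement p hp2 (x : Matrix.SpecialLinearGroup (Fin 2) F) y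
  · rw [← hxu]; exact pow_orderOf_eq_one _
  · intro h1
    rw [h1, orderOf_one] at hxu
    exact hp.one_lt.ne hxu
  · have := Subgroup.mem_centralizer_iff.mp x.2 y (Set.mem_singleton y)
    exact this.symm
  · exact hy

/-- If the `p`-regular element `g ^ a` is noncentral, the class of `g` has size divisible by
`p`. -/
theorem dvd_index_centralizer (p : ℕ) [Fact p.Prime] [CharP F p] (hp2 : p ≠ 2)
    (g : Matrix.SpecialLinearGroup (Fin 2) F) (a : ℕ) (hy : ¬ p ∣ orderOf (g ^ a))
    (hnc : ¬ (g ^ a = 1 ∨ g ^ a = zSL)) :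
    p ∣ (Subgroup.centralizer ({g} : Set (Matrix.SpecialLinearGroup (Fin 2) F))).index := by
  classical
  have hp : p.Prime := Fact.out
  have hle : Subgroup.centralizer ({g} : Set (Matrix.SpecialLinearGroup (Fin 2) F)) ≤
      Subgroup.centralizer ({g ^ a} : Set (Matrix.SpecialLinearGroup (Fin 2) F)) := by
    intro x hx
    rw [Subgroup.mem_centralizer_iff] at hx ⊢
    intro h hh
    rw [Set.mem_singleton_iff] at hh
    subst hh
    have h1 : Commute g x := hx g (Set.mem_singleton g)
    exact (h1.pow_left a).eq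
  have h1 := not_dvd_card_centralizer p hp2 (g ^ a) hy hnc
  have h2 : ¬ p ∣ Nat.card (Subgroup.centralizer
      ({g} : Set (Matrix.SpecialLinearGroup (Fin 2) F))) :=
    fun h => h1 (h.trans (Subgroup.card_dvd_of_le hle))
  have h3 := Subgroup.card_mul_index (Subgroup.centralizer
    ({g} : Set (Matrix.SpecialLinearGroup (Fin 2) F)))
  have h4 : p ∣ Nat.card (Matrix.SpecialLinearGroup (Fin 2) F) := by
    rw [Cfsg.Agent.Helper5.card_SL2]
    obtain ⟨n, -, hn⟩ := FiniteField.card F p
    rw [hn]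
    exact Dvd.dvd.mul_right (dvd_pow_self p n.ne_zero) _
  rw [← h3] at h4
  exact (hp.dvd_mul.mp h4).resolve_left h2

end grp

end Cfsg.Agent.Helper39
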