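import Cfsg.Agent.Helper39.SL2Restrict
import Cfsg.Agent.Helper42.SL2OddCount
import Cfsg.Agent.Helper5.ProjLine

set_option autoImplicit false

/-!
# Stable classes of `SL₂(F)`, central characters, and the multiplicity bound for the principal
series
-/

namespace Cfsg.Agent.Helper39

open Matrix Cfsg
open scoped ComplexConjugate

/-- A central element acts on an irreducible character by a scalar of absolute value one. -/
theorem irr_central_mul {G : Type*} [Group G] [Finite G] {χ : G → ℂ} (hχ : IsIrrCharacter G χ)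
    (z : G) (hz : ∀ g, z * g = g * z) :
    ∃ c : ℂ, ‖c‖ = 1 ∧ ∀ g, χ (z * g) = c * χ g := by
  obtain ⟨n, ρ, hρ, rfl⟩ := hχ
  let T : Representation.IntertwiningMap ρ ρ := ⟨ρ z, fun g => by
    show ρ z * ρ g = ρ g * ρ z
    rw [← map_mul, ← map_mul, hz]⟩
  obtain ⟨c, hc⟩ := Cfsg.Agent.Helper74.schur_scalar ρ hρ T
  have hc' : ρ z = c • LinearMap.id := hc
  have hnt : Nontrivial (Fin n → ℂ) := Cfsg.Agent.Helper74.nontrivial_of_isIrreducible ρ hρ
  refine ⟨c, ?_, ?_⟩
  · have hm : 0 < orderOf z := orderOf_pos z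
    have h1 : (ρ z) ^ orderOf z = 1 := by rw [← map_pow, pow_orderOf_eq_one, map_one]
    rw [hc'] at h1
    have h2 : c ^ orderOf z = 1 := by
      obtain ⟨v, hv⟩ := exists_ne (0 : Fin n → ℂ)
      have h3 := congrArg (fun f : Module.End ℂ (Fin n → ℂ) => f v) h1
      simp only [smul_pow, Module.End.one_apply] at h3
      have h4 : (c ^ orderOf z • (LinearMap.id : (Fin n → ℂ) →ₗ[ℂ] (Fin n → ℂ)) ^ orderOf z) v =
          c ^ orderOf z • v := by
        have : (LinearMap.id : (Fin n → ℂ) →ₗ[ℂ] (Fin n → ℂ)) ^ orderOf z = 1 := one_pow _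
        rw [this]
        simp
      rw [h4] at h3
      have h5 : (c ^ orderOf z - 1) • v = 0 := by rw [sub_smul, h3, one_smul, sub_self]
      rcases smul_eq_zero.mp h5 with h6 | h6
      · exact sub_eq_zero.mp h6
      · exact absurd h6 hv
    exact Complex.norm_eq_one_of_pow_eq_one h2 hm.ne'
  · intro g
    unfold Representation.character
    rw [map_mul, hc']
    have : (c • (LinearMap.id : (Fin n → ℂ) →ₗ[ℂ] (Fin n → ℂ))) * ρ g = c • ρ g := by
      ext v
      simp
    rw [this, map_smul, smul_eq_mul]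

variable {F : Type*} [Field F] [Fintype F] [DecidableEq F]

/-- In odd characteristic, an element of `SL₂(F)` whose trace `t` has `t² ≠ 4` lies in a stable
class. -/
theorem isStableClass_of_trace (hodd : Odd (Fintype.card F))
    (s : Matrix.SpecialLinearGroup (Fin 2) F)
    (ht : (s : Matrix (Fin 2) (Fin 2) F).trace ^ 2 ≠ 4) : IsStableClass s := by
  have hodd' : Fintype.card F % 2 = 1 := Nat.odd_iff.mp hodd
  have h2 : (2 : F) ≠ 0 := by
    have hch : ringChar F ≠ 2 := by
      intro h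
      have := FiniteField.even_card_of_char_two h
      omega
    exact Ring.two_ne_zero hch
  apply isStableClass_of_centralizer
  intro d
  obtain ⟨p, hp⟩ := Cfsg.Agent.Helper42.exists_qform_eq h2 hodd'
    ((s : Matrix (Fin 2) (Fin 2) F).trace) ht (d : F)
  have hdet : (Cfsg.Agent.Helper42.lin (s : Matrix (Fin 2) (Fin 2) F) p.1 p.2).det = (d : F) := by
    rw [Cfsg.Agent.Helper42.det_lin, s.2, mul_one, ← hp]
    unfold Cfsg.Agent.Helper42.qform
    ring
  refine ⟨Matrix.GeneralLinearGroup.mkOfDetNeZero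
    (Cfsg.Agent.Helper42.lin (s : Matrix (Fin 2) (Fin 2) F) p.1 p.2) (by rw [hdet]; exact d.ne_zero),
    ?_, ?_⟩
  · apply Units.ext
    exact hdet
  · apply Matrix.GeneralLinearGroup.ext
    intro i j
    have := Cfsg.Agent.Helper42.lin_comm (s : Matrix (Fin 2) (Fin 2) F) p.1 p.2
    exact congrFun (congrFun this i) j

omit [Fintype F] [DecidableEq F] in
/-- An element of `SL₂(F)` without eigenvectors has trace `t` with `t² ≠ 4`. -/
theorem trace_sq_ne_four_of_elliptic (s : Matrix.SpecialLinearGroup (Fin 2) F)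
    (h : ∀ (c : F) (v : Fin 2 → F), v ≠ 0 → (s : Matrix (Fin 2) (Fin 2) F).mulVec v ≠ c • v) :
    (s : Matrix (Fin 2) (Fin 2) F).trace ^ 2 ≠ 4 := by
  intro ht
  have hdet : (s : Matrix (Fin 2) (Fin 2) F) 0 0 * (s : Matrix (Fin 2) (Fin 2) F) 1 1 -
      (s : Matrix (Fin 2) (Fin 2) F) 0 1 * (s : Matrix (Fin 2) (Fin 2) F) 1 0 = 1 := by
    have := s.2
    rwa [Matrix.det_fin_two] at this
  rw [Matrix.trace_fin_two] at ht
  -- the eigenvalue `a` with `2 a = t`
  have hfac : ((s : Matrix (Fin 2) (Fin 2) F) 0 0 + (s : Matrix (Fin 2) (Fin 2) F) 1 1 - 2) *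
      ((s : Matrix (Fin 2) (Fin 2) F) 0 0 + (s : Matrix (Fin 2) (Fin 2) F) 1 1 + 2) = 0 := by
    linear_combination ht
  have key : ∀ a : F, (s : Matrix (Fin 2) (Fin 2) F) 0 0 + (s : Matrix (Fin 2) (Fin 2) F) 1 1 = 2 * a →
      a ^ 2 = 1 → False := by
    intro a ha ha2
    have hdet0 : ((s : Matrix (Fin 2) (Fin 2) F) - a • (1 : Matrix (Fin 2) (Fin 2) F)).det = 0 := by
      rw [Matrix.det_fin_two]
      simp only [Matrix.sub_apply, Matrix.smul_apply, Matrix.one_apply_eq, smul_eq_mul, mul_one,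
        Matrix.one_apply_ne (show (0 : Fin 2) ≠ 1 by decide),
        Matrix.one_apply_ne (show (1 : Fin 2) ≠ 0 by decide), mul_zero, sub_zero]
      linear_combination hdet - a * ha - ha2
    obtain ⟨v, hv, hv0⟩ := Matrix.exists_mulVec_eq_zero_iff.mpr hdet0
    apply h a v hv
    rw [Matrix.sub_mulVec, Matrix.smul_mulVec, Matrix.one_mulVec] at hv0
    exact sub_eq_zero.mp hv0
  rcases mul_eq_zero.mp hfac with h1 | h1
  · exact key 1 (by linear_combination h1) (by ring)
  · exact key (-1) (by linear_combination h1) (by ring)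

/-- The norm of the restriction of a principal series character to `SL₂(F)` is at most `2`. -/
theorem norm_piFun_toGL (α β : MulChar F ℂ) :
    classInner (fun s : Matrix.SpecialLinearGroup (Fin 2) F =>
        piFun α β (Matrix.SpecialLinearGroup.toGL s))
      (fun s : Matrix.SpecialLinearGroup (Fin 2) F =>
        piFun α β (Matrix.SpecialLinearGroup.toGL s)) =
      1 + (if (α * β⁻¹) ^ 2 = 1 then 1 else 0) := by
  rw [piFun_toGL_eq_indFun, Cfsg.Agent.S2306.inner_indFun]

end Cfsg.Agent.Helper39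

namespace Cfsg.Agent.Helper39

open Matrix Cfsg
open scoped ComplexConjugate

variable {F : Type*} [Field F] [Fintype F] [DecidableEq F]

/-- The structural statement on irreducible characters of `SL₂(F)`, with the additional bound
`k ≤ 2` when the character of `GL₂(F)` above is in the principal series. -/
theorem sl2_lying_under' (χ : Matrix.SpecialLinearGroup (Fin 2) F → ℂ)
    (hχ : IsIrrCharacter (Matrix.SpecialLinearGroup (Fin 2) F) χ) :
    ∃ (ψ : GL (Fin 2) F → ℂ) (k : ℕ), IsIrrCharacter (GL (Fin 2) F) ψ ∧ 0 < k ∧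
      ψ 1 = (k : ℂ) * χ 1 ∧
      (k = 1 → ∀ s, χ s = ψ (Matrix.SpecialLinearGroup.toGL s)) ∧
      (∀ s, IsStableClass s → ψ (Matrix.SpecialLinearGroup.toGL s) = (k : ℂ) * χ s) ∧
      (∀ α β : MulChar F ℂ, ψ = piFun α β → k ≤ 2) := by
  classical
  obtain ⟨ψ, e, S, hψ, he, hχS, hS, hsum⟩ := sl2_clifford χ hχ
  have hχcf : IsClassFunction (Matrix.SpecialLinearGroup (Fin 2) F) χ :=
    Cfsg.Agent.Helper74.isClassFunction_of_isCharacter (Cfsg.Agent.Helper74.isCharacter_of_isIrr hχ)
  have hstab : ∀ s, IsStableClass s →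
      ψ (Matrix.SpecialLinearGroup.toGL s) = ((e * S.card : ℕ) : ℂ) * χ s := by
    intro s hs
    rw [hsum s]
    have : ∀ φ ∈ S, φ s = χ s := by
      intro φ hφ
      obtain ⟨x, hx⟩ := (hS φ hφ).2
      obtain ⟨n, hn⟩ := hs x
      rw [hx s (n * s * n⁻¹) hn.symm]
      exact hχcf s n
    rw [Finset.sum_congr rfl this, Finset.sum_const, nsmul_eq_mul]
    push_cast
    ring
  have hcard : 0 < S.card := Finset.card_pos.mpr ⟨χ, hχS⟩
  refine ⟨ψ, e * S.card, hψ, Nat.mul_pos he hcard, ?_, ?_, hstab, ?_⟩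
  · have := hstab 1 isStableClass_one
    rwa [map_one] at this
  · intro hk s
    have he1 : e = 1 := Nat.eq_one_of_mul_eq_one_right hk
    have hS1 : S.card = 1 := Nat.eq_one_of_mul_eq_one_left hk
    obtain ⟨a, ha⟩ := Finset.card_eq_one.mp hS1
    have hχa : χ = a := by
      rw [ha] at hχS
      exact Finset.mem_singleton.mp hχS
    rw [hsum s, he1, ha, Finset.sum_singleton, ← hχa]
    simp
  · rintro α β rfl
    have hn := norm_piFun_toGL α β
    have hfun : (fun s : Matrix.SpecialLinearGroup (Fin 2) F =>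
        piFun α β (Matrix.SpecialLinearGroup.toGL s)) = fun s => (e : ℂ) * ∑ φ ∈ S, φ s := by
      funext s
      exact hsum s
    rw [hfun, inner_smul_sum_irr e S (fun φ hφ => (hS φ hφ).1)] at hn
    have hle : e * e * S.card ≤ 2 := by
      have h2 : ((e * e * S.card : ℕ) : ℂ) = ((1 + (if (α * β⁻¹) ^ 2 = 1 then 1 else 0) : ℕ) : ℂ) := by
        rw [hn]
        split_ifs
        · simp; norm_num
        · simp
      have h3 : e * e * S.card = 1 + (if (α * β⁻¹) ^ 2 = 1 then 1 else 0) := by exact_mod_cast h2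
      rw [h3]
      split_ifs <;> omega
    calc e * S.card = 1 * (e * S.card) := (one_mul _).symm
      _ ≤ e * (e * S.card) := Nat.mul_le_mul_right _ he
      _ = e * e * S.card := (mul_assoc _ _ _).symm
      _ ≤ 2 := hle

end Cfsg.Agent.Helper39
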