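import Cfsg.Agent.Helper39.SL2Clifford

set_option autoImplicit false

/-!
# Consequences of Clifford theory for the characters of `SL₂(F)`
-/

namespace Cfsg.Agent.Helper39

open Matrix Cfsg
open scoped ComplexConjugate

variable {F : Type*} [Field F] [Fintype F] [DecidableEq F]

theorem piFun_of_parabolic (α β : MulChar F ℂ) (g : GL (Fin 2) F)
    (h10 : (g : Matrix (Fin 2) (Fin 2) F) 1 0 = 0)
    (heq : (g : Matrix (Fin 2) (Fin 2) F) 0 0 = (g : Matrix (Fin 2) (Fin 2) F) 1 1)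
    (h01 : (g : Matrix (Fin 2) (Fin 2) F) 0 1 ≠ 0) :
    piFun α β g = α ((g : Matrix (Fin 2) (Fin 2) F) 0 0) * β ((g : Matrix (Fin 2) (Fin 2) F) 1 1) := by
  rw [piFun_apply]
  unfold Cfsg.Agent.S2305.indVal
  rw [if_pos h10, h10]
  have : ∀ c : F, ¬ ((g : Matrix (Fin 2) (Fin 2) F) 0 0 * c + (g : Matrix (Fin 2) (Fin 2) F) 0 1 -
        c * (0 * c + (g : Matrix (Fin 2) (Fin 2) F) 1 1) = 0) := by
    intro c hc
    apply h01
    rw [← heq] at hc
    linear_combination hc
  simp only [this, if_false, Finset.sum_const_zero, add_zero]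

theorem stFun_of_parabolic (μ : MulChar F ℂ) (g : GL (Fin 2) F)
    (h10 : (g : Matrix (Fin 2) (Fin 2) F) 1 0 = 0)
    (heq : (g : Matrix (Fin 2) (Fin 2) F) 0 0 = (g : Matrix (Fin 2) (Fin 2) F) 1 1)
    (h01 : (g : Matrix (Fin 2) (Fin 2) F) 0 1 ≠ 0) :
    stFun μ g = 0 := by
  unfold stFun
  simp only [Pi.sub_apply]
  rw [piFun_of_parabolic μ μ g h10 heq h01]
  unfold detFun
  rw [Matrix.det_fin_two, h10, mul_zero, sub_zero, map_mul, sub_self]

/-- The condition that the `GL₂`-class of `s ∈ SL₂` meets `SL₂` in a single `SL₂`-class. -/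
def IsStableClass (s : Matrix.SpecialLinearGroup (Fin 2) F) : Prop :=
  ∀ x : GL (Fin 2) F, ∃ n : Matrix.SpecialLinearGroup (Fin 2) F,
    x * Matrix.SpecialLinearGroup.toGL s * x⁻¹ = Matrix.SpecialLinearGroup.toGL (n * s * n⁻¹)

omit [Fintype F] [DecidableEq F] in
theorem isStableClass_one : IsStableClass (1 : Matrix.SpecialLinearGroup (Fin 2) F) := by
  intro x
  refine ⟨1, ?_⟩
  simp

omit [Fintype F] [DecidableEq F] in
/-- If the centralizer of `s` in `GL₂` contains elements of every determinant, the class of `s`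
is stable. -/
theorem isStableClass_of_centralizer (s : Matrix.SpecialLinearGroup (Fin 2) F)
    (h : ∀ d : Fˣ, ∃ c : GL (Fin 2) F, Matrix.GeneralLinearGroup.det c = d ∧
      c * Matrix.SpecialLinearGroup.toGL s = Matrix.SpecialLinearGroup.toGL s * c) :
    IsStableClass s := by
  intro x
  obtain ⟨c, hc, hcomm⟩ := h (Matrix.GeneralLinearGroup.det x)
  have hmem : x * c⁻¹ ∈ slSub F := by
    rw [mem_slSub_iff]
    have h1 : ((x * c⁻¹ : GL (Fin 2) F) : Matrix (Fin 2) (Fin 2) F).det =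
        Matrix.GeneralLinearGroup.det (x * c⁻¹) := rfl
    rw [h1, map_mul, map_inv, hc, mul_inv_cancel]
    rfl
  obtain ⟨n, hn⟩ := hmem
  refine ⟨n, ?_⟩
  rw [map_mul, map_mul, map_inv, hn]
  have : c⁻¹ * Matrix.SpecialLinearGroup.toGL s * c = Matrix.SpecialLinearGroup.toGL s := by
    rw [mul_assoc, ← hcomm, ← mul_assoc, inv_mul_cancel, one_mul]
  calc x * Matrix.SpecialLinearGroup.toGL s * x⁻¹
      = x * (c⁻¹ * Matrix.SpecialLinearGroup.toGL s * c) * x⁻¹ := by rw [this]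
    _ = x * c⁻¹ * Matrix.SpecialLinearGroup.toGL s * (x * c⁻¹)⁻¹ := by
        rw [_root_.mul_inv_rev, inv_inv]; group

omit [Fintype F] [DecidableEq F] in
theorem isStableClass_of_diag (s : Matrix.SpecialLinearGroup (Fin 2) F)
    (h01 : (s : Matrix (Fin 2) (Fin 2) F) 0 1 = 0) (h10 : (s : Matrix (Fin 2) (Fin 2) F) 1 0 = 0) :
    IsStableClass s := by
  apply isStableClass_of_centralizer
  intro d
  refine ⟨Matrix.GeneralLinearGroup.mkOfDetNeZero !![(d : F), 0; 0, 1]
    (by simp [Matrix.det_fin_two]), ?_, ?_⟩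
  · apply Units.ext
    simp [Matrix.GeneralLinearGroup.mkOfDetNeZero, Matrix.det_fin_two]
  · apply Matrix.GeneralLinearGroup.ext
    intro i j
    have e01 : (Matrix.SpecialLinearGroup.toGL s : Matrix (Fin 2) (Fin 2) F) 0 1 = 0 := h01
    have e10 : (Matrix.SpecialLinearGroup.toGL s : Matrix (Fin 2) (Fin 2) F) 1 0 = 0 := h10
    fin_cases i <;> fin_cases j <;>
      simp [Matrix.GeneralLinearGroup.mkOfDetNeZero, Matrix.mul_apply, Fin.sum_univ_two, h01, h10,
        mul_comm]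

/-- The main structural statement on irreducible characters of `SL₂(F)`. -/
theorem sl2_lying_under (χ : Matrix.SpecialLinearGroup (Fin 2) F → ℂ)
    (hχ : IsIrrCharacter (Matrix.SpecialLinearGroup (Fin 2) F) χ) :
    ∃ (ψ : GL (Fin 2) F → ℂ) (k : ℕ), IsIrrCharacter (GL (Fin 2) F) ψ ∧ 0 < k ∧
      ψ 1 = (k : ℂ) * χ 1 ∧
      (k = 1 → ∀ s, χ s = ψ (Matrix.SpecialLinearGroup.toGL s)) ∧
      (∀ s, IsStableClass s → ψ (Matrix.SpecialLinearGroup.toGL s) = (k : ℂ) * χ s) := by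
  classical
  obtain ⟨ψ, e, S, hψ, he, hχS, hS, hsum⟩ := sl2_clifford χ hχ
  have hχcf : IsClassFunction (Matrix.SpecialLinearGroup (Fin 2) F) χ :=
    Cfsg.Agent.Helper74.isClassFunction_of_isCharacter (Cfsg.Agent.Helper74.isCharacter_of_isIrr hχ)
  have hstab : ∀ s, IsStableClass s →
      ψ (Matrix.SpecialLinearGroup.toGL s) = ((e * S.card : ℕ) : ℂ) * χ s := by
    intro s hs
    rw [hsum s]
    have : ∀ φ ∈ S, φ s = χ s := by
      intro φ hφ
      obtain ⟨x, hx⟩ := (hS φ hφ).2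
      obtain ⟨n, hn⟩ := hs x
      rw [hx s (n * s * n⁻¹) hn.symm]
      exact hχcf s n
    rw [Finset.sum_congr rfl this, Finset.sum_const, nsmul_eq_mul]
    push_cast
    ring
  have hcard : 0 < S.card := Finset.card_pos.mpr ⟨χ, hχS⟩
  refine ⟨ψ, e * S.card, hψ, Nat.mul_pos he hcard, ?_, ?_, hstab⟩
  · have := hstab 1 isStableClass_one
    rwa [map_one] at this
  · intro hk s
    have he1 : e = 1 := Nat.eq_one_of_mul_eq_one_right hk
    have hS1 : S.card = 1 := Nat.eq_one_of_mul_eq_one_left hk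
    obtain ⟨a, ha⟩ := Finset.card_eq_one.mp hS1
    have hχa : χ = a := by
      rw [ha] at hχS
      exact Finset.mem_singleton.mp hχS
    rw [hsum s, he1, ha, Finset.sum_singleton, ← hχa]
    simp

omit [Field F] [Fintype F] [DecidableEq F] in
theorem mul_eq_cases (k A B : ℕ) (hk : 0 < k) (h : k * A = B) : (k = 1 ∧ A = B) ∨ 2 * A ≤ B := by
  rcases k with _ | _ | k
  · omega
  · left
    exact ⟨rfl, by simpa using h⟩
  · right
    have : (k + 1 + 1) * A = k * A + 2 * A := by ring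
    omega

omit [Fintype F] [DecidableEq F] in
theorem toGL_apply (s : Matrix.SpecialLinearGroup (Fin 2) F) (i j : Fin 2) :
    ((Matrix.SpecialLinearGroup.toGL s : GL (Fin 2) F) : Matrix (Fin 2) (Fin 2) F) i j =
      (s : Matrix (Fin 2) (Fin 2) F) i j := rfl

end Cfsg.Agent.Helper39
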