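import Cfsg.Agent.Helper39.SL2Unip

set_option autoImplicit false

/-!
# The special case `q = 3`: a cuspidal character of `GL₂(F₃)` with irreducible restriction to
`SL₂(F₃)` vanishes at the elements without eigenvectors.
-/

namespace Cfsg.Agent.Helper39

open Matrix Cfsg
open scoped ComplexConjugate

variable {F : Type*} [Field F] [Fintype F] [DecidableEq F]

/-- For `q = 3`, an element of `SL₂(F)` with `tr² ≠ 4` has no fixed point on the projective
line. -/
theorem fixFun_three (h3 : Fintype.card F = 3) (s : Matrix.SpecialLinearGroup (Fin 2) F)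
    (ht : (s : Matrix (Fin 2) (Fin 2) F).trace ^ 2 ≠ 4) : fixFun s = 0 := by
  have hsq : ∀ t : F, t ≠ 0 → t ^ 2 = 1 := by
    intro t ht0
    have := FiniteField.pow_card_sub_one_eq_one t ht0
    rwa [h3] at this
  have hdet : (s : Matrix (Fin 2) (Fin 2) F) 0 0 * (s : Matrix (Fin 2) (Fin 2) F) 1 1 -
      (s : Matrix (Fin 2) (Fin 2) F) 0 1 * (s : Matrix (Fin 2) (Fin 2) F) 1 0 = 1 := by
    have := s.2
    rwa [Matrix.det_fin_two] at this
  rw [Matrix.trace_fin_two] at ht
  -- an eigenvalue pair `l * m = 1`, `l + m = tr` is impossible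
  have key : ∀ l m : F, l * m = 1 →
      l + m = (s : Matrix (Fin 2) (Fin 2) F) 0 0 + (s : Matrix (Fin 2) (Fin 2) F) 1 1 → False := by
    intro l m hlm hsum
    have hl0 : l ≠ 0 := left_ne_zero_of_mul_eq_one hlm
    have hl2 := hsq l hl0
    have hml : m = l := by
      have : l * m = l * l := by rw [hlm, ← sq, hl2]
      exact mul_left_cancel₀ hl0 this
    apply ht
    rw [← hsum, hml]
    linear_combination 4 * hl2
  rw [fixFun_eq_count]
  have h10 : (s : Matrix (Fin 2) (Fin 2) F) 1 0 ≠ 0 := by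
    intro h0
    apply key _ _ _ rfl
    rw [h0, mul_zero, sub_zero] at hdet
    exact hdet
  rw [if_neg h10, zero_add]
  apply Finset.sum_eq_zero
  intro c _
  rw [if_neg]
  intro hc
  apply key ((s : Matrix (Fin 2) (Fin 2) F) 1 0 * c + (s : Matrix (Fin 2) (Fin 2) F) 1 1)
    ((s : Matrix (Fin 2) (Fin 2) F) 0 0 - c * (s : Matrix (Fin 2) (Fin 2) F) 1 0)
  · linear_combination hdet + (s : Matrix (Fin 2) (Fin 2) F) 1 0 * hc
  · ring

omit [Fintype F] [DecidableEq F] in
/-- A scalar element of `SL₂(F)` is `±1`. -/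
theorem eq_one_or_zSL (s : Matrix.SpecialLinearGroup (Fin 2) F)
    (h01 : (s : Matrix (Fin 2) (Fin 2) F) 0 1 = 0) (h10 : (s : Matrix (Fin 2) (Fin 2) F) 1 0 = 0)
    (heq : (s : Matrix (Fin 2) (Fin 2) F) 0 0 = (s : Matrix (Fin 2) (Fin 2) F) 1 1) :
    s = 1 ∨ s = zSL := by
  have hdet := s.2
  rw [Matrix.det_fin_two, h01, zero_mul, sub_zero, ← heq] at hdet
  have hfac : ((s : Matrix (Fin 2) (Fin 2) F) 0 0 - 1) * ((s : Matrix (Fin 2) (Fin 2) F) 0 0 + 1) = 0 := by
    linear_combination hdet
  rcases mul_eq_zero.mp hfac with h | h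
  · left
    have h00 : (s : Matrix (Fin 2) (Fin 2) F) 0 0 = 1 := sub_eq_zero.mp h
    apply sl2_ext
    · rw [h00]; rfl
    · rw [h01]; rfl
    · rw [h10]; rfl
    · rw [← heq, h00]; rfl
  · right
    have h00 : (s : Matrix (Fin 2) (Fin 2) F) 0 0 = -1 := eq_neg_of_add_eq_zero_left h
    apply sl2_ext
    · rw [h00]; rfl
    · rw [h01]; rfl
    · rw [h10]; rfl
    · rw [← heq, h00]; rfl

/-- For `q = 3`: an irreducible character `ψ` of `GL₂(F)` of degree `2` with `ψ(u) = -1` whose
restriction to `SL₂(F)` is irreducible vanishes at the elements of `SL₂(F)` with `tr² ≠ 4`. -/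
theorem cuspidal_vanish_three (h3 : Fintype.card F = 3) (ψ : GL (Fin 2) F → ℂ)
    (hψ : IsIrrCharacter (GL (Fin 2) F) ψ) (hdeg : ψ 1 = 2) (hu : ψ (uElt F) = -1)
    (hirr : IsIrrCharacter (Matrix.SpecialLinearGroup (Fin 2) F)
      (fun s => ψ (Matrix.SpecialLinearGroup.toGL s)))
    (g : Matrix.SpecialLinearGroup (Fin 2) F)
    (hg : (g : Matrix (Fin 2) (Fin 2) F).trace ^ 2 ≠ 4) :
    ψ (Matrix.SpecialLinearGroup.toGL g) = 0 := by
  classical
  set χ : Matrix.SpecialLinearGroup (Fin 2) F → ℂ :=
    fun s => ψ (Matrix.SpecialLinearGroup.toGL s) with hχdef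
  have hψcf : IsClassFunction (GL (Fin 2) F) ψ :=
    Cfsg.Agent.Helper74.isClassFunction_of_isCharacter (Cfsg.Agent.Helper74.isCharacter_of_isIrr hψ)
  have hχcf : IsClassFunction (Matrix.SpecialLinearGroup (Fin 2) F) χ :=
    Cfsg.Agent.Helper74.isClassFunction_of_isCharacter (Cfsg.Agent.Helper74.isCharacter_of_isIrr hirr)
  set f : Matrix.SpecialLinearGroup (Fin 2) F → ℂ := fun s => χ s * conj (χ s) with hfdef
  have hfcf : IsClassFunction (Matrix.SpecialLinearGroup (Fin 2) F) f := by
    intro s n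
    simp only [hfdef]
    rw [hχcf s n]
  have h2 : (2 : F) ≠ 0 := by
    have hch : ringChar F ≠ 2 := by
      intro h
      have := FiniteField.even_card_of_char_two h
      omega
    exact Ring.two_ne_zero hch
  have hsq : ∀ t : F, t ≠ 0 → t ^ 2 = 1 := by
    intro t ht0
    have := FiniteField.pow_card_sub_one_eq_one t ht0
    rwa [h3] at this
  obtain ⟨c, hc1, hc⟩ := irr_central_mul hirr zSL zSL_comm
  have hcc : c * conj c = 1 := by
    rw [Complex.mul_conj, Complex.normSq_eq_norm_sq, hc1]
    simp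
  have hfz : ∀ s, f (zSL * s) = f s := by
    intro s
    simp only [hfdef]
    have := hc s
    change χ (zSL * s) = c * χ s at this
    rw [this, map_mul]
    linear_combination (χ s * conj (χ s)) * hcc
  have hf1 : f 1 = 4 := by
    simp only [hfdef, hχdef, map_one, hdeg]
    have : (starRingEnd ℂ) (2 : ℂ) = 2 := by
      rw [show (2 : ℂ) = ((2 : ℝ) : ℂ) by norm_num, Complex.conj_ofReal]
    rw [this]
    norm_num
  have hfz1 : f zSL = 4 := by
    have := hfz 1
    rwa [mul_one, hf1] at this
  have huSL0 : uSL (0 : F) = 1 := by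
    apply sl2_ext <;> rfl
  have hfu : ∀ x : F, x ≠ 0 → f (uSL x) = 1 := by
    intro x hx
    have h1 : χ (uSL x) = -1 := by
      simp only [hχdef]
      rw [toGL_uSL]
      obtain ⟨k, hk⟩ := conj_unipotent x hx
      rw [← hk, hψcf _ k]
      exact hu
    simp only [hfdef, h1]
    simp
  have hB : ∀ (a : Fˣ) (x : F),
      f ((Cfsg.Agent.S2306.bElt (a, x) : BSL F) : Matrix.SpecialLinearGroup (Fin 2) F) =
        if x = 0 then 4 else 1 := by
    intro a x
    have ha : a = 1 ∨ a = -1 := by
      have h := hsq (a : F) a.ne_zero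
      have hfac : ((a : F) - 1) * ((a : F) + 1) = 0 := by linear_combination h
      rcases mul_eq_zero.mp hfac with h' | h'
      · left
        exact Units.ext (sub_eq_zero.mp h')
      · right
        apply Units.ext
        rw [Units.val_neg, Units.val_one]
        exact eq_neg_of_add_eq_zero_left h'
    rcases ha with rfl | rfl
    · rw [bElt_one]
      split_ifs with hx
      · rw [hx, huSL0]; exact hf1
      · exact hfu x hx
    · rw [bElt_neg_one, hfz]
      split_ifs with hx
      · rw [hx, neg_zero, huSL0]; exact hf1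
      · exact hfu (-x) (neg_ne_zero.mpr hx)
  -- the two sums
  have hcardSL : (Nat.card (Matrix.SpecialLinearGroup (Fin 2) F) : ℂ) = 24 := by
    rw [Cfsg.Agent.Helper5.card_SL2, h3]
    norm_num
  have hS1 : ∑ s, f s = 24 := by
    have h := Cfsg.Agent.Helper74.irr_inner_self
      (⟨χ, hirr⟩ : IrrCharacter (Matrix.SpecialLinearGroup (Fin 2) F))
    rw [Cfsg.Agent.Helper74.classInner_def, hcardSL] at h
    have h' : (24 : ℂ)⁻¹ * ∑ s, f s = 1 := h
    field_simp at h'
    linear_combination h'
  have hS2 : ∑ s, fixFun s * f s = 48 := by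
    rw [frob_fixed f hfcf]
    simp only [hB]
    have hx : ∑ x : F, (if x = 0 then (4 : ℂ) else 1) = 6 := by
      have : ∀ x : F, (if x = 0 then (4 : ℂ) else 1) = 1 + (if x = 0 then 3 else 0) := by
        intro x
        split_ifs <;> norm_num
      simp only [this]
      rw [Finset.sum_add_distrib, Finset.sum_ite_eq' Finset.univ]
      simp [h3]
      norm_num
    rw [hx, Finset.sum_const, Finset.card_univ, Fintype.card_units, h3]
    norm_num
  -- pointwise evaluation
  have h1z : (1 : Matrix.SpecialLinearGroup (Fin 2) F) ≠ zSL := by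
    intro h
    have := congrArg (fun s : Matrix.SpecialLinearGroup (Fin 2) F =>
      (s : Matrix (Fin 2) (Fin 2) F) 0 0) h
    simp only [zSL_00] at this
    have h' : (1 : F) = -1 := by simpa using this
    apply h2
    linear_combination h'
  have htr1 : ((1 : Matrix.SpecialLinearGroup (Fin 2) F) : Matrix (Fin 2) (Fin 2) F).trace ^ 2 = 4 := by
    rw [Matrix.trace_fin_two]
    simp
    norm_num
  have htrz : ((zSL : Matrix.SpecialLinearGroup (Fin 2) F) : Matrix (Fin 2) (Fin 2) F).trace ^ 2 = 4 := by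
    rw [Matrix.trace_fin_two, zSL_00, zSL_11]
    norm_num
  have hpt : ∀ s : Matrix.SpecialLinearGroup (Fin 2) F, f s * (fixFun s - 1) =
      (if s = 1 ∨ s = zSL then (12 : ℂ) else 0) -
        (if (s : Matrix (Fin 2) (Fin 2) F).trace ^ 2 ≠ 4 then f s else 0) := by
    intro s
    by_cases ht : (s : Matrix (Fin 2) (Fin 2) F).trace ^ 2 ≠ 4
    · have hne : ¬ (s = 1 ∨ s = zSL) := by
        rintro (rfl | rfl)
        · exact ht htr1
        · exact ht htrz
      rw [if_pos ht, if_neg hne, fixFun_three h3 s ht]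
      ring
    · rw [not_not] at ht
      rw [if_neg (not_not.mpr ht)]
      by_cases hns : (s : Matrix (Fin 2) (Fin 2) F) 0 1 = 0 ∧ (s : Matrix (Fin 2) (Fin 2) F) 1 0 = 0
      · have hdet := s.2
        rw [Matrix.det_fin_two, hns.1, zero_mul, sub_zero] at hdet
        have heq : (s : Matrix (Fin 2) (Fin 2) F) 0 0 = (s : Matrix (Fin 2) (Fin 2) F) 1 1 := by
          rw [Matrix.trace_fin_two] at ht
          have h0 : ((s : Matrix (Fin 2) (Fin 2) F) 0 0 - (s : Matrix (Fin 2) (Fin 2) F) 1 1) ^ 2 = 0 := by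
            linear_combination ht - 4 * hdet
          exact sub_eq_zero.mp (pow_eq_zero_iff two_ne_zero |>.mp h0)
        have hs := eq_one_or_zSL s hns.1 hns.2 heq
        rw [if_pos hs, fixFun_of_scalar s hns.1 hns.2 heq, h3]
        rcases hs with rfl | rfl
        · rw [hf1]; norm_num
        · rw [hfz1]; norm_num
      · have hne : ¬ (s = 1 ∨ s = zSL) := by
          rintro (rfl | rfl)
          · exact hns ⟨rfl, rfl⟩
          · exact hns ⟨rfl, rfl⟩
        rw [if_neg hne, fixFun_of_parabolic h2 s ht hns]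
        ring
  have hS3 : ∑ s : Matrix.SpecialLinearGroup (Fin 2) F,
      (if s = 1 ∨ s = zSL then (12 : ℂ) else 0) = 24 := by
    have : ∀ s : Matrix.SpecialLinearGroup (Fin 2) F, (if s = 1 ∨ s = zSL then (12 : ℂ) else 0) =
        (if s = 1 then 12 else 0) + (if s = zSL then 12 else 0) := by
      intro s
      by_cases hs1 : s = 1
      · have : s ≠ zSL := by rw [hs1]; exact h1z
        simp [hs1, h1z]
      · simp [hs1]
    simp only [this]
    rw [Finset.sum_add_distrib, Finset.sum_ite_eq' Finset.univ, Finset.sum_ite_eq' Finset.univ]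
    simp
    norm_num
  have hS4 : ∑ s : Matrix.SpecialLinearGroup (Fin 2) F,
      (if (s : Matrix (Fin 2) (Fin 2) F).trace ^ 2 ≠ 4 then f s else 0) = 0 := by
    have hsum : ∑ s, f s * (fixFun s - 1) = 24 := by
      have : ∀ s, f s * (fixFun s - 1) = fixFun s * f s - f s := fun s => by ring
      simp only [this]
      rw [Finset.sum_sub_distrib, hS1, hS2]
      norm_num
    simp only [hpt] at hsum
    rw [Finset.sum_sub_distrib, hS3] at hsum
    linear_combination -hsum
  -- positivity
  have hreal : ∀ s, f s = ((Complex.normSq (χ s) : ℝ) : ℂ) := by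
    intro s
    simp only [hfdef]
    exact Complex.mul_conj (χ s)
  have hS5 : ∑ s : Matrix.SpecialLinearGroup (Fin 2) F,
      (if (s : Matrix (Fin 2) (Fin 2) F).trace ^ 2 ≠ 4 then Complex.normSq (χ s) else 0) = 0 := by
    have : ((∑ s : Matrix.SpecialLinearGroup (Fin 2) F,
        (if (s : Matrix (Fin 2) (Fin 2) F).trace ^ 2 ≠ 4 then Complex.normSq (χ s) else 0) : ℝ) : ℂ) = 0 := by
      rw [← hS4]
      push_cast
      apply Finset.sum_congr rfl
      intro s _
      split_ifs
      · rw [hreal]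
      · rfl
    exact_mod_cast this
  have hzero := (Finset.sum_eq_zero_iff_of_nonneg (fun s _ => by
    split_ifs
    · exact Complex.normSq_nonneg _
    · exact le_refl _)).mp hS5 g (Finset.mem_univ g)
  rw [if_pos hg] at hzero
  exact Complex.normSq_eq_zero.mp hzero

end Cfsg.Agent.Helper39
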