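import Cfsg.Agent.Helper39.SL2Fixed

set_option autoImplicit false

/-!
# The outer twist of `SL₂(F)` by `diag(d, 1)`, and unipotent elements
-/

namespace Cfsg.Agent.Helper39

open Matrix Cfsg
open scoped ComplexConjugate

variable {F : Type*} [Field F]

/-- Conjugation by `diag(d, 1)` on `SL₂(F)`. -/
def twistFun (d : Fˣ) (s : Matrix.SpecialLinearGroup (Fin 2) F) :
    Matrix.SpecialLinearGroup (Fin 2) F :=
  mkSL2 !![(s : Matrix (Fin 2) (Fin 2) F) 0 0, (d : F) * (s : Matrix (Fin 2) (Fin 2) F) 0 1;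
    ((d⁻¹ : Fˣ) : F) * (s : Matrix (Fin 2) (Fin 2) F) 1 0, (s : Matrix (Fin 2) (Fin 2) F) 1 1] (by
    have h := s.2
    rw [Matrix.det_fin_two] at h
    rw [Matrix.det_fin_two_of]
    have hd : (d : F) * ((d⁻¹ : Fˣ) : F) = 1 := by rw [← Units.val_mul, mul_inv_cancel, Units.val_one]
    linear_combination h - (s : Matrix (Fin 2) (Fin 2) F) 0 1 * (s : Matrix (Fin 2) (Fin 2) F) 1 0 * hd)

theorem twistFun_00 (d : Fˣ) (s : Matrix.SpecialLinearGroup (Fin 2) F) :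
    (twistFun d s : Matrix (Fin 2) (Fin 2) F) 0 0 = (s : Matrix (Fin 2) (Fin 2) F) 0 0 := rfl
theorem twistFun_01 (d : Fˣ) (s : Matrix.SpecialLinearGroup (Fin 2) F) :
    (twistFun d s : Matrix (Fin 2) (Fin 2) F) 0 1 = (d : F) * (s : Matrix (Fin 2) (Fin 2) F) 0 1 := rfl
theorem twistFun_10 (d : Fˣ) (s : Matrix.SpecialLinearGroup (Fin 2) F) :
    (twistFun d s : Matrix (Fin 2) (Fin 2) F) 1 0 =
      ((d⁻¹ : Fˣ) : F) * (s : Matrix (Fin 2) (Fin 2) F) 1 0 := rfl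
theorem twistFun_11 (d : Fˣ) (s : Matrix.SpecialLinearGroup (Fin 2) F) :
    (twistFun d s : Matrix (Fin 2) (Fin 2) F) 1 1 = (s : Matrix (Fin 2) (Fin 2) F) 1 1 := rfl

theorem sl2_ext (s t : Matrix.SpecialLinearGroup (Fin 2) F)
    (h00 : (s : Matrix (Fin 2) (Fin 2) F) 0 0 = (t : Matrix (Fin 2) (Fin 2) F) 0 0)
    (h01 : (s : Matrix (Fin 2) (Fin 2) F) 0 1 = (t : Matrix (Fin 2) (Fin 2) F) 0 1)
    (h10 : (s : Matrix (Fin 2) (Fin 2) F) 1 0 = (t : Matrix (Fin 2) (Fin 2) F) 1 0)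
    (h11 : (s : Matrix (Fin 2) (Fin 2) F) 1 1 = (t : Matrix (Fin 2) (Fin 2) F) 1 1) : s = t := by
  apply Matrix.SpecialLinearGroup.ext
  intro i j
  fin_cases i <;> fin_cases j <;> assumption

theorem sl2_mul_00 (s t : Matrix.SpecialLinearGroup (Fin 2) F) :
    ((s * t : Matrix.SpecialLinearGroup (Fin 2) F) : Matrix (Fin 2) (Fin 2) F) 0 0 =
      (s : Matrix (Fin 2) (Fin 2) F) 0 0 * (t : Matrix (Fin 2) (Fin 2) F) 0 0 +
      (s : Matrix (Fin 2) (Fin 2) F) 0 1 * (t : Matrix (Fin 2) (Fin 2) F) 1 0 := by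
  rw [Matrix.SpecialLinearGroup.coe_mul, Matrix.mul_apply, Fin.sum_univ_two]
theorem sl2_mul_01 (s t : Matrix.SpecialLinearGroup (Fin 2) F) :
    ((s * t : Matrix.SpecialLinearGroup (Fin 2) F) : Matrix (Fin 2) (Fin 2) F) 0 1 =
      (s : Matrix (Fin 2) (Fin 2) F) 0 0 * (t : Matrix (Fin 2) (Fin 2) F) 0 1 +
      (s : Matrix (Fin 2) (Fin 2) F) 0 1 * (t : Matrix (Fin 2) (Fin 2) F) 1 1 := by
  rw [Matrix.SpecialLinearGroup.coe_mul, Matrix.mul_apply, Fin.sum_univ_two]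
theorem sl2_mul_10 (s t : Matrix.SpecialLinearGroup (Fin 2) F) :
    ((s * t : Matrix.SpecialLinearGroup (Fin 2) F) : Matrix (Fin 2) (Fin 2) F) 1 0 =
      (s : Matrix (Fin 2) (Fin 2) F) 1 0 * (t : Matrix (Fin 2) (Fin 2) F) 0 0 +
      (s : Matrix (Fin 2) (Fin 2) F) 1 1 * (t : Matrix (Fin 2) (Fin 2) F) 1 0 := by
  rw [Matrix.SpecialLinearGroup.coe_mul, Matrix.mul_apply, Fin.sum_univ_two]
theorem sl2_mul_11 (s t : Matrix.SpecialLinearGroup (Fin 2) F) :
    ((s * t : Matrix.SpecialLinearGroup (Fin 2) F) : Matrix (Fin 2) (Fin 2) F) 1 1 =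
      (s : Matrix (Fin 2) (Fin 2) F) 1 0 * (t : Matrix (Fin 2) (Fin 2) F) 0 1 +
      (s : Matrix (Fin 2) (Fin 2) F) 1 1 * (t : Matrix (Fin 2) (Fin 2) F) 1 1 := by
  rw [Matrix.SpecialLinearGroup.coe_mul, Matrix.mul_apply, Fin.sum_univ_two]

theorem units_mul_inv_val (d : Fˣ) : (d : F) * ((d⁻¹ : Fˣ) : F) = 1 := by
  rw [← Units.val_mul, mul_inv_cancel, Units.val_one]

theorem twistFun_mul (d : Fˣ) (s t : Matrix.SpecialLinearGroup (Fin 2) F) :
    twistFun d (s * t) = twistFun d s * twistFun d t := by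
  have hd := units_mul_inv_val d
  apply sl2_ext
  · rw [twistFun_00, sl2_mul_00, sl2_mul_00, twistFun_00, twistFun_00, twistFun_01, twistFun_10]
    linear_combination (-(s : Matrix (Fin 2) (Fin 2) F) 0 1 * (t : Matrix (Fin 2) (Fin 2) F) 1 0) * hd
  · rw [twistFun_01, sl2_mul_01, sl2_mul_01, twistFun_00, twistFun_01, twistFun_01, twistFun_11]
    ring
  · rw [twistFun_10, sl2_mul_10, sl2_mul_10, twistFun_00, twistFun_10, twistFun_10, twistFun_11]
    ring
  · rw [twistFun_11, sl2_mul_11, sl2_mul_11, twistFun_11, twistFun_11, twistFun_01, twistFun_10]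
    linear_combination (-(s : Matrix (Fin 2) (Fin 2) F) 1 0 * (t : Matrix (Fin 2) (Fin 2) F) 0 1) * hd

theorem twistFun_one (d : Fˣ) : twistFun d (1 : Matrix.SpecialLinearGroup (Fin 2) F) = 1 := by
  apply sl2_ext
  · rw [twistFun_00]
  · rw [twistFun_01]; simp
  · rw [twistFun_10]; simp
  · rw [twistFun_11]

/-- The twist as a homomorphism. -/
def twistHom (d : Fˣ) :
    Matrix.SpecialLinearGroup (Fin 2) F →* Matrix.SpecialLinearGroup (Fin 2) F where
  toFun := twistFun d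
  map_one' := twistFun_one d
  map_mul' := twistFun_mul d

theorem twistFun_twistFun (d d' : Fˣ) (s : Matrix.SpecialLinearGroup (Fin 2) F) :
    twistFun d (twistFun d' s) = twistFun (d * d') s := by
  apply sl2_ext
  · rfl
  · rw [twistFun_01, twistFun_01, twistFun_01, Units.val_mul]; ring
  · rw [twistFun_10, twistFun_10, twistFun_10, mul_inv, Units.val_mul]; ring
  · rfl

theorem twistFun_one_left (s : Matrix.SpecialLinearGroup (Fin 2) F) : twistFun 1 s = s := by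
  apply sl2_ext
  · rfl
  · rw [twistFun_01]; simp
  · rw [twistFun_10]; simp
  · rfl

theorem twistHom_surjective (d : Fˣ) : Function.Surjective (twistHom (F := F) d) := by
  intro s
  refine ⟨twistFun d⁻¹ s, ?_⟩
  show twistFun d (twistFun d⁻¹ s) = s
  rw [twistFun_twistFun, mul_inv_cancel, twistFun_one_left]

/-- `diag(d, 1)` as an element of `GL₂(F)`. -/
noncomputable def dGL (d : Fˣ) : GL (Fin 2) F :=
  Matrix.GeneralLinearGroup.mkOfDetNeZero !![(d : F), 0; 0, 1] (by simp [Matrix.det_fin_two])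

theorem det_dGL (d : Fˣ) : Matrix.GeneralLinearGroup.det (dGL d) = d := by
  apply Units.ext
  simp [dGL, Matrix.GeneralLinearGroup.mkOfDetNeZero, Matrix.det_fin_two]

theorem toGL_twistFun (d : Fˣ) (s : Matrix.SpecialLinearGroup (Fin 2) F) :
    Matrix.SpecialLinearGroup.toGL (twistFun d s) =
      dGL d * Matrix.SpecialLinearGroup.toGL s * (dGL d)⁻¹ := by
  rw [eq_mul_inv_iff_mul_eq]
  have hd := units_mul_inv_val d
  apply Matrix.GeneralLinearGroup.ext
  intro i j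
  rw [Matrix.GeneralLinearGroup.coe_mul, Matrix.GeneralLinearGroup.coe_mul, Matrix.mul_apply,
    Matrix.mul_apply, Fin.sum_univ_two, Fin.sum_univ_two]
  fin_cases i <;> fin_cases j
  · simp [dGL, Matrix.GeneralLinearGroup.mkOfDetNeZero, toGL_apply, twistFun_00, twistFun_01]
    ring
  · simp [dGL, Matrix.GeneralLinearGroup.mkOfDetNeZero, toGL_apply, twistFun_00, twistFun_01]
  · simp [dGL, Matrix.GeneralLinearGroup.mkOfDetNeZero, toGL_apply, twistFun_10, twistFun_11]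
    have hd0 : (d : F) ≠ 0 := d.ne_zero
    field_simp
  · simp [dGL, Matrix.GeneralLinearGroup.mkOfDetNeZero, toGL_apply, twistFun_10, twistFun_11]

/-- `diag(c, c⁻¹)` in `SL₂(F)`. -/
def diagSL (c : Fˣ) : Matrix.SpecialLinearGroup (Fin 2) F :=
  mkSL2 !![(c : F), 0; 0, ((c⁻¹ : Fˣ) : F)] (by
    rw [Matrix.det_fin_two_of, units_mul_inv_val]; ring)

theorem twistFun_sq (c : Fˣ) (s : Matrix.SpecialLinearGroup (Fin 2) F) :
    twistFun (c * c) s = diagSL c * s * (diagSL c)⁻¹ := by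
  rw [eq_mul_inv_iff_mul_eq]
  have hd := units_mul_inv_val c
  have e00 : (diagSL c : Matrix (Fin 2) (Fin 2) F) 0 0 = c := rfl
  have e01 : (diagSL c : Matrix (Fin 2) (Fin 2) F) 0 1 = 0 := rfl
  have e10 : (diagSL c : Matrix (Fin 2) (Fin 2) F) 1 0 = 0 := rfl
  have e11 : (diagSL c : Matrix (Fin 2) (Fin 2) F) 1 1 = ((c⁻¹ : Fˣ) : F) := rfl
  apply sl2_ext
  · rw [sl2_mul_00, sl2_mul_00, twistFun_00, twistFun_01, e00, e10, e01]; ring
  · rw [sl2_mul_01, sl2_mul_01, twistFun_00, twistFun_01, e01, e11, e00, Units.val_mul]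
    linear_combination ((c : F) * (s : Matrix (Fin 2) (Fin 2) F) 0 1) * hd
  · rw [sl2_mul_10, sl2_mul_10, twistFun_10, twistFun_11, e00, e10, e11, mul_inv, Units.val_mul]
    linear_combination (((c⁻¹ : Fˣ) : F) * (s : Matrix (Fin 2) (Fin 2) F) 1 0) * hd
  · rw [sl2_mul_11, sl2_mul_11, twistFun_10, twistFun_11, e01, e11, e10]; ring

/-- Conjugation by an element of `GL₂(F)` of determinant `d` is the twist by `d` followed by an
inner automorphism. -/
theorem exists_conj_twist (x : GL (Fin 2) F) (s s' : Matrix.SpecialLinearGroup (Fin 2) F)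
    (h : Matrix.SpecialLinearGroup.toGL s' = x * Matrix.SpecialLinearGroup.toGL s * x⁻¹) :
    ∃ n : Matrix.SpecialLinearGroup (Fin 2) F,
      s' = n * twistFun (Matrix.GeneralLinearGroup.det x) s * n⁻¹ := by
  set d := Matrix.GeneralLinearGroup.det x with hd
  have hmem : x * (dGL d)⁻¹ ∈ slSub F := by
    rw [mem_slSub_iff]
    have h1 : ((x * (dGL d)⁻¹ : GL (Fin 2) F) : Matrix (Fin 2) (Fin 2) F).det =
        Matrix.GeneralLinearGroup.det (x * (dGL d)⁻¹) := rfl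
    rw [h1, map_mul, map_inv, det_dGL, ← hd, mul_inv_cancel]
    rfl
  obtain ⟨n, hn⟩ := hmem
  refine ⟨n, ?_⟩
  apply Matrix.SpecialLinearGroup.toGL_injective
  rw [h, map_mul, map_mul, map_inv, toGL_twistFun, hn]
  rw [_root_.mul_inv_rev, inv_inv]
  group

/-- On a stable class, a class function is invariant under the twist. -/
theorem apply_twistFun_of_stable {χ : Matrix.SpecialLinearGroup (Fin 2) F → ℂ}
    (hχ : IsClassFunction (Matrix.SpecialLinearGroup (Fin 2) F) χ)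
    (s : Matrix.SpecialLinearGroup (Fin 2) F) (hs : IsStableClass s) (d : Fˣ) :
    χ (twistFun d s) = χ s := by
  obtain ⟨n, hn⟩ := hs (dGL d)
  rw [← toGL_twistFun] at hn
  rw [Matrix.SpecialLinearGroup.toGL_injective hn]
  exact hχ s n

/-- A class function is invariant under the twist by a square. -/
theorem apply_twistFun_sq {χ : Matrix.SpecialLinearGroup (Fin 2) F → ℂ}
    (hχ : IsClassFunction (Matrix.SpecialLinearGroup (Fin 2) F) χ)
    (s : Matrix.SpecialLinearGroup (Fin 2) F) (c : Fˣ) :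
    χ (twistFun (c * c) s) = χ s := by
  rw [twistFun_sq]
  exact hχ s (diagSL c)

/-- The unipotent element `!![1, x; 0, 1]`. -/
def uSL (x : F) : Matrix.SpecialLinearGroup (Fin 2) F :=
  mkSL2 !![1, x; 0, 1] (by simp [Matrix.det_fin_two])

/-- The central element `-1`. -/
def zSL : Matrix.SpecialLinearGroup (Fin 2) F :=
  mkSL2 !![-1, 0; 0, -1] (by simp [Matrix.det_fin_two])

theorem uSL_00 (x : F) : (uSL x : Matrix (Fin 2) (Fin 2) F) 0 0 = 1 := rfl
theorem uSL_01 (x : F) : (uSL x : Matrix (Fin 2) (Fin 2) F) 0 1 = x := rfl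
theorem uSL_10 (x : F) : (uSL x : Matrix (Fin 2) (Fin 2) F) 1 0 = 0 := rfl
theorem uSL_11 (x : F) : (uSL x : Matrix (Fin 2) (Fin 2) F) 1 1 = 1 := rfl
theorem zSL_00 : (zSL : Matrix.SpecialLinearGroup (Fin 2) F).1 0 0 = -1 := rfl
theorem zSL_01 : (zSL : Matrix.SpecialLinearGroup (Fin 2) F).1 0 1 = 0 := rfl
theorem zSL_10 : (zSL : Matrix.SpecialLinearGroup (Fin 2) F).1 1 0 = 0 := rfl
theorem zSL_11 : (zSL : Matrix.SpecialLinearGroup (Fin 2) F).1 1 1 = -1 := rfl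

theorem twistFun_uSL (d : Fˣ) (x : F) : twistFun d (uSL x) = uSL ((d : F) * x) := by
  apply sl2_ext
  · rfl
  · rfl
  · rw [twistFun_10, uSL_10, uSL_10, mul_zero]
  · rfl

theorem twistFun_zSL (d : Fˣ) : twistFun d (zSL : Matrix.SpecialLinearGroup (Fin 2) F) = zSL := by
  apply sl2_ext
  · rfl
  · rw [twistFun_01, zSL_01, mul_zero]
  · rw [twistFun_10, zSL_10, mul_zero]
  · rfl

theorem zSL_comm (s : Matrix.SpecialLinearGroup (Fin 2) F) : zSL * s = s * zSL := by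
  apply sl2_ext
  · rw [sl2_mul_00, sl2_mul_00, zSL_00, zSL_01, zSL_10]; ring
  · rw [sl2_mul_01, sl2_mul_01, zSL_00, zSL_01, zSL_11]; ring
  · rw [sl2_mul_10, sl2_mul_10, zSL_00, zSL_10, zSL_11]; ring
  · rw [sl2_mul_11, sl2_mul_11, zSL_01, zSL_10, zSL_11]; ring

theorem bElt_one (x : F) :
    ((Cfsg.Agent.S2306.bElt ((1 : Fˣ), x) : BSL F) : Matrix.SpecialLinearGroup (Fin 2) F) =
      uSL x := by
  apply sl2_ext
  · rfl
  · rfl
  · rfl
  · rw [Cfsg.Agent.S2306.bElt_11, uSL_11]; simp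

theorem bElt_neg_one (x : F) :
    ((Cfsg.Agent.S2306.bElt ((-1 : Fˣ), x) : BSL F) : Matrix.SpecialLinearGroup (Fin 2) F) =
      zSL * uSL (-x) := by
  apply sl2_ext
  · rw [sl2_mul_00, zSL_00, zSL_01, uSL_00, uSL_10, Cfsg.Agent.S2306.bElt_00]; simp
  · rw [sl2_mul_01, zSL_00, zSL_01, uSL_01, uSL_11, Cfsg.Agent.S2306.bElt_01]; simp
  · rw [sl2_mul_10, zSL_10, zSL_11, uSL_00, uSL_10, Cfsg.Agent.S2306.bElt_10]; simp
  · rw [sl2_mul_11, zSL_10, zSL_11, uSL_01, uSL_11, Cfsg.Agent.S2306.bElt_11]; simp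

theorem toGL_uSL (x : F) :
    Matrix.SpecialLinearGroup.toGL (uSL x) =
      ((bEltGL ((1 : Fˣ), (1 : Fˣ), x) : Cfsg.upperTriangularGL 2 F) : GL (Fin 2) F) := by
  apply Matrix.GeneralLinearGroup.ext
  intro i j
  fin_cases i <;> fin_cases j
  · rfl
  · rfl
  · rfl
  · rfl

end Cfsg.Agent.Helper39
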